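import Groth.Agent.FunFld.Residue.ASBasis

/-!
The partial fraction family of regular differentials of an Artin–Schreier curve in characteristic 2.
-/

set_option autoImplicit false
universe u v w

open WithZero _root_.FunFld Polynomial
open scoped LaurentSeries

noncomputable section

namespace Groth.Agent.FunFld.Residue

variable {k : Type u} [Field k]

theorem linearIndependent_of_mult {ι : Type*} (p : ι → k[X]) (a : ι → k) (r : ι → ℕ) (h0 : ∀ i, p i ≠ 0)
    (h : ∀ i i', i' ≠ i → r i' ≤ r i → (p i).rootMultiplicity (a i) < (p i').rootMultiplicity (a i)) :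
    LinearIndependent k p := by
  classical
  rw [linearIndependent_iff']
  intro s g hsum
  by_contra! hne
  obtain ⟨i₁, hi₁, hg₁⟩ := hne
  obtain ⟨i, hi, hmax⟩ := Finset.exists_max_image (s.filter fun i => g i ≠ 0) r
    ⟨i₁, Finset.mem_filter.2 ⟨hi₁, hg₁⟩⟩
  rw [Finset.mem_filter] at hi
  have hdvd : (X - C (a i)) ^ ((p i).rootMultiplicity (a i) + 1) ∣ g i • p i := by
    rw [← Finset.add_sum_erase _ _ hi.1] at hsum
    rw [eq_neg_of_add_eq_zero_left hsum, dvd_neg]
    refine Finset.dvd_sum fun i' hi' => ?_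
    rw [Finset.mem_erase] at hi'
    rcases eq_or_ne (g i') 0 with hg | hg
    · simp [hg]
    rw [Polynomial.smul_eq_C_mul]
    refine Dvd.dvd.mul_left ((le_rootMultiplicity_iff (h0 i')).1 ?_) _
    exact h i i' hi'.1 (hmax i' (Finset.mem_filter.2 ⟨hi'.2, hg⟩))
  rw [← le_rootMultiplicity_iff (smul_ne_zero hi.2 (h0 i)), Polynomial.smul_eq_C_mul,
    rootMultiplicity_mul (mul_ne_zero (C_ne_zero.2 hi.2) (h0 i)), rootMultiplicity_C, zero_add] at hdvd
  omega

theorem rootMultiplicity_prod_pow (B : Finset k) (d : k → ℕ) (γ : k) [DecidableEq k] :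
    (∏ α ∈ B, (X - C α) ^ d α).rootMultiplicity γ = if γ ∈ B then d γ else 0 := by
  classical
  induction B using Finset.induction with
  | empty => simp
  | insert a s ha ih =>
    rw [Finset.prod_insert ha, rootMultiplicity_mul (mul_ne_zero (pow_ne_zero _ (X_sub_C_ne_zero _))
      (Finset.prod_ne_zero_iff.2 fun x _ => pow_ne_zero _ (X_sub_C_ne_zero _))), ih]
    rcases eq_or_ne γ a with rfl | hne
    · rw [rootMultiplicity_X_sub_C_pow, if_neg ha, if_pos (Finset.mem_insert_self _ _), add_zero]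
    · rw [rootMultiplicity_eq_zero (by simp [IsRoot, sub_eq_zero, hne]), zero_add]
      simp [Finset.mem_insert, hne]

theorem rootMultiplicity_mul_X_sub_C_pow {p : k[X]} (hp : p ≠ 0) (γ β : k) (m : ℕ) [DecidableEq k] :
    (p * (X - C β) ^ m).rootMultiplicity γ = p.rootMultiplicity γ + if γ = β then m else 0 := by
  rw [rootMultiplicity_mul (mul_ne_zero hp (pow_ne_zero _ (X_sub_C_ne_zero _)))]
  congr 1
  rcases eq_or_ne γ β with rfl | hne
  · rw [rootMultiplicity_X_sub_C_pow, if_pos rfl]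
  · rw [if_neg hne, rootMultiplicity_eq_zero (by simp [IsRoot, sub_eq_zero, hne])]

variable {K : Type v} [Field K] [Algebra k K] [Algebra (RatFunc k) K] [IsScalarTower k (RatFunc k) K]

/-- The index set. -/
abbrev Idx (B : Finset k) (d : k → ℕ) :=
  {a : ↥B × ℕ // 1 ≤ a.2 ∧ 2 * a.2 + 1 ≤ d (a.1 : k)} ⊕ {b : ↥B // (b : k) ≠ 0}

theorem exists_polys (B : Finset k) (d : k → ℕ) (hd : ∀ α ∈ B, Odd (d α)) (h0 : (0 : k) ∈ B) :
    ∃ p : Idx B d → k[X], LinearIndependent k p ∧
      (∀ i, (p i).natDegree + 2 ≤ (∏ α ∈ B, (X - C α) ^ ((d α + 1) / 2)).natDegree) ∧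
      (∀ a, p (.inl a) * (X - C (a.1.1 : k)) ^ (a.1.2 + 1) = ∏ α ∈ B, (X - C α) ^ ((d α + 1) / 2)) ∧
      (∀ b, p (.inr b) * (X * (X - C (b.1 : k))) = C (b.1 : k) * ∏ α ∈ B, (X - C α) ^ ((d α + 1) / 2)) ∧
      Nat.card (Idx B d) + 1 = (∏ α ∈ B, (X - C α) ^ ((d α + 1) / 2)).natDegree ∧ Finite (Idx B d) := by
  classical
  set e : k → ℕ := fun α => (d α + 1) / 2 with he
  set q : k[X] := ∏ α ∈ B, (X - C α) ^ e α with hq
  have hq0 : q ≠ 0 := Finset.prod_ne_zero_iff.2 fun α _ => pow_ne_zero _ (X_sub_C_ne_zero α)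
  have he1 : ∀ α ∈ B, 1 ≤ e α ∧ 2 * e α = d α + 1 := fun α hα => by
    obtain ⟨j, hj⟩ := hd α hα
    simp only [he]
    omega
  have hqmult : ∀ γ, q.rootMultiplicity γ = if γ ∈ B then e γ else 0 := fun γ => rootMultiplicity_prod_pow B e γ
  have hp : ∀ i : Idx B d, ∃ p : k[X], p ≠ 0 ∧
      (∀ γ, p.rootMultiplicity γ + (match i with
          | .inl a => if γ = (a.1.1 : k) then a.1.2 + 1 else 0
          | .inr b => (if γ = 0 then 1 else 0) + if γ = (b.1 : k) then 1 else 0) = if γ ∈ B then e γ else 0) ∧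
      p.natDegree + 2 ≤ q.natDegree ∧
      (match i with
        | .inl a => p * (X - C (a.1.1 : k)) ^ (a.1.2 + 1) = q
        | .inr b => p * (X * (X - C (b.1 : k))) = C (b.1 : k) * q) := by
    rintro (⟨⟨⟨α, hα⟩, j⟩, hj1, hj2⟩ | ⟨⟨β, hβ⟩, hβ0⟩)
    · have hle : j + 1 ≤ e α := by
        have := he1 α hα
        simp only at hj2
        omega
      obtain ⟨r, hr⟩ : (X - C α) ^ (j + 1) ∣ q :=
        (pow_dvd_pow _ hle).trans (Finset.dvd_prod_of_mem (fun α => (X - C α) ^ e α) hα)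
      have hr0 : r ≠ 0 := fun h => hq0 (by rw [hr, h, mul_zero])
      refine ⟨r, hr0, fun γ => ?_, ?_, (mul_comm _ _).trans hr.symm⟩
      · simp only
        rw [← hqmult, ← rootMultiplicity_mul_X_sub_C_pow hr0, mul_comm, ← hr]
      · rw [hr, natDegree_mul (pow_ne_zero _ (X_sub_C_ne_zero _)) hr0, natDegree_pow, natDegree_X_sub_C]
        simp only at hj1
        omega
    · simp only at hβ0
      have hcop : IsCoprime (X : k[X]) (X - C β) := by
        have := isCoprime_X_sub_C_of_isUnit_sub (R := k) (a := 0) (b := β) (by simpa using hβ0)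
        simpa using this
      have hdX : (X : k[X]) ∣ q := by
        have := (dvd_pow_self (X - C (0 : k)) (by have := he1 0 h0; omega : e 0 ≠ 0)).trans
          (Finset.dvd_prod_of_mem (fun α => (X - C α) ^ e α) h0)
        simpa using this
      have hdβ : X - C β ∣ q := (dvd_pow_self (X - C β) (by have := he1 β hβ; omega : e β ≠ 0)).trans
        (Finset.dvd_prod_of_mem (fun α => (X - C α) ^ e α) hβ)
      obtain ⟨r, hr⟩ := hcop.mul_dvd hdX hdβ
      have hr0 : r ≠ 0 := fun h => hq0 (by rw [hr, h, mul_zero])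
      refine ⟨C β * r, mul_ne_zero (C_ne_zero.2 hβ0) hr0, fun γ => ?_, ?_, by rw [hr]; ring⟩
      · simp only
        rw [← hqmult, rootMultiplicity_mul (mul_ne_zero (C_ne_zero.2 hβ0) hr0), rootMultiplicity_C, zero_add, hr,
          show X * (X - C β) * r = r * (X - C 0) ^ 1 * (X - C β) ^ 1 by simp; ring,
          rootMultiplicity_mul_X_sub_C_pow (mul_ne_zero hr0 (pow_ne_zero _ (X_sub_C_ne_zero _))),
          rootMultiplicity_mul_X_sub_C_pow hr0, add_assoc]
      · rw [natDegree_C_mul hβ0, hr, natDegree_mul (mul_ne_zero X_ne_zero (X_sub_C_ne_zero _)) hr0,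
          natDegree_mul X_ne_zero (X_sub_C_ne_zero _), natDegree_X, natDegree_X_sub_C]
        omega
  choose p hp0 hmult hdeg heqp using hp
  refine ⟨p, ?_, hdeg, fun a => heqp (.inl a), fun b => heqp (.inr b), ?_⟩
  · refine linearIndependent_of_mult p (fun i => match i with | .inl a => (a.1.1 : k) | .inr b => (b.1 : k))
      (fun i => match i with | .inl a => a.1.2 | .inr _ => 0) hp0 fun i i' hne hr => ?_
    rcases i with ⟨⟨⟨α, hα⟩, j⟩, hj1, hj2⟩ | ⟨⟨β, hβ⟩, hβ0⟩ <;>
      rcases i' with ⟨⟨⟨α', hα'⟩, j'⟩, hj1', hj2'⟩ | ⟨⟨β', hβ'⟩, hβ0'⟩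
    · simp only at hr hj1 hj2 hj1' hj2' ⊢
      have h1 := hmult (.inl ⟨⟨⟨α, hα⟩, j⟩, hj1, hj2⟩) α
      have h2 := hmult (.inl ⟨⟨⟨α', hα'⟩, j'⟩, hj1', hj2'⟩) α
      simp only [if_true] at h1 h2
      rw [if_pos hα] at h1 h2
      split_ifs at h2 with h
      · subst h
        have : j ≠ j' := fun e => hne (by subst e; rfl)
        omega
      · omega
    · simp only at hr hj1 hj2 hβ0' ⊢
      have h1 := hmult (.inl ⟨⟨⟨α, hα⟩, j⟩, hj1, hj2⟩) α
      have h2 := hmult (.inr ⟨⟨β', hβ'⟩, hβ0'⟩) α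
      simp only [if_true] at h1 h2
      rw [if_pos hα] at h1 h2
      split_ifs at h2 with h h'
      · exact absurd (h'.symm.trans h) hβ0'
      all_goals omega
    · simp only at hr hj1'
      omega
    · simp only at hβ0 hβ0' ⊢
      have h1 := hmult (.inr ⟨⟨β, hβ⟩, hβ0⟩) β
      have h2 := hmult (.inr ⟨⟨β', hβ'⟩, hβ0'⟩) β
      simp only [if_true, if_neg hβ0] at h1 h2
      rw [if_pos hβ] at h1 h2
      split_ifs at h2 with h
      · exact absurd (by subst h; rfl) hne
      · omega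
  · let E : {a : ↥B × ℕ // 1 ≤ a.2 ∧ 2 * a.2 + 1 ≤ d (a.1 : k)} ≃ (Σ α : B, Fin (e α - 1)) :=
      { toFun := fun a => ⟨a.1.1, ⟨a.1.2 - 1, by
          have := he1 _ a.1.1.2
          have := a.2.1
          have := a.2.2
          omega⟩⟩
        invFun := fun x => ⟨⟨x.1, (x.2 : ℕ) + 1⟩, by
          have := he1 _ x.1.2
          have := x.2.2
          constructor
          · simp
          · simp only; omega⟩
        left_inv := fun a => by
          obtain ⟨⟨α, j⟩, hj1, hj2⟩ := a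
          simp only at hj1
          refine Subtype.ext (Prod.ext rfl ?_)
          show j - 1 + 1 = j
          omega
        right_inv := fun x => rfl }
    haveI : Finite {a : ↥B × ℕ // 1 ≤ a.2 ∧ 2 * a.2 + 1 ≤ d (a.1 : k)} := Finite.of_equiv _ E.symm
    refine ⟨?_, inferInstance⟩
    rw [natDegree_prod _ _ fun α _ => pow_ne_zero _ (X_sub_C_ne_zero α)]
    simp only [natDegree_pow, natDegree_X_sub_C, mul_one]
    rw [Nat.card_sum, Nat.card_congr E, Nat.card_sigma, Nat.card_eq_fintype_card,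
      Fintype.card_subtype_compl, Fintype.card_coe]
    have h1 : Fintype.card {b : ↥B // (b : k) = 0} = 1 :=
      Fintype.card_eq_one_iff.2 ⟨⟨⟨0, h0⟩, rfl⟩, fun ⟨⟨b, hb⟩, hb0⟩ => by simp only at hb0; subst hb0; rfl⟩
    rw [h1]
    simp only [Nat.card_fin]
    rw [Finset.sum_coe_sort B (fun α => e α - 1)]
    have h2 : ∑ α ∈ B, e α = (∑ α ∈ B, (e α - 1)) + B.card := by
      rw [Finset.card_eq_sum_ones, ← Finset.sum_add_distrib]
      exact Finset.sum_congr rfl fun α hα => by have := he1 α hα; omega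
    have h3 : 1 ≤ B.card := Finset.card_pos.2 ⟨0, h0⟩
    rw [h2]
    omega

variable {Fs : Place k K → Type w} [∀ P, Field (Fs P)] [∀ P, Algebra k (Fs P)] [∀ P, FiniteDimensional k (Fs P)]
  (φ : ∀ P, K →ₐ[k] (Fs P)⸨X⸩)

/-- The family of functions. -/
def fam (B : Finset k) (d : k → ℕ) : Idx B d → K := Sum.elim
  (fun a => algebraMap (RatFunc k) K (((RatFunc.X : RatFunc k) - RatFunc.C (a.1.1 : k))⁻¹ ^ (a.1.2 + 1)))
  (fun b => algebraMap (RatFunc k) K (RatFunc.C (b.1 : k) /
    ((RatFunc.X : RatFunc k) * ((RatFunc.X : RatFunc k) - RatFunc.C (b.1 : k)))))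

theorem as2_basis [IsAlgClosed k] [CharP k 2] (hK : IsFunctionField k K)
    (hdeg : Module.finrank (RatFunc k) K = 2) [Algebra.IsSeparable (RatFunc k) K]
    {y : K} (hy : y ∉ Set.range (algebraMap (RatFunc k) K)) {f : RatFunc k}
    (heq : y ^ 2 + y = algebraMap (RatFunc k) K f)
    (B : Finset k) (h0 : (0 : k) ∈ B) (d : k → ℕ) (hd : ∀ α ∈ B, Odd (d α))
    (hpole : ∀ (p : Place k (RatFunc k)) (α : k), α ∈ B →
      p.1 ((RatFunc.X : RatFunc k) - RatFunc.C α) < 1 → p.ord f = -(d α : ℤ))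
    (hint : ∀ p : Place k (RatFunc k), (∀ α ∈ B, 1 ≤ p.1 ((RatFunc.X : RatFunc k) - RatFunc.C α)) → p.1 f ≤ 1)
    (hφ : ∀ P, LocRes.IsExpansionAt P.1 (φ P)) :
    (∀ i P, LocRes.vDiff (φ P) (fam B d i) (algebraMap (RatFunc k) K RatFunc.X) ≤ 1) ∧
    LinearIndependent k (fam (K := K) B d) ∧
    ∀ z : K, (∀ P, LocRes.vDiff (φ P) z (algebraMap (RatFunc k) K RatFunc.X) ≤ 1) →
      z ∈ Submodule.span k (Set.range (fam (K := K) B d)) := by
  classical
  have h2 : ringChar k = 2 := ringChar.eq k 2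
  have hK₀ : IsFunctionField k (RatFunc k) := isFunctionField_ratFunc
  haveI : FiniteDimensional (RatFunc k) K := Module.finite_of_finrank_eq_succ hdeg
  have hg : IsGeometric k K := isGeometric_of_perfect hK
  obtain ⟨p, hli, hpdeg, hpl, hpr, hcard, hfin⟩ := exists_polys B d hd h0
  set q : k[X] := ∏ α ∈ B, (X - C α) ^ ((d α + 1) / 2) with hqdef
  have hq0 : q ≠ 0 := Finset.prod_ne_zero_iff.2 fun α _ => pow_ne_zero _ (X_sub_C_ne_zero α)
  have hlin : ∀ α : k, algebraMap k[X] (RatFunc k) (X - C α) = RatFunc.X - RatFunc.C α := fun α => by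
    rw [map_sub, RatFunc.algebraMap_X, RatFunc.algebraMap_C]
  have hodd : ∀ P₀ : Place k (RatFunc k), 1 < P₀.1 f → Odd (P₀.ord f) := fun P₀ hlt => by
    obtain ⟨α, hα, hv⟩ : ∃ α ∈ B, P₀.1 ((RatFunc.X : RatFunc k) - RatFunc.C α) < 1 := by
      by_contra! hc
      exact absurd (hint P₀ hc) (not_le.2 hlt)
    rw [hpole P₀ α hα hv, odd_neg, Int.odd_coe_nat]
    exact hd α hα
  have hq : ∀ P₀ : Place k (RatFunc k), P₀.1 RatFunc.X ≤ 1 →
      P₀.ord (algebraMap k[X] (RatFunc k) q) = if 1 < P₀.1 f then (1 - P₀.ord f) / 2 else 0 := by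
    intro P₀ hX
    have hX' : 0 ≤ P₀.ord (RatFunc.X : RatFunc k) := (ord_nonneg_iff P₀ RatFunc.X_ne_zero).2 hX
    have hne : ∀ β : k, algebraMap k[X] (RatFunc k) (X - C β) ≠ 0 := fun β =>
      algebraMap_poly_ne_zero (X_sub_C_ne_zero β)
    have hprod : ∀ s : Finset k, P₀.ord (algebraMap k[X] (RatFunc k) (∏ α ∈ s, (X - C α) ^ ((d α + 1) / 2))) =
        ∑ α ∈ s, (((d α + 1) / 2 : ℕ) : ℤ) * P₀.ord (algebraMap k[X] (RatFunc k) (X - C α)) := by
      intro s
      induction s using Finset.induction with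
      | empty => simp [Place.ord]
      | insert a s ha ih =>
        rw [Finset.prod_insert ha, Finset.sum_insert ha, map_mul, ord_mul P₀
          (algebraMap_poly_ne_zero (pow_ne_zero _ (X_sub_C_ne_zero _)))
          (algebraMap_poly_ne_zero (Finset.prod_ne_zero_iff.2 fun x _ => pow_ne_zero _ (X_sub_C_ne_zero _))),
          map_pow, ord_pow, ih]
    rw [hprod B]
    by_cases hex : ∃ α ∈ B, P₀.1 ((RatFunc.X : RatFunc k) - RatFunc.C α) < 1
    · obtain ⟨α, hα, hv⟩ := hex
      rw [← hlin] at hv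
      obtain ⟨h1, hu⟩ := fin_ord (irreducible_X_sub_C α) hv
      have hf := hpole P₀ α hα (by rwa [← hlin])
      obtain ⟨j, hj⟩ := hd α hα
      rw [Finset.sum_eq_single α (fun β _ hβ => by
          rw [hu _ (fun hdvd => hβ ?_), mul_zero]
          have := eq_of_monic_of_associated (monic_X_sub_C α) (monic_X_sub_C β)
            ((irreducible_X_sub_C α).associated_of_dvd (irreducible_X_sub_C β) hdvd)
          simpa using this.symm) (fun h => absurd hα h), h1, hf, if_pos]
      · omega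
      · rw [val_eq_exp P₀ (fun h => by rw [h, ord_zero] at hf; omega), hf, ← exp_zero, exp_lt_exp]
        omega
    · push Not at hex
      rw [if_neg (not_lt.2 (hint P₀ hex))]
      refine Finset.sum_eq_zero fun α hα => ?_
      have h1 := hex α hα
      rw [← hlin] at h1
      have h3 : P₀.1 (algebraMap k[X] (RatFunc k) (X - C α)) = 1 := le_antisymm (val_poly_le hX' _) h1
      rw [Place.ord, h3, log_one, neg_zero, mul_zero]
  obtain ⟨-, -, Pinf, hPi, hXi, hXall⟩ := rational_props hK₀ (RatFunc.adjoin_X (K := k))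
  obtain ⟨dInf, hdInf, hgen⟩ := as_genus hK hdeg h2 hy heq hodd hq0 hq hXall hPi hXi
  have hInfnot : ¬ Pinf.ord f < 0 := fun hneg => by
    have hle : Pinf.1 f ≤ 1 := hint Pinf fun α _ => by
      rw [← hlin, val_eq_exp Pinf (algebraMap_poly_ne_zero (X_sub_C_ne_zero α)),
        (inf_props (by omega)).2.2 _ (X_sub_C_ne_zero α), natDegree_X_sub_C, ← exp_zero, exp_le_exp]
      norm_num
    rw [val_eq_exp Pinf (fun h => by rw [h, ord_zero] at hneg; omega), ← exp_zero, exp_le_exp] at hle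
    omega
  rw [if_neg hInfnot] at hdInf
  have hgq : genus k K + 1 = q.natDegree := by omega
  set x := algebraMap (RatFunc k) K RatFunc.X
  set s : K := algebraMap (RatFunc k) K (algebraMap k[X] (RatFunc k) q)
  have hs : s ≠ 0 := (_root_.map_ne_zero _).2 (algebraMap_poly_ne_zero hq0)
  have hreg : ∀ i : ℕ, i < genus k K → ∀ P, LocRes.vDiff (φ P) (x ^ i / s) x ≤ 1 := fun i hi P => by
    have := as_regular φ hK hdeg h2 hy heq hodd hq0 hq hφ hi P
    rwa [map_div₀, map_pow] at this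
  have hmem : ∀ i, p i ∈ Polynomial.degreeLT k (genus k K) := fun i => by
    rw [Polynomial.mem_degreeLT]
    refine degree_le_natDegree.trans_lt (Nat.cast_lt.2 ?_)
    have := hpdeg i
    omega
  let p' : Idx B d → Polynomial.degreeLT k (genus k K) := fun i => ⟨p i, hmem i⟩
  have hli' : LinearIndependent k p' := LinearIndependent.of_comp (Submodule.subtype _) hli
  haveI := Fintype.ofFinite (Idx B d)
  have hspan : Submodule.span k (Set.range p') = ⊤ := by
    refine hli'.span_eq_top_of_card_eq_finrank' ?_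
    rw [(Polynomial.degreeLTEquiv k _).finrank_eq, Module.finrank_fin_fun, ← Nat.card_eq_fintype_card]
    omega
  have hfam : ∀ i, fam (K := K) B d i = divMap s _ (p' i) := by
    intro i
    rw [divMap_apply, eq_div_iff hs]
    rcases i with a | b
    · show algebraMap (RatFunc k) K _ * algebraMap (RatFunc k) K (algebraMap k[X] (RatFunc k) q) =
        algebraMap (RatFunc k) K (algebraMap k[X] (RatFunc k) (p (.inl a)))
      rw [← map_mul]
      congr 1
      have h := hpl a
      have hne : (RatFunc.X : RatFunc k) - RatFunc.C (a.1.1 : k) ≠ 0 :=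
        hlin (a.1.1 : k) ▸ algebraMap_poly_ne_zero (X_sub_C_ne_zero _)
      rw [← h, map_mul, map_pow, hlin, inv_pow, mul_comm, mul_assoc, mul_inv_cancel₀ (pow_ne_zero _ hne), mul_one]
    · show algebraMap (RatFunc k) K _ * algebraMap (RatFunc k) K (algebraMap k[X] (RatFunc k) q) =
        algebraMap (RatFunc k) K (algebraMap k[X] (RatFunc k) (p (.inr b)))
      rw [← map_mul]
      congr 1
      have h := congrArg (algebraMap k[X] (RatFunc k)) (hpr b)
      rw [map_mul, map_mul, map_mul, hlin, RatFunc.algebraMap_X, RatFunc.algebraMap_C] at h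
      have hne : (RatFunc.X : RatFunc k) * ((RatFunc.X : RatFunc k) - RatFunc.C (b.1 : k)) ≠ 0 :=
        mul_ne_zero RatFunc.X_ne_zero (hlin (b.1 : k) ▸ algebraMap_poly_ne_zero (X_sub_C_ne_zero _))
      rw [div_mul_eq_mul_div, ← h, mul_div_assoc, div_self hne, mul_one]
  refine ⟨fun i P => ?_, ?_, fun z hz => ?_⟩
  · rw [hfam i]
    exact vDiff_divMap_le φ hφ hreg _ P
  · rw [show fam (K := K) B d = divMap s _ ∘ p' from funext hfam]
    exact hli'.map' _ (LinearMap.ker_eq_bot.2 (divMap_injective hs _))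
  · obtain ⟨a, ha⟩ := regular_eq_range φ hK hg hφ (D_X_ne_zero hK hg) rfl (divMap s _) (divMap_injective hs _)
      (fun a P => vDiff_divMap_le φ hφ hreg a P) hz
    rw [← ha, show fam (K := K) B d = divMap s _ ∘ p' from funext hfam, Set.range_comp, ← Submodule.map_span, hspan]
    exact ⟨a, Submodule.mem_top, rfl⟩

end Groth.Agent.FunFld.Residue
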