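import Groth.Agent.FunFld.Residue.HyperBasis

/-!
The regular differentials of Artin–Schreier quadratic extensions of the rational function field.
-/

set_option autoImplicit false
universe u v w

open WithZero _root_.FunFld Polynomial
open scoped LaurentSeries

noncomputable section

namespace Groth.Agent.FunFld.Residue

variable {k : Type u} [Field k]

theorem ord_derivative_fin [PerfectField k] {P₀ : Place k (RatFunc k)} {f : RatFunc k} (h2 : ringChar k = 2)
    (hfin : 0 ≤ P₀.ord (RatFunc.X : RatFunc k)) (hneg : P₀.ord f < 0) (hodd : Odd (P₀.ord f)) :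
    P₀.ord (algebraMap k[X] (RatFunc k) (derivative (f.num * f.denom)) / algebraMap k[X] (RatFunc k) (f.denom ^ 2)) =
      P₀.ord f - 1 ∧ derivative (f.num * f.denom) ≠ 0 := by
  haveI : CharP k 2 := ringChar.of_eq h2
  set a := f.num with ha
  set b := f.denom with hb
  have hb0 : b ≠ 0 := f.denom_ne_zero
  have hf0 : f ≠ 0 := fun h => by rw [h, ord_zero] at hneg; omega
  have ha0 : a ≠ 0 := RatFunc.num_ne_zero hf0
  have hA := algebraMap_poly_ne_zero (k := k) ha0
  have hB := algebraMap_poly_ne_zero (k := k) hb0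
  have hford : P₀.ord f = P₀.ord (algebraMap k[X] (RatFunc k) a) - P₀.ord (algebraMap k[X] (RatFunc k) b) := by
    conv_lhs => rw [← RatFunc.num_div_denom f, div_eq_mul_inv, ord_mul P₀ hA (inv_ne_zero hB), ord_inv]
    ring
  have ha' : 0 ≤ P₀.ord (algebraMap k[X] (RatFunc k) a) := (ord_nonneg_iff P₀ hA).2 (val_poly_le hfin a)
  obtain ⟨p, hp, hpb, hlt⟩ := exists_factor_lt hfin hb0 (by omega)
  obtain ⟨hpord, hunit⟩ := fin_ord hp hlt
  have hpa : ¬ p ∣ a := fun h => hp.not_isUnit ((f.isCoprime_num_denom).isUnit_of_dvd' h hpb)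
  obtain ⟨n, c, hpc, hbc⟩ := WfDvdMonoid.max_power_factor hb0 hp
  have hc0 : c ≠ 0 := fun e => hb0 (by rw [hbc, e, mul_zero])
  have hbord : P₀.ord (algebraMap k[X] (RatFunc k) b) = n := by
    rw [hbc, map_mul, map_pow, ord_mul P₀ (pow_ne_zero _ (algebraMap_poly_ne_zero hp.ne_zero))
      (algebraMap_poly_ne_zero hc0), ord_pow, hpord, hunit c hpc, mul_one, add_zero]
  rw [hunit a hpa, hbord, zero_sub] at hford
  have hnodd : Odd n := by rwa [hford, odd_neg, Int.odd_coe_nat] at hodd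
  obtain ⟨j, hj⟩ := hnodd
  set m := a * c with hm
  have hpm : ¬ p ∣ m := fun h => (hp.prime.dvd_mul.1 h).elim hpa hpc
  have hab : a * b = p ^ n * m := by rw [hbc, hm]; ring
  have hN : derivative (a * b) = p ^ (n - 1) * (C (n : k) * derivative p * m + p * derivative m) := by
    rw [hab, derivative_mul, derivative_pow, show n = n - 1 + 1 by omega, Nat.add_sub_cancel, pow_succ]
    ring
  have hsep : p.Separable := PerfectField.separable_of_irreducible hp
  have hp' : ¬ p ∣ derivative p := fun h => by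
    obtain ⟨u, v, huv⟩ := hsep
    exact hp.not_isUnit (isUnit_of_dvd_one (huv ▸ dvd_add (dvd_mul_left p u) (Dvd.dvd.mul_left h v)))
  have hn1 : (n : k) = 1 := by rw [hj]; simp [CharTwo.two_eq_zero]
  have hE : ¬ p ∣ C (n : k) * derivative p * m + p * derivative m := fun h => by
    rw [hn1, C_1, one_mul, dvd_add_left (dvd_mul_right _ _)] at h
    exact (hp.prime.dvd_mul.1 h).elim hp' hpm
  have hE0 : C (n : k) * derivative p * m + p * derivative m ≠ 0 := fun h => hE (h ▸ dvd_zero p)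
  have hN0 : derivative (a * b) ≠ 0 := by rw [hN]; exact mul_ne_zero (pow_ne_zero _ hp.ne_zero) hE0
  refine ⟨?_, hN0⟩
  rw [div_eq_mul_inv, ord_mul P₀ (algebraMap_poly_ne_zero hN0)
    (inv_ne_zero (algebraMap_poly_ne_zero (pow_ne_zero _ hb0))), ord_inv, map_pow (algebraMap k[X] (RatFunc k)) b,
    ord_pow, hbord, hN, map_mul, map_pow,
    ord_mul P₀ (pow_ne_zero _ (algebraMap_poly_ne_zero hp.ne_zero)) (algebraMap_poly_ne_zero hE0), ord_pow, hpord,
    hunit _ hE, hford]
  omega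

theorem ord_derivative_inf {P₀ : Place k (RatFunc k)} {f : RatFunc k} (h2 : ringChar k = 2)
    (hinf : P₀.ord (RatFunc.X : RatFunc k) < 0) (hodd : Odd (P₀.ord f)) :
    P₀.ord (algebraMap k[X] (RatFunc k) (derivative (f.num * f.denom)) / algebraMap k[X] (RatFunc k) (f.denom ^ 2)) =
      P₀.ord f + 1 ∧ derivative (f.num * f.denom) ≠ 0 := by
  haveI : CharP k 2 := ringChar.of_eq h2
  obtain ⟨-, -, hpoly⟩ := inf_props hinf
  set a := f.num with ha
  set b := f.denom with hb
  have hb0 : b ≠ 0 := f.denom_ne_zero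
  have hf0 : f ≠ 0 := fun h => by rw [h, ord_zero] at hodd; exact absurd hodd (by decide)
  have ha0 : a ≠ 0 := RatFunc.num_ne_zero hf0
  have hford : P₀.ord f = (b.natDegree : ℤ) - a.natDegree := by
    conv_lhs => rw [← RatFunc.num_div_denom f, div_eq_mul_inv, ord_mul P₀ (algebraMap_poly_ne_zero ha0)
      (inv_ne_zero (algebraMap_poly_ne_zero hb0)), ord_inv, hpoly a ha0, hpoly b hb0]
    ring
  obtain ⟨j, hj⟩ := hodd
  set m := a * b with hm
  have hm0 : m ≠ 0 := mul_ne_zero ha0 hb0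
  have hmdeg : m.natDegree = a.natDegree + b.natDegree := natDegree_mul ha0 hb0
  obtain ⟨l, hl⟩ : ∃ l, m.natDegree = 2 * l + 1 := ⟨m.natDegree / 2, by omega⟩
  have hcoeff : (derivative m).coeff (m.natDegree - 1) ≠ 0 := by
    rw [coeff_derivative, show m.natDegree - 1 + 1 = m.natDegree by omega, coeff_natDegree,
      show ((m.natDegree - 1 : ℕ) : k) + 1 = ((2 * l + 1 : ℕ) : k) by rw [hl]; simp]
    refine mul_ne_zero (leadingCoeff_ne_zero.2 hm0) ?_
    simp [CharTwo.two_eq_zero]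
  have hN0 : derivative m ≠ 0 := fun h => hcoeff (by rw [h, coeff_zero])
  have hNdeg : (derivative m).natDegree = m.natDegree - 1 :=
    le_antisymm (natDegree_derivative_le m) (le_natDegree_of_ne_zero hcoeff)
  refine ⟨?_, hN0⟩
  rw [div_eq_mul_inv, ord_mul P₀ (algebraMap_poly_ne_zero hN0)
    (inv_ne_zero (algebraMap_poly_ne_zero (pow_ne_zero _ hb0))), ord_inv, map_pow (algebraMap k[X] (RatFunc k)) b,
    ord_pow, hpoly b hb0, hpoly _ hN0, hNdeg, hford]
  omega

variable {K : Type v} [Field K] [Algebra k K] [Algebra (RatFunc k) K] [IsScalarTower k (RatFunc k) K]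

theorem D_algebraMap_ratFunc (h2 : ringChar k = 2) (f : RatFunc k) :
    algebraMap (RatFunc k) K
        (algebraMap k[X] (RatFunc k) (derivative (f.num * f.denom)) / algebraMap k[X] (RatFunc k) (f.denom ^ 2)) •
      KaehlerDifferential.D k K (algebraMap (RatFunc k) K RatFunc.X) =
    KaehlerDifferential.D k K (algebraMap (RatFunc k) K f) := by
  haveI : CharP k 2 := ringChar.of_eq h2
  haveI : CharP K 2 := charP_of_injective_algebraMap' k 2
  set D := KaehlerDifferential.D k K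
  set x := algebraMap (RatFunc k) K RatFunc.X
  conv_rhs => rw [← RatFunc.num_div_denom f, map_div₀, algebraMap_poly_eq_aeval, algebraMap_poly_eq_aeval,
    Derivation.leibniz_div, D.map_aeval, D.map_aeval, smul_smul, smul_smul, ← sub_smul, smul_smul]
  congr 1
  rw [map_div₀, algebraMap_poly_eq_aeval, algebraMap_poly_eq_aeval, map_pow, derivative_mul, map_add, map_mul,
    map_mul, CharTwo.sub_eq_add, div_eq_mul_inv]
  ring

variable {Fs : Place k K → Type w} [∀ P, Field (Fs P)] [∀ P, Algebra k (Fs P)] [∀ P, FiniteDimensional k (Fs P)]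
  (φ : ∀ P, K →ₐ[k] (Fs P)⸨X⸩)

omit [∀ P, FiniteDimensional k (Fs P)] in
theorem as_D_eq (h2 : ringChar k = 2) {y : K} {f : RatFunc k}
    (heq : y ^ 2 + y = algebraMap (RatFunc k) K f) (hφ : ∀ P, LocRes.IsExpansionAt P.1 (φ P))
    {P₀ : Place k (RatFunc k)} (hneg : P₀.ord f < 0) (hodd : Odd (P₀.ord f)) (P : Place k K)
    (he : IsOverWith P P₀ 2) {o : ℤ}
    (hG : P₀.ord (algebraMap k[X] (RatFunc k) (derivative (f.num * f.denom)) /
      algebraMap k[X] (RatFunc k) (f.denom ^ 2)) = o)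
    (hN0 : derivative (f.num * f.denom) ≠ 0) :
    Valued.v (LocRes.D (Fs P) (φ P (algebraMap (RatFunc k) K RatFunc.X))) = exp (-(P₀.ord f - 1 - 2 * o)) := by
  haveI : CharP k 2 := ringChar.of_eq h2
  haveI : CharP (Fs P) 2 := charP_of_injective_algebraMap' k 2
  haveI : CharP (Fs P)⸨X⸩ 2 := charP_of_injective_ringHom (HahnSeries.C_injective) 2
  set G := algebraMap k[X] (RatFunc k) (derivative (f.num * f.denom)) / algebraMap k[X] (RatFunc k) (f.denom ^ 2)
    with hGdef
  have hG0 : G ≠ 0 := div_ne_zero (algebraMap_poly_ne_zero hN0)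
    (algebraMap_poly_ne_zero (pow_ne_zero _ f.denom_ne_zero))
  have hy0 : y ≠ 0 := fun h => by
    rw [h, zero_pow two_ne_zero, zero_add, eq_comm, _root_.map_eq_zero] at heq
    rw [heq, ord_zero] at hneg; omega
  have hylt : P.ord y < 0 := by
    by_contra hge
    have hle : P.1 y ≤ 1 := (ord_nonneg_iff P hy0).1 (not_lt.1 hge)
    have h3 : P.1 (y ^ 2 + y) ≤ 1 :=
      (P.1.map_add _ _).trans (max_le (by rw [map_pow]; exact pow_le_one' hle 2) hle)
    rw [heq, he, val_eq_exp P₀ (fun e => by rw [e, ord_zero] at hneg; omega), ← exp_nsmul, ← exp_zero, exp_le_exp,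
      nsmul_eq_mul, Nat.cast_two] at h3
    omega
  have hyord : P.ord y = P₀.ord f := by
    have hv : P.1 (y ^ 2 + y) = P.1 (y ^ 2) := Valuation.map_add_eq_of_lt_left _ (by
      rw [val_pow_eq P hy0, val_eq_exp P hy0, exp_lt_exp]; push_cast; omega)
    rw [heq, he, val_eq_exp P₀ (fun e => by rw [e, ord_zero] at hneg; omega), ← exp_nsmul, val_pow_eq P hy0, exp_inj,
      nsmul_eq_mul] at hv
    push_cast at hv
    omega
  have h1 : Valued.v (LocRes.D (Fs P) (φ P y)) = exp (-(P₀.ord f - 1)) :=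
    v_D_eq (by rw [ne_eq, CharP.intCast_eq_zero_iff (Fs P) 2]; obtain ⟨j, hj⟩ := hodd; omega)
      (by rw [(hφ P).1, val_eq_exp P hy0, hyord])
  have h3 : LocRes.D (Fs P) (φ P (algebraMap (RatFunc k) K f)) = LocRes.D (Fs P) (φ P y) := by
    rw [← heq, map_add, map_pow, map_add, Derivation.leibniz_pow, CharTwo.two_nsmul, zero_add]
  rw [← h3, D_expansion_of_smul (φ P) (D_algebraMap_ratFunc h2 f), map_mul, (hφ P).1, he, ← hGdef,
    val_eq_exp P₀ hG0, hG, ← exp_nsmul, nsmul_eq_mul, Nat.cast_two] at h1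
  refine mul_left_cancel₀ (exp_ne_zero (a := (2 : ℤ) * -o)) (h1.trans ?_)
  rw [← exp_add]; congr 1; ring

theorem as_genus (hK : IsFunctionField k K) (hdeg : Module.finrank (RatFunc k) K = 2) [PerfectField k]
    (h2 : ringChar k = 2) {y : K} (hy : y ∉ Set.range (algebraMap (RatFunc k) K)) {f : RatFunc k}
    (heq : y ^ 2 + y = algebraMap (RatFunc k) K f)
    (hodd : ∀ p : Place k (RatFunc k), 1 < p.1 f → Odd (p.ord f)) {q : k[X]} (hq0 : q ≠ 0)
    (hq : ∀ p : Place k (RatFunc k), p.1 RatFunc.X ≤ 1 →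
      p.ord (algebraMap k[X] (RatFunc k) q) = if 1 < p.1 f then (1 - p.ord f) / 2 else 0)
    {Pinf : Place k (RatFunc k)} (hXall : ∀ Q, Q ≠ Pinf → 0 ≤ Q.ord (RatFunc.X : RatFunc k)) (hPi : Pinf.deg = 1)
    (hXi : Pinf.ord (RatFunc.X : RatFunc k) = -1) :
    ∃ dInf : ℤ, dInf = (if Pinf.ord f < 0 then (1 - Pinf.ord f) / 2 else 0) ∧
      (genus k K : ℤ) = q.natDegree + dInf - 1 := by
  classical
  have hK₀ : IsFunctionField k (RatFunc k) := isFunctionField_ratFunc
  have hneg_iff : ∀ p : Place k (RatFunc k), 1 < p.1 f ↔ p.ord f < 0 := by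
    intro p
    rcases eq_or_ne f 0 with rfl | hf0
    · simp [ord_zero]
    · rw [val_eq_exp p hf0, ← exp_zero, exp_lt_exp]; omega
  refine ⟨_, rfl, ?_⟩
  set dInf : ℤ := if Pinf.ord f < 0 then (1 - Pinf.ord f) / 2 else 0 with hdInf
  have hX0 : (RatFunc.X : RatFunc k) ≠ 0 := RatFunc.X_ne_zero
  rw [genus_as h2 hK hdeg hy heq fun p hp => by
    rw [div_apply hK₀] at hp ⊢; exact hodd p ((hneg_iff p).2 hp)]
  set s := (div k f).support.filter fun p => div k f p < 0
  have hs : ∀ p, p ∈ s ↔ p.ord f < 0 := fun p => by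
    rw [Finset.mem_filter, Finsupp.mem_support_iff, div_apply hK₀]
    exact ⟨fun h => h.2, fun h => ⟨h.ne, h⟩⟩
  set C : Divisor k (RatFunc k) := ∑ p ∈ s, Finsupp.single p ((1 - div k f p) / 2) with hC
  have hCap : ∀ p, C p = if p.ord f < 0 then (1 - p.ord f) / 2 else 0 := fun p => by
    rw [hC, Finsupp.finsetSum_apply]
    simp [Finsupp.single_apply, hs, div_apply hK₀]
  have hCdeg : C.deg = ∑ p ∈ s, (1 - div k f p) / 2 * (p.deg : ℤ) := by
    rw [hC, ← degHom_apply, map_sum]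
    exact Finset.sum_congr rfl fun p _ => by rw [degHom_apply, deg_single]
  have hCeq : C = div k (algebraMap k[X] (RatFunc k) q) + Finsupp.single Pinf ((q.natDegree : ℤ) + dInf) := by
    refine Finsupp.ext fun p => ?_
    rw [Finsupp.add_apply, div_apply hK₀, hCap]
    rcases eq_or_ne p Pinf with rfl | hne
    · rw [Finsupp.single_eq_same, (inf_props (by omega)).2.2 q hq0, hdInf]; ring
    · rw [Finsupp.single_eq_of_ne hne, add_zero, hq p ((ord_nonneg_iff p hX0).1 (hXall p hne))]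
      simp [hneg_iff]
  rw [← hCdeg, hCeq, deg_add, deg_div hK₀, deg_single, hPi]
  ring

theorem as_regular [PerfectField k] (hK : IsFunctionField k K) (hdeg : Module.finrank (RatFunc k) K = 2)
    (h2 : ringChar k = 2) {y : K} (hy : y ∉ Set.range (algebraMap (RatFunc k) K)) {f : RatFunc k}
    (heq : y ^ 2 + y = algebraMap (RatFunc k) K f)
    (hodd : ∀ p : Place k (RatFunc k), 1 < p.1 f → Odd (p.ord f)) {q : k[X]} (hq0 : q ≠ 0)
    (hq : ∀ p : Place k (RatFunc k), p.1 RatFunc.X ≤ 1 →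
      p.ord (algebraMap k[X] (RatFunc k) q) = if 1 < p.1 f then (1 - p.ord f) / 2 else 0)
    (hφ : ∀ P, LocRes.IsExpansionAt P.1 (φ P)) {i : ℕ} (hi : i < genus k K) (P : Place k K) :
    LocRes.vDiff (φ P) (algebraMap (RatFunc k) K (RatFunc.X ^ i / algebraMap k[X] (RatFunc k) q))
      (algebraMap (RatFunc k) K RatFunc.X) ≤ 1 := by
  classical
  haveI : FiniteDimensional (RatFunc k) K := Module.finite_of_finrank_eq_succ hdeg
  have hK₀ : IsFunctionField k (RatFunc k) := isFunctionField_ratFunc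
  have hneg_iff : ∀ p : Place k (RatFunc k), 1 < p.1 f ↔ p.ord f < 0 := by
    intro p
    rcases eq_or_ne f 0 with rfl | hf0
    · simp [ord_zero]
    · rw [val_eq_exp p hf0, ← exp_zero, exp_lt_exp]; omega
  obtain ⟨-, -, Pinf, hPi, hXi, hXall⟩ := rational_props hK₀ (RatFunc.adjoin_X (K := k))
  obtain ⟨dInf, hdInf, hgen⟩ := as_genus hK hdeg h2 hy heq hodd hq0 hq hXall hPi hXi
  obtain ⟨P₀, hP₀⟩ := exists_below (K := RatFunc k) P
  have he := isOverWith_of_isOver hP₀
  have hepos := IsOverWith.pos he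
  set e := ramIdx P P₀
  have hu0 : (RatFunc.X : RatFunc k) ^ i / algebraMap k[X] (RatFunc k) q ≠ 0 :=
    div_ne_zero (pow_ne_zero _ RatFunc.X_ne_zero) (algebraMap_poly_ne_zero hq0)
  set x := algebraMap (RatFunc k) K RatFunc.X
  rw [vDiff_eq_mul (hφ P), he, val_eq_exp P₀ hu0, ← exp_nsmul, div_eq_mul_inv,
    ord_mul P₀ (pow_ne_zero _ RatFunc.X_ne_zero) (inv_ne_zero (algebraMap_poly_ne_zero hq0)), ord_pow, ord_inv,
    nsmul_eq_mul]
  have hordx : P.ord x = e * P₀.ord RatFunc.X := IsOverWith.ord he _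
  have hx0 : x ≠ 0 := (_root_.map_ne_zero _).2 RatFunc.X_ne_zero
  have hram : P₀.ord f < 0 → e = 2 := fun hneg => by
    have h := ((as_places hdeg h2 hy heq P₀).1 ⟨hneg, hodd P₀ ((hneg_iff P₀).2 hneg)⟩).2 P hP₀
    exact ramIdx_eq h.1
  by_cases hfin : 0 ≤ P₀.ord (RatFunc.X : RatFunc k)
  · have hvx : P.1 x ≤ 1 := (ord_nonneg_iff P hx0).1 (by rw [hordx]; positivity)
    have hXle : P₀.1 (RatFunc.X : RatFunc k) ≤ 1 := (ord_nonneg_iff P₀ RatFunc.X_ne_zero).1 hfin
    have hqo := hq P₀ hXle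
    simp only [hneg_iff] at hqo
    have hiX : 0 ≤ (i : ℤ) * P₀.ord (RatFunc.X : RatFunc k) := by positivity
    by_cases hneg : P₀.ord f < 0
    · rw [if_pos hneg] at hqo
      have hoddf := hodd P₀ ((hneg_iff P₀).2 hneg)
      obtain ⟨hG, hN0⟩ := ord_derivative_fin h2 hfin hneg hoddf
      rw [as_D_eq φ h2 heq hφ hneg hoddf P (hram hneg ▸ he) hG hN0, ← exp_add, ← exp_zero, exp_le_exp, hram hneg,
        hqo, Nat.cast_two]
      obtain ⟨j, hj⟩ := hoddf
      omega
    · rw [if_neg hneg] at hqo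
      refine mul_le_one' ?_ (v_D_le_one (hφ P) hvx)
      rw [← exp_zero, exp_le_exp, hqo]
      nlinarith
  · push Not at hfin
    have hP0i : P₀ = Pinf := by
      by_contra hne
      have := hXall P₀ hne
      omega
    obtain ⟨hXm1, -, hpoly⟩ := inf_props hfin
    rw [hXm1, hpoly q hq0]
    rw [← hP0i] at hdInf
    by_cases hneg : P₀.ord f < 0
    · rw [if_pos hneg] at hdInf
      have hoddf := hodd P₀ ((hneg_iff P₀).2 hneg)
      obtain ⟨hG, hN0⟩ := ord_derivative_inf h2 hfin hoddf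
      rw [as_D_eq φ h2 heq hφ hneg hoddf P (hram hneg ▸ he) hG hN0, ← exp_add, ← exp_zero, exp_le_exp, hram hneg,
        Nat.cast_two]
      obtain ⟨j, hj⟩ := hoddf
      omega
    · rw [if_neg hneg] at hdInf
      rw [hXm1, mul_neg, mul_one] at hordx
      have hDx := v_D_le (f := φ P x) (n := -(e : ℤ)) (by rw [(hφ P).1, val_eq_exp P hx0, hordx])
      refine (mul_le_mul' le_rfl hDx).trans ?_
      rw [← exp_add, ← exp_zero, exp_le_exp]
      have hlt : (i : ℤ) + 2 ≤ q.natDegree := by omega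
      nlinarith

end Groth.Agent.FunFld.Residue
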