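import Groth.Agent.FunFld.Residue.DiffExpRamify
import Groth.Agent.FunFld.Ext.Lattice
import Groth.Agent.FunFld.Ext.Quad
import Mathlib.RingTheory.DedekindDomain.Different

/-!
The different exponent at a place of residue degree one: local parameters and trace duals.
-/

set_option autoImplicit false
universe u v w

open WithZero _root_.FunFld Polynomial IsLocalRing
open scoped LaurentSeries

noncomputable section

attribute [-instance] instModuleResidueFieldOfAlgebra

namespace Groth.Agent.FunFld.Residue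

variable {k : Type u} {K K' : Type v} [Field k] [Field K] [Field K'] [Algebra k K] [Algebra K K'] [Algebra k K']
  [IsScalarTower k K K'] [FiniteDimensional K K'] {F₀ : Type*} [Field F₀] [Algebra k F₀]
  {F : Type w} [Field F] [Algebra k F] {P : Place k K} {Q : Place k K'}

theorem deg_eq_of_surjective (hK : IsFunctionField k K) (hQP : IsOver Q P)
    (h : ∀ b : K', Q.1 b ≤ 1 → ∃ a : K, P.1 a ≤ 1 ∧ Q.1 (algebraMap K K' a - b) < 1) : Q.deg = P.deg := by
  refine le_antisymm ?_ (deg_le_of_isOver hK hQP)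
  haveI := residue_finite hK P
  haveI := residue_finite' (K' := K') hK Q
  let incl : intK P →ₗ[k] intK Q :=
    { toFun := fun x => ⟨algebraMap K K' x, (val_le_one_iff hQP (x : K)).2 x.2⟩
      map_add' := fun a b => Subtype.ext (map_add (algebraMap K K') (a : K) b)
      map_smul' := fun c a => Subtype.ext (by
        simp [Algebra.smul_def, ← IsScalarTower.algebraMap_apply]) }
  let g := (resL Q).comp incl
  have hker : LinearMap.ker g = LinearMap.ker (resL P) := by
    ext x
    rw [LinearMap.mem_ker, LinearMap.mem_ker, resL_eq_zero, LinearMap.comp_apply, resL_eq_zero]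
    exact val_lt_one_iff hQP (x : K)
  have hsurj : Function.Surjective g := fun r => by
    obtain ⟨⟨b, hb⟩, rfl⟩ := resL_surjective Q r
    obtain ⟨a, ha, hab⟩ := h b hb
    exact ⟨⟨a, ha⟩, sub_eq_zero.1 (((resL Q).map_sub _ _).symm.trans ((resL_eq_zero Q _).2 hab))⟩
  have e := ((resL P).quotKerEquivOfSurjective (resL_surjective P)).finrank_eq
  rw [← hker, g.quotKerEquivRange.finrank_eq, LinearMap.range_eq_top.2 hsurj, finrank_top] at e
  exact e.le

theorem residue_lift [P.1.HasExtension Q.1]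
    (hf : Function.Surjective (algebraMap (ResidueField P.O) (ResidueField Q.O))) {b : K'} (hb : Q.1 b ≤ 1) :
    ∃ a : K, P.1 a ≤ 1 ∧ Q.1 (algebraMap K K' a - b) < 1 := by
  obtain ⟨c, hc⟩ := hf (residue Q.O ⟨b, hb⟩)
  obtain ⟨a, rfl⟩ := residue_surjective c
  refine ⟨a, a.2, ?_⟩
  have h0 : residue Q.O (algebraMap P.O Q.O a - (⟨b, hb⟩ : Q.O)) = 0 := by
    rw [map_sub, sub_eq_zero, ← hc]; rfl
  rw [residue_eq_zero_iff, mem_maximalIdeal, mem_nonunits_iff] at h0
  exact (Valuation.Integer.not_isUnit_iff_valuation_lt_one (v := Q.1)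
    (x := ((algebraMap P.O Q.O a - (⟨b, hb⟩ : Q.O) : Q.O)))).1 h0

theorem v_derivative_of_coeff [Algebra.IsSeparable k F] {e : ℕ} (he : IsOverWith Q P e) {ψ : K' →ₐ[k] F⸨X⸩}
    (hψ : LocRes.IsExpansionAt Q.1 ψ) {t : K} (ht : P.1 t = exp (-1))
    (htD : LocRes.D F (ψ (algebraMap K K' t)) ≠ 0) {s : K'} (hs : Q.1 s = exp (-1)) {f : K[X]}
    (hfs : aeval s f = 0) (hcoef : ∀ i, P.1 (f.coeff i) ≤ 1) (h0 : P.1 (f.coeff 0) = exp (-1)) :
    Q.1 (aeval s (derivative f)) = Valued.v (LocRes.D F (ψ (algebraMap K K' t))) := by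
  classical
  let R : K[X] →+ F⸨X⸩ :=
    { toFun := fun q => LocRes.D F (ψ (aeval s q)) - ψ (aeval s (derivative q)) * LocRes.D F (ψ s)
      map_zero' := by simp
      map_add' := fun a b => by simp only [map_add]; ring }
  have hRmono : ∀ i c, R (monomial i c) = ψ s ^ i * LocRes.D F (ψ (algebraMap K K' c)) := by
    intro i c
    show LocRes.D F (ψ (aeval s (monomial i c))) - ψ (aeval s (derivative (monomial i c))) * _ = _
    rw [derivative_monomial, aeval_monomial, aeval_monomial, map_mul ψ, map_pow, Derivation.leibniz,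
      Derivation.leibniz_pow]
    simp only [map_mul, map_natCast, map_pow, smul_eq_mul, nsmul_eq_mul]
    ring
  have hRf : R f = - (ψ (aeval s (derivative f)) * LocRes.D F (ψ s)) := by
    show LocRes.D F (ψ (aeval s f)) - _ = _
    rw [hfs, map_zero, map_zero, zero_sub]
  have hRsum : R f = ∑ i ∈ Finset.range (f.natDegree + 1), ψ s ^ i * LocRes.D F (ψ (algebraMap K K' (f.coeff i))) := by
    conv_lhs => rw [f.as_sum_range, map_sum]
    simp only [hRmono]
  have hvs : Valued.v (LocRes.D F (ψ s)) = 1 := by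
    rw [v_D_eq (n := 1) (by norm_num) (by rw [hψ.1, hs]), sub_self, neg_zero, exp_zero]
  have hv : Valued.v (R f) = Valued.v (LocRes.D F (ψ (algebraMap K K' t))) := by
    rw [hRsum, Valued.v.map_sum_eq_of_lt (Finset.mem_range.2 (Nat.succ_pos _)), pow_zero, one_mul]
    · exact v_D_mul_unit he hψ ht h0
    · intro i hi'
      rw [Finset.mem_sdiff, Finset.mem_singleton, Finset.mem_range] at hi'
      rw [pow_zero, one_mul, map_mul, map_pow, hψ.1, hs, v_D_mul_unit he hψ ht h0]
      refine (mul_le_mul' le_rfl (v_D_le_of_parameter he hψ ht (hcoef i))).trans_lt ?_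
      conv_rhs => rw [← one_mul (Valued.v (LocRes.D F (ψ (algebraMap K K' t))))]
      refine mul_lt_mul_of_pos_right ?_ (zero_lt_iff.2 ((Valued.v).ne_zero_iff.2 htD))
      rw [← exp_nsmul, ← exp_zero, exp_lt_exp, smul_neg, nsmul_eq_mul, mul_one]
      omega
  rw [hRf, Valuation.map_neg, map_mul, hvs, mul_one, hψ.1] at hv
  exact hv

theorem adjoin_eq_top_and_ord_coeff_zero (hK : IsFunctionField k K) (hQP : IsOver Q P) (hdeg : Q.deg = P.deg)
    {s : K'} (hs : Q.1 s = exp (-1)) (hs' : ∀ R : Place k K', IsOver R P → R ≠ Q → R.1 s = 1) :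
    IntermediateField.adjoin K ({s} : Set K') = ⊤ ∧ P.1 ((minpoly K s).coeff 0) = exp (-1) := by
  classical
  letI : Algebra P.O K' := ((algebraMap K K').comp P.O.subtype).toAlgebra
  haveI : IsScalarTower P.O K K' := IsScalarTower.of_algebraMap_eq fun _ => rfl
  have hint : IsIntegral K s := IsIntegral.of_finite K s
  have h1 := deg_mul_ord_norm (K' := K') hK P s
  rw [Finset.sum_eq_single Q (fun R hR hne => by
      rw [ord_eq_of_val R (n := 0) (by rw [hs' R ((mem_placesOver hK).1 hR) hne, exp_zero])]; simp)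
    (fun hn => absurd ((mem_placesOver hK).2 hQP) hn), ord_eq_of_val Q hs, neg_neg, mul_one, hdeg] at h1
  have h2 : P.ord (Algebra.norm K s) = 1 := by
    have : (0 : ℤ) < P.deg := by exact_mod_cast deg_pos hK P
    nlinarith
  set g := IntermediateField.AdjoinSimple.gen K s
  rw [Algebra.norm_eq_norm_adjoin K s, ord_pow] at h2
  set m := Module.finrank (IntermediateField.adjoin K ({s} : Set K')) K'
  obtain ⟨hm, hone⟩ : (m : ℤ) = 1 ∧ P.ord (Algebra.norm K g) = 1 := by
    have hm0 : (0 : ℤ) ≤ (m : ℤ) := Int.natCast_nonneg m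
    have := Int.eq_one_of_mul_eq_one_right hm0 h2
    exact ⟨this, by rwa [this, one_mul] at h2⟩
  refine ⟨?_, ?_⟩
  · have h3 := Module.finrank_mul_finrank K (IntermediateField.adjoin K ({s} : Set K')) K'
    rw [show Module.finrank (IntermediateField.adjoin K ({s} : Set K')) K' = 1 by exact_mod_cast hm, mul_one] at h3
    exact IntermediateField.eq_of_le_of_finrank_eq le_top (by rw [h3, IntermediateField.finrank_top'])
  · have h4 := Algebra.PowerBasis.norm_gen_eq_coeff_zero_minpoly (IntermediateField.adjoin.powerBasis hint)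
    rw [IntermediateField.adjoin.powerBasis_gen hint, IntermediateField.minpoly_gen] at h4
    have hc0 : (minpoly K s).coeff 0 ≠ 0 := minpoly.coeff_zero_ne_zero hint (ne_zero_of_val Q hs)
    rw [h4] at hone
    rw [val_eq_exp P hc0]
    have hsgn : P.1 ((-1 : K) ^ (IntermediateField.adjoin.powerBasis hint).dim) = 1 := by
      rw [map_pow, Valuation.map_neg, map_one, one_pow]
    rw [Place.ord, map_mul, hsgn, one_mul] at hone
    rw [Place.ord, hone]

section Integral

variable [Algebra P.O K'] [IsScalarTower P.O K K']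

theorem isIntegral_iff_places (hK : IsFunctionField k K) {z : K'} :
    IsIntegral P.O z ↔ ∀ R : Place k K', IsOver R P → R.1 z ≤ 1 := by
  rw [← mem_integralClosure_iff, integralClosure_eq hK P, mem_Bring]
  exact ⟨fun h R hR => h R ((mem_placesOver hK).2 hR), fun h R hR => h R ((mem_placesOver hK).1 hR)⟩

omit [FiniteDimensional K K'] in
theorem coeff_minpoly_le {z : K'} (hz : IsIntegral P.O z) (i : ℕ) : P.1 ((minpoly K z).coeff i) ≤ 1 := by
  rw [minpoly.isIntegrallyClosed_eq_field_fractions' K hz, coeff_map]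
  exact ((minpoly P.O z).coeff i).2

theorem isIntegral_of_mem_adjoin {y n : K'} (hy : IsIntegral P.O y) (hn : n ∈ Algebra.adjoin P.O ({y} : Set K')) :
    IsIntegral P.O n :=
  (mem_integralClosure_iff _ _).1 ((Algebra.adjoin_le (Set.singleton_subset_iff.2 hy) :
    Algebra.adjoin P.O ({y} : Set K') ≤ integralClosure P.O K') hn)

theorem val_trace_le {z : K'} (hz : IsIntegral P.O z) : P.1 (Algebra.trace K K' z) ≤ 1 := by
  obtain ⟨c, hc⟩ := IsIntegrallyClosed.isIntegral_iff.1 (Algebra.isIntegral_trace (L := K) hz)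
  rw [← hc]; exact c.2

theorem dual_adjoin_iff [Algebra.IsSeparable K K'] {y : K'} (hy : IntermediateField.adjoin K ({y} : Set K') = ⊤)
    (hyi : IsIntegral P.O y) (w : K') :
    (∀ n ∈ Algebra.adjoin P.O ({y} : Set K'), P.1 (Algebra.trace K K' (w * n)) ≤ 1) ↔
      aeval y (derivative (minpoly K y)) * w ∈ Algebra.adjoin P.O ({y} : Set K') := by
  have htop : Algebra.adjoin K ({y} : Set K') = ⊤ := by
    rw [← IntermediateField.adjoin_simple_toSubalgebra_of_isAlgebraic (Algebra.IsAlgebraic.isAlgebraic y), hy,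
      IntermediateField.top_toSubalgebra]
  have hne : aeval y (derivative (minpoly K y)) ≠ 0 :=
    (Algebra.IsSeparable.isSeparable K y).aeval_derivative_ne_zero (minpoly.aeval K y)
  have h := traceForm_dualSubmodule_adjoin P.O K htop hyi
  constructor
  · intro hw
    have hmem : w ∈ (Algebra.traceForm K K').dualSubmodule
        (Subalgebra.toSubmodule (Algebra.adjoin P.O ({y} : Set K'))) := fun n hn => by
      rw [Submodule.mem_one]
      exact ⟨⟨_, hw n hn⟩, rfl⟩
    rw [h] at hmem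
    obtain ⟨q, hq, rfl⟩ := hmem
    simpa [mul_inv_cancel_left₀ hne] using hq
  · intro hw n hn
    have hmem : w ∈ (Algebra.traceForm K K').dualSubmodule
        (Subalgebra.toSubmodule (Algebra.adjoin P.O ({y} : Set K'))) := by
      rw [h]
      exact ⟨_, hw, by simp [inv_mul_cancel_left₀ hne]⟩
    obtain ⟨c, hc⟩ := Submodule.mem_one.1 (hmem n hn)
    rw [Algebra.traceForm_apply] at hc
    rw [← hc]; exact c.2

variable (hQP : IsOver Q P) {s : K'} (hs : Q.1 s = exp (-1)) (hsi : IsIntegral P.O s)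
  (h0 : P.1 ((minpoly K s).coeff 0) = exp (-1))
include hQP hs hsi h0

theorem exists_eq_mul_parameter {q : K'} (hq : q ∈ Algebra.adjoin P.O ({s} : Set K')) (hlt : Q.1 q < 1) :
    ∃ q' ∈ Algebra.adjoin P.O ({s} : Set K'), q = s * q' := by
  have hA : ∀ a : P.O, algebraMap P.O K' a = algebraMap K K' (a : K) := fun a =>
    IsScalarTower.algebraMap_apply P.O K K' a
  have hmin : P.1 (((minpoly P.O s).coeff 0 : P.O) : K) = exp (-1) := by
    rw [minpoly.isIntegrallyClosed_eq_field_fractions' K hsi, coeff_map] at h0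
    exact h0
  obtain ⟨p, rfl⟩ := Algebra.adjoin_mem_exists_aeval P.O s hq
  have hdec : ∀ p : P.O[X], aeval s p = s * aeval s p.divX + algebraMap K K' ((p.coeff 0 : P.O) : K) := fun p => by
    conv_lhs => rw [← X_mul_divX_add p, map_add, map_mul, aeval_X, aeval_C, hA]
  have hval : ∀ p : P.O[X], Q.1 (aeval s p) ≤ 1 := fun p => by
    rw [aeval_eq_sum_range]
    refine Valuation.map_sum_le _ fun i _ => ?_
    rw [Algebra.smul_def, map_mul, map_pow, hA, hs]
    refine mul_le_one' ((val_le_one_iff hQP _).2 (p.coeff i).2) (pow_le_one' ?_ _)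
    rw [← exp_zero, exp_le_exp]; norm_num
  have ha : P.1 ((p.coeff 0 : P.O) : K) < 1 := by
    rw [← val_lt_one_iff hQP, show algebraMap K K' ((p.coeff 0 : P.O) : K) = aeval s p - s * aeval s p.divX by
      rw [hdec p]; ring]
    refine (Q.1.map_sub _ _).trans_lt (max_lt hlt ?_)
    rw [map_mul, hs]
    refine (mul_le_mul' le_rfl (hval _)).trans_lt ?_
    rw [mul_one, ← exp_zero, exp_lt_exp]; norm_num
  set a0 := (((minpoly P.O s).coeff 0 : P.O) : K) with ha0
  have hm := minpoly.aeval P.O s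
  rw [hdec] at hm
  let c : P.O := ⟨((p.coeff 0 : P.O) : K) / a0, by
    show P.1 _ ≤ 1
    rw [map_div₀, hmin, div_le_one₀ exp_pos]
    exact (lt_one_iff_le P).1 ha⟩
  refine ⟨aeval s p.divX - algebraMap P.O K' c * aeval s (minpoly P.O s).divX,
    sub_mem (aeval_mem_adjoin_singleton P.O s) (mul_mem (Subalgebra.algebraMap_mem _ _) (aeval_mem_adjoin_singleton P.O s)), ?_⟩
  have hca : algebraMap K K' ((p.coeff 0 : P.O) : K) = algebraMap P.O K' c * algebraMap K K' a0 := by
    rw [hA, ← map_mul]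
    exact congrArg _ (div_mul_cancel₀ _ (ne_zero_of_val P hmin)).symm
  rw [hdec p, hca]
  rw [← ha0] at hm
  linear_combination (algebraMap P.O K' c) * hm

theorem exists_eq_pow_mul (n : ℕ) {q : K'} (hq : q ∈ Algebra.adjoin P.O ({s} : Set K'))
    (hle : Q.1 q ≤ exp (-(n : ℤ))) : ∃ q' ∈ Algebra.adjoin P.O ({s} : Set K'), q = s ^ n * q' := by
  induction n generalizing q with
  | zero => exact ⟨q, hq, by rw [pow_zero, one_mul]⟩
  | succ n ih =>
    obtain ⟨q₁, hq₁, rfl⟩ := exists_eq_mul_parameter hQP hs hsi h0 hq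
      (hle.trans_lt (by rw [← exp_zero, exp_lt_exp]; push_cast; omega))
    have h1 : Q.1 q₁ ≤ exp (-(n : ℤ)) := by
      rw [map_mul, hs, ← mul_le_mul_iff_right₀ (exp_pos (a := (1 : ℤ))), ← mul_assoc, ← exp_add, add_neg_cancel, exp_zero,
        one_mul, ← exp_add] at hle
      refine hle.trans (exp_le_exp.2 ?_)
      push_cast; omega
    obtain ⟨q', hq', rfl⟩ := ih hq₁ h1
    exact ⟨q', hq', by rw [pow_succ]; ring⟩

end Integral

theorem exists_parameter (hK : IsFunctionField k K) (hQP : IsOver Q P) :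
    ∃ s : K', Q.1 s = exp (-1) ∧ ∀ R : Place k K', IsOver R P → R ≠ Q → R.1 s = 1 := by
  classical
  obtain ⟨t, ht⟩ := exists_val Q (-1)
  obtain ⟨z, hz⟩ := exists_approx (placesOver hK K' P) (fun R => if R = Q then t else 1) (-2)
  refine ⟨z, ?_, fun R hR hne => ?_⟩
  · have := hz Q ((mem_placesOver hK).2 hQP)
    rw [if_pos rfl] at this
    rw [← ht]
    exact Valuation.map_eq_of_sub_lt _ (this.trans_lt (by rw [ht, exp_lt_exp]; norm_num))
  · have := hz R ((mem_placesOver hK).2 hR)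
    rw [if_neg hne] at this
    exact (Valuation.map_eq_of_sub_lt _ (this.trans_lt (by rw [map_one, ← exp_zero, exp_lt_exp]; norm_num))).trans
      (map_one _)

section Main

variable [Algebra.IsSeparable K K'] {e : ℕ} {φ : K →ₐ[k] F₀⸨X⸩} {ψ : K' →ₐ[k] F⸨X⸩}

theorem ord_derivative_parameter (hK : IsFunctionField k K) (hg : IsGeometric k K) (he : IsOverWith Q P e)
    (hφ : LocRes.IsExpansionAt P.1 φ) (hψ : LocRes.IsExpansionAt Q.1 ψ) {x : K} (hx : LocRes.vDiff φ 1 x ≠ 0)
    (hx' : LocRes.vDiff ψ 1 (algebraMap K K' x) ≠ 0)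
    (hres : ∀ b : K', Q.1 b ≤ 1 → ∃ a : K, P.1 a ≤ 1 ∧ Q.1 (algebraMap K K' a - b) < 1) {s : K'}
    (hs : Q.1 s = exp (-1)) (hs' : ∀ R : Place k K', IsOver R P → R ≠ Q → R.1 s = 1) :
    IntermediateField.adjoin K ({s} : Set K') = ⊤ ∧
      Q.1 (aeval s (derivative (minpoly K s))) = exp (-LocRes.diffExp φ ψ e x) ∧
      P.1 ((minpoly K s).coeff 0) = exp (-1) ∧ ∀ R : Place k K', IsOver R P → R.1 s ≤ 1 := by
  classical
  letI : Algebra P.O K' := ((algebraMap K K').comp P.O.subtype).toAlgebra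
  haveI : IsScalarTower P.O K K' := IsScalarTower.of_algebraMap_eq fun _ => rfl
  have hQP : IsOver Q P := ⟨e, he⟩
  obtain ⟨htop, h0⟩ := adjoin_eq_top_and_ord_coeff_zero hK hQP (deg_eq_of_surjective hK hQP hres) hs hs'
  have hle : ∀ R : Place k K', IsOver R P → R.1 s ≤ 1 := fun R hR => by
    by_cases h : R = Q
    · rw [h, hs, ← exp_zero, exp_le_exp]; norm_num
    · exact (hs' R hR h).le
  haveI := (isSeparable_residue hK hg hψ).1
  obtain ⟨t, ht⟩ := hφ.2.2
  obtain ⟨htD, htv⟩ := diffExp_eq_ordDiff_parameter hK hg he hφ hψ hx hx' ht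
  exact ⟨htop, (v_derivative_of_coeff he hψ ht htD hs (minpoly.aeval K s)
    (coeff_minpoly_le ((isIntegral_iff_places hK).2 hle)) h0).trans htv, h0, hle⟩

variable [Algebra P.O K'] [IsScalarTower P.O K K']

theorem traceDual_min (hK : IsFunctionField k K) (hg : IsGeometric k K) (he : IsOverWith Q P e)
    (hφ : LocRes.IsExpansionAt P.1 φ) (hψ : LocRes.IsExpansionAt Q.1 ψ) {x : K} (hx : LocRes.vDiff φ 1 x ≠ 0)
    (hx' : LocRes.vDiff ψ 1 (algebraMap K K' x) ≠ 0)
    (hres : ∀ b : K', Q.1 b ≤ 1 → ∃ a : K, P.1 a ≤ 1 ∧ Q.1 (algebraMap K K' a - b) < 1) :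
    (∀ y : K', (∀ z : K', IsIntegral P.O z → P.1 (Algebra.trace K K' (y * z)) ≤ 1) →
      Q.1 y ≤ exp (LocRes.diffExp φ ψ e x)) ∧
    ∃ y : K', (∀ z : K', IsIntegral P.O z → P.1 (Algebra.trace K K' (y * z)) ≤ 1) ∧
      Q.1 y = exp (LocRes.diffExp φ ψ e x) := by
  classical
  have hQP : IsOver Q P := ⟨e, he⟩
  obtain ⟨s, hs, hs'⟩ := exists_parameter hK hQP
  obtain ⟨htop, hδ, h0, hle⟩ := ord_derivative_parameter hK hg he hφ hψ hx hx' hres hs hs'
  have hsi := (isIntegral_iff_places (P := P) hK).2 hle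
  set δ := aeval s (derivative (minpoly K s))
  set d := LocRes.diffExp φ ψ e x
  have hval : ∀ q ∈ Algebra.adjoin P.O ({s} : Set K'), Q.1 q ≤ 1 := fun q hq =>
    (isIntegral_iff_places hK).1 (isIntegral_of_mem_adjoin hsi hq) Q hQP
  have hδR : ∀ z : K', IsIntegral P.O z → δ * z ∈ Algebra.adjoin P.O ({s} : Set K') := fun z hz =>
    (dual_adjoin_iff htop hsi z).1 fun n hn => val_trace_le (hz.mul (isIntegral_of_mem_adjoin hsi hn))
  refine ⟨fun y hy => ?_, ?_⟩
  · have h := hval _ ((dual_adjoin_iff htop hsi y).1 fun n hn => hy n (isIntegral_of_mem_adjoin hsi hn))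
    rw [map_mul, hδ, ← mul_le_mul_iff_right₀ (exp_pos (a := d)), ← mul_assoc, ← exp_add, add_neg_cancel, exp_zero,
      one_mul, mul_one] at h
    exact h
  have hδ1 : δ ∈ Algebra.adjoin P.O ({s} : Set K') := by simpa using hδR 1 isIntegral_one
  obtain ⟨n, hn⟩ : ∃ n : ℕ, d = n := by
    have h := hval δ hδ1
    rw [hδ, ← exp_zero, exp_le_exp] at h
    exact ⟨d.toNat, (Int.toNat_of_nonneg (by omega)).symm⟩
  have hs0 : s ≠ 0 := ne_zero_of_val Q hs
  refine ⟨(s ^ n)⁻¹, fun z hz => ?_, by rw [map_inv₀, map_pow, hs, ← exp_nsmul, ← exp_neg, hn]; simp⟩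
  obtain ⟨q', hq', hqe⟩ := exists_eq_pow_mul hQP hs hsi h0 n (hδR z hz) (by
    rw [map_mul, hδ, hn]
    exact (mul_le_mul' le_rfl ((isIntegral_iff_places hK).1 hz Q hQP)).trans_eq (mul_one _))
  have h := (dual_adjoin_iff htop hsi ((s ^ n)⁻¹ * z)).2
    (by rw [mul_left_comm, hqe, inv_mul_cancel_left₀ (pow_ne_zero _ hs0)]; exact hq') 1 (one_mem _)
  rwa [mul_one] at h

theorem diffExp_le_derivative (hK : IsFunctionField k K) (hg : IsGeometric k K) (he : IsOverWith Q P e)
    (hφ : LocRes.IsExpansionAt P.1 φ) (hψ : LocRes.IsExpansionAt Q.1 ψ) {x : K} (hx : LocRes.vDiff φ 1 x ≠ 0)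
    (hx' : LocRes.vDiff ψ 1 (algebraMap K K' x) ≠ 0)
    (hres : ∀ b : K', Q.1 b ≤ 1 → ∃ a : K, P.1 a ≤ 1 ∧ Q.1 (algebraMap K K' a - b) < 1)
    {y : K'} (hy : IntermediateField.adjoin K ({y} : Set K') = ⊤) (hyi : IsIntegral P.O y) :
    LocRes.diffExp φ ψ e x ≤ Q.ord (aeval y (derivative (minpoly K y))) ∧
    (Q.ord (aeval y (derivative (minpoly K y))) = LocRes.diffExp φ ψ e x →
      ∀ z : K', Q.1 z ≤ 1 → ∃ a ∈ Algebra.adjoin P.O ({y} : Set K'), ∃ b ∈ Algebra.adjoin P.O ({y} : Set K'),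
        Q.1 b = 1 ∧ z * b = a) := by
  classical
  have hQP : IsOver Q P := ⟨e, he⟩
  obtain ⟨-, y₀, hy₀, hy₀v⟩ := traceDual_min hK hg he hφ hψ hx hx' hres
  set δ := aeval y (derivative (minpoly K y))
  have hne : δ ≠ 0 := (Algebra.IsSeparable.isSeparable K y).aeval_derivative_ne_zero (minpoly.aeval K y)
  have hb : ∀ z, IsIntegral P.O z → δ * (y₀ * z) ∈ Algebra.adjoin P.O ({y} : Set K') := fun z hz =>
    (dual_adjoin_iff hy hyi _).1 fun n hn => by
      rw [mul_assoc]
      exact hy₀ _ (hz.mul (isIntegral_of_mem_adjoin hyi hn))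
  have hb1 : δ * y₀ ∈ Algebra.adjoin P.O ({y} : Set K') := by simpa using hb 1 isIntegral_one
  have hbv : Q.1 (δ * y₀) = exp (LocRes.diffExp φ ψ e x - Q.ord δ) := by
    rw [map_mul, hy₀v, val_eq_exp Q hne, ← exp_add]; congr 1; ring
  refine ⟨?_, fun heq z hz => ?_⟩
  · have h := (isIntegral_iff_places hK).1 (isIntegral_of_mem_adjoin hyi hb1) Q hQP
    rw [hbv, ← exp_zero, exp_le_exp] at h
    omega
  rw [heq, sub_self, exp_zero] at hbv
  obtain ⟨u, hu⟩ := exists_approx (placesOver hK K' P) (fun R => if R = Q then 1 else 0)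
    (-(∑ R ∈ placesOver hK K' P, |R.ord z|) - 1)
  have hS : 0 ≤ ∑ R ∈ placesOver hK K' P, |R.ord z| := Finset.sum_nonneg fun _ _ => abs_nonneg _
  have huQ : Q.1 u = 1 := by
    have := hu Q ((mem_placesOver hK).2 hQP)
    rw [if_pos rfl] at this
    exact (Valuation.map_eq_of_sub_lt _ (this.trans_lt (by rw [map_one, ← exp_zero, exp_lt_exp]; omega))).trans
      (map_one _)
  have hsmall : ∀ R : Place k K', IsOver R P → R ≠ Q → R.1 u ≤ exp (-(∑ R ∈ placesOver hK K' P, |R.ord z|) - 1) :=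
    fun R hR hne => by simpa [hne] using hu R ((mem_placesOver hK).2 hR)
  have hui : IsIntegral P.O u := (isIntegral_iff_places hK).2 fun R hR => by
    by_cases h : R = Q
    · rw [h, huQ]
    · exact (hsmall R hR h).trans (by rw [← exp_zero, exp_le_exp]; omega)
  have hzu : IsIntegral P.O (z * u) := (isIntegral_iff_places hK).2 fun R hR => by
    by_cases h : R = Q
    · rw [h, map_mul, huQ, mul_one]; exact hz
    · rcases eq_or_ne z 0 with rfl | hz0
      · simp
      rw [map_mul, val_eq_exp R hz0]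
      refine (mul_le_mul' le_rfl (hsmall R hR h)).trans ?_
      rw [← exp_add, ← exp_zero, exp_le_exp]
      have h1 := Finset.single_le_sum (f := fun R => |R.ord z|) (fun _ _ => abs_nonneg _) ((mem_placesOver hK).2 hR)
      have h2 := neg_abs_le (R.ord z)
      omega
  exact ⟨_, hb (z * u) hzu, _, hb u hui, by rw [← mul_assoc, map_mul, hbv, huQ, one_mul], by ring⟩

end Main

end Groth.Agent.FunFld.Residue
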