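import Groth.Agent.FunFld.Residue.DiffExpRamify
import Groth.Agent.FunFld.InertiaSub
import Groth.Agent.FunFld.Ext.Below
import Mathlib.FieldTheory.PrimitiveElement
import Mathlib.Algebra.BigOperators.Finprod

/-!
Hilbert's formula for the different exponent.
-/

set_option autoImplicit false
universe u v w

open WithZero _root_.FunFld Polynomial IsLocalRing
open scoped LaurentSeries Pointwise

noncomputable section

attribute [-instance] instModuleResidueFieldOfAlgebra

namespace Groth.Agent.FunFld.Residue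

variable {k : Type u} {K K' : Type v} [Field k] [Field K] [Field K'] [Algebra k K] [Algebra K K'] [Algebra k K']
  [IsScalarTower k K K'] {F₀ : Type*} [Field F₀] [Algebra k F₀] {F : Type w} [Field F] [Algebra k F]

theorem ord_prod (Q : Place k K') {ι : Type*} (J : Finset ι) (f : ι → K') (h : ∀ i ∈ J, f i ≠ 0) :
    Q.ord (∏ i ∈ J, f i) = ∑ i ∈ J, Q.ord (f i) := by
  classical
  induction J using Finset.induction_on with
  | empty => simpa using ord_algebraMap Q (1 : k)
  | insert a J ha ih =>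
    rw [Finset.prod_insert ha, Finset.sum_insert ha, ord_mul Q (h a (Finset.mem_insert_self a J))
      (Finset.prod_ne_zero_iff.2 fun i hi => h i (Finset.mem_insert_of_mem hi)),
      ih fun i hi => h i (Finset.mem_insert_of_mem hi)]

variable [FiniteDimensional K K'] [IsGalois K K']

/-- `G_1` is the inertia group. -/
theorem mem_inertia_iff_G (Q : Place k K') [Algebra.IsSeparable k (ResidueField Q.O)] (σ : K' ≃ₐ[K] K') :
    σ ∈ (Q.O.inertiaSubgroup K).map (Q.O.decompositionSubgroup K).subtype ↔ Ramify.G Q 1 σ := by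
  rw [mem_inertia_iff]
  constructor
  · exact fun h x hx => (lt_one_iff_le Q).1 (h.2 x hx)
  · intro h
    obtain ⟨t, ht⟩ := exists_val Q (-1)
    refine ⟨?_, fun x hx => (lt_one_iff_le Q).2 (h x hx)⟩
    ext x
    rw [ValuationSubring.mem_pointwise_smul_iff_inv_smul_mem]
    constructor
    · intro hx
      have h2 := Ramify.val_apply_le_one Q (i := 1) (by norm_num) h (x := σ⁻¹ x) hx
      rwa [show σ (σ⁻¹ x) = x from σ.apply_symm_apply x] at h2
    · intro hx
      exact Ramify.val_apply_le_one Q (i := 1) (by norm_num) (Ramify.G_inv Q ht le_rfl h) hx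

theorem diffExp_eq_sum_card (hK : IsFunctionField k K) (hg : IsGeometric k K) {P : Place k K} {Q : Place k K'}
    {e : ℕ} (he : IsOverWith Q P e) {φ : K →ₐ[k] F₀⸨X⸩} (hφ : LocRes.IsExpansionAt P.1 φ)
    {ψ : K' →ₐ[k] F⸨X⸩} (hψ : LocRes.IsExpansionAt Q.1 ψ) {x : K} (hx : LocRes.vDiff φ 1 x ≠ 0)
    (hx' : LocRes.vDiff ψ 1 (algebraMap K K' x) ≠ 0) :
    (Function.support fun i : ℕ => (Nat.card {σ : K' ≃ₐ[K] K' // Ramify.G Q (i : ℤ) σ} : ℤ) - 1).Finite ∧
    LocRes.diffExp φ ψ e x = ∑ᶠ i : ℕ, if 1 ≤ i then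
      (Nat.card {σ : K' ≃ₐ[K] K' // Ramify.G Q (i : ℤ) σ} : ℤ) - 1 else 0 := by
  classical
  obtain ⟨hsF, hsR⟩ := isSeparable_residue hK hg hψ
  haveI := hsF
  haveI := hsR
  set I := (Q.O.inertiaSubgroup K).map (Q.O.decompositionSubgroup K).subtype with hI
  set K₁ := IntermediateField.fixedField I with hK₁
  haveI : IsScalarTower k K₁ K' := IsScalarTower.of_algebraMap_eq fun c => by
    rw [IsScalarTower.algebraMap_apply k K K', IsScalarTower.algebraMap_apply k K K₁]; rfl
  obtain ⟨Q₁, hQ₁⟩ := totally_ramified_inertiaField hK Q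
  have hcI : Nat.card I = e := by
    rw [← card_inertia hK Q P e he]
    exact (Nat.card_congr (Subgroup.equivMapOfInjective _ _ (Subgroup.subtype_injective _)).toEquiv).symm
  have hn : Module.finrank K₁ K' = e := by rw [IntermediateField.finrank_fixedField_eq_card]; exact hcI
  obtain ⟨t, ht⟩ := hφ.2.2
  obtain ⟨htD, htv⟩ := diffExp_eq_ordDiff_parameter hK hg he hφ hψ hx hx' ht
  obtain ⟨s, hs⟩ := exists_val Q (-1)
  have hepos := IsOverWith.pos he
  have ht₁ : Q₁.1 (algebraMap K K₁ t) = exp (-1) := by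
    apply pow_left_injective_wz hepos.ne'
    have h1 := hQ₁ (algebraMap K K₁ t)
    rw [hn, ← IsScalarTower.algebraMap_apply K K₁ K', he, ht] at h1
    exact h1.symm
  have key := v_derivative_minpoly hQ₁ rfl hψ (t := algebraMap K K₁ t) ht₁
    (by rw [← IsScalarTower.algebraMap_apply K K₁ K']; exact htD) hs
  rw [← IsScalarTower.algebraMap_apply K K₁ K', htv] at key
  obtain ⟨hdeg, -, -⟩ := minpoly_parameter hQ₁ rfl hs
  have hint : IsIntegral K₁ s := IsIntegral.of_finite K₁ s
  -- an element of the inertia group fixing `s` is trivial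
  have hfix : ∀ σ ∈ I, σ s = s → σ = 1 := by
    intro σ hσ h
    have hfx : σ ∈ K₁.fixingSubgroup := by rw [hK₁, IntermediateField.fixingSubgroup_fixedField]; exact hσ
    have htop := (Field.primitive_element_iff_minpoly_natDegree_eq K₁ s).2 hdeg
    refine AlgEquiv.ext fun y => ?_
    have hy : y ∈ IntermediateField.adjoin K₁ ({s} : Set K') := htop ▸ IntermediateField.mem_top
    show σ y = y
    induction hy using IntermediateField.adjoin_induction with
    | mem y hy => rw [Set.mem_singleton_iff.1 hy]; exact h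
    | algebraMap c => exact hfx c
    | add a b _ _ ha hb => rw [map_add, ha, hb]
    | inv a _ ha => rw [map_inv₀, ha]
    | mul a b _ _ ha hb => rw [map_mul, ha, hb]
  set J : Finset (K' ≃ₐ[K] K') := Finset.univ.filter (· ∈ I) with hJ
  have hmem : ∀ σ, σ ∈ J ↔ σ ∈ I := fun σ => by simp [hJ]
  have hcJ : J.card = e := by
    rw [← hcI, Nat.card_eq_fintype_card, ← Fintype.card_coe]
    exact Fintype.card_congr (Equiv.subtypeEquivRight hmem)
  set m := minpoly K₁ s
  have hroot : ∀ σ ∈ J, (m.map (algebraMap K₁ K')).eval (σ s) = 0 := by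
    intro σ hσ
    rw [hmem] at hσ
    have hfx : σ ∈ K₁.fixingSubgroup := by rw [hK₁, IntermediateField.fixingSubgroup_fixedField]; exact hσ
    have hcomp : (σ : K' →+* K').comp (algebraMap K₁ K') = algebraMap K₁ K' := RingHom.ext fun c => hfx c
    have h1 : (σ : K' →+* K') (eval₂ (algebraMap K₁ K') s m) = 0 := by
      rw [← aeval_def, minpoly.aeval, map_zero]
    rw [hom_eval₂, hcomp] at h1
    rw [eval_map]
    exact h1
  have hinj : Set.InjOn (fun σ : K' ≃ₐ[K] K' => σ s) J := by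
    intro σ hσ τ hτ h
    have h1 := hfix (τ⁻¹ * σ) (mul_mem (inv_mem ((hmem τ).1 hτ)) ((hmem σ).1 hσ))
      (by rw [AlgEquiv.mul_apply, show σ s = τ s from h]; exact τ.symm_apply_apply s)
    exact (inv_mul_eq_one.1 h1).symm
  have hprod : m.map (algebraMap K₁ K') = ∏ σ ∈ J, (X - C (σ s)) := by
    refine (eq_of_monic_of_dvd_of_natDegree_le (monic_prod_of_monic _ _ fun σ _ => monic_X_sub_C _)
      ((minpoly.monic hint).map _) ?_ ?_)
    · refine Finset.prod_dvd_of_coprime (fun a ha b hb hab => ?_) fun σ hσ => dvd_iff_isRoot.2 (hroot σ hσ)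
      exact isCoprime_X_sub_C_of_isUnit_sub (isUnit_iff_ne_zero.2 (sub_ne_zero.2 fun h => hab (hinj ha hb h)))
    · rw [natDegree_map, hdeg, natDegree_prod_of_monic _ _ fun σ _ => monic_X_sub_C _]
      simp only [natDegree_X_sub_C, Finset.sum_const, smul_eq_mul, mul_one, hcJ]
      exact hn.le
  have h1J : (1 : K' ≃ₐ[K] K') ∈ J := (hmem 1).2 (one_mem _)
  set J' := J.erase 1 with hJ'
  have hne : ∀ σ ∈ J', σ s - s ≠ 0 := fun σ hσ h =>
    (Finset.mem_erase.1 hσ).1 (hfix σ ((hmem σ).1 (Finset.mem_erase.1 hσ).2) (sub_eq_zero.1 h))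
  have hder : aeval s (derivative m) = ∏ σ ∈ J', (s - σ s) := by
    rw [← eval_map_algebraMap, ← derivative_map, hprod, ← Finset.mul_prod_erase J _ h1J, derivative_mul]
    simp [eval_prod, hJ']
  have hd : LocRes.diffExp φ ψ e x = ∑ σ ∈ J', Q.ord (σ s - s) := by
    have h1 : Q.ord (aeval s (derivative m)) = LocRes.diffExp φ ψ e x := by
      rw [ord_eq_of_val Q key, neg_neg]
    rw [← h1, hder, ord_prod Q J' _ fun σ hσ => by rw [← neg_sub]; exact neg_ne_zero.2 (hne σ hσ)]
    exact Finset.sum_congr rfl fun σ _ => by rw [Place.ord, Place.ord, Valuation.map_sub_swap]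
  have hord : ∀ σ ∈ J', 1 ≤ Q.ord (σ s - s) := by
    intro σ hσ
    have h1 := (mem_inertia_iff_G Q σ).1 ((hmem σ).1 (Finset.mem_erase.1 hσ).2) s (by rw [hs, ← exp_zero, exp_le_exp]; omega)
    rw [val_eq_exp Q (hne σ hσ), exp_le_exp] at h1
    omega
  have hG : ∀ i : ℕ, 1 ≤ i → (Nat.card {σ : K' ≃ₐ[K] K' // Ramify.G Q (i : ℤ) σ} : ℤ) - 1 =
      ((J'.filter fun σ => (i : ℤ) ≤ Q.ord (σ s - s)).card : ℤ) := by
    intro i hi
    have hset : ∀ σ : K' ≃ₐ[K] K', Ramify.G Q (i : ℤ) σ ↔
        σ ∈ insert 1 (J'.filter fun σ => (i : ℤ) ≤ Q.ord (σ s - s)) := by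
      intro σ
      rw [Finset.mem_insert, Finset.mem_filter, Finset.mem_erase, hmem]
      constructor
      · intro h
        refine or_iff_not_imp_left.2 fun h1 => ?_
        have hI1 : σ ∈ I := (mem_inertia_iff_G Q σ).2 (h.mono Q (by omega))
        refine ⟨⟨h1, hI1⟩, ?_⟩
        have h2 := (Ramify.iff_apply Q hs (h.mono Q (by omega)) i hi).1 h
        rw [val_eq_exp Q (hne σ (Finset.mem_erase.2 ⟨h1, (hmem σ).2 hI1⟩)), exp_le_exp] at h2
        omega
      · rintro (rfl | ⟨⟨h1, h2⟩, h3⟩)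
        · exact Ramify.G_one Q
        · refine (Ramify.iff_apply Q hs ((mem_inertia_iff_G Q σ).1 h2) i hi).2 ?_
          rw [val_eq_exp Q (hne σ (Finset.mem_erase.2 ⟨h1, (hmem σ).2 h2⟩)), exp_le_exp]
          omega
    rw [Nat.card_congr (Equiv.subtypeEquivRight hset), Nat.card_eq_fintype_card, Fintype.card_coe,
      Finset.card_insert_of_notMem (by simp [hJ'])]
    push_cast
    ring
  set N := (J'.sup fun σ => (Q.ord (σ s - s)).toNat) + 1
  have hN : ∀ σ ∈ J', Q.ord (σ s - s) < N := fun σ hσ => by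
    have := Finset.le_sup (f := fun σ => (Q.ord (σ s - s)).toNat) hσ
    omega
  have hzero : ∀ i : ℕ, N ≤ i → ((J'.filter fun σ => (i : ℤ) ≤ Q.ord (σ s - s)).card : ℤ) = 0 := by
    intro i hi
    rw [Nat.cast_eq_zero, Finset.card_eq_zero, Finset.filter_eq_empty_iff]
    intro σ hσ h
    have := hN σ hσ
    omega
  refine ⟨(Set.finite_lt_nat N).subset fun i hi => ?_, ?_⟩
  · by_contra h
    simp only [Set.mem_setOf_eq, not_lt] at h
    exact hi (by show _ - 1 = (0 : ℤ); rw [hG i (by omega)]; exact hzero i h)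
  rw [finsum_eq_sum_of_support_subset _ (s := Finset.Ico 1 N) fun i hi => ?_]
  · have h3 : ∀ i ∈ Finset.Ico 1 N, (if 1 ≤ i then
        (Nat.card {σ : K' ≃ₐ[K] K' // Ramify.G Q (i : ℤ) σ} : ℤ) - 1 else 0) =
        ((J'.filter fun σ => (i : ℤ) ≤ Q.ord (σ s - s)).card : ℤ) := fun i hi => by
      rw [if_pos (Finset.mem_Ico.1 hi).1, hG i (Finset.mem_Ico.1 hi).1]
    rw [hd, Finset.sum_congr rfl h3]
    simp only [Finset.card_filter, Nat.cast_sum]
    rw [Finset.sum_comm]
    refine Finset.sum_congr rfl fun σ hσ => ?_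
    obtain ⟨n, hn'⟩ := Int.eq_ofNat_of_zero_le (le_trans zero_le_one (hord σ hσ))
    have h1 := hord σ hσ
    have h2 := hN σ hσ
    rw [hn'] at h1 h2 ⊢
    rw [← Nat.cast_sum, ← Finset.card_filter, Nat.cast_inj,
      show (Finset.Ico 1 N).filter (fun i : ℕ => (i : ℤ) ≤ (n : ℤ)) = Finset.Icc 1 n by
        ext i; simp only [Finset.mem_filter, Finset.mem_Ico, Finset.mem_Icc]; omega, Nat.card_Icc]
    omega
  · simp only [Function.mem_support, ne_eq, ite_eq_right_iff, not_forall] at hi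
    obtain ⟨h1, h2⟩ := hi
    rw [Finset.coe_Ico, Set.mem_Ico]
    refine ⟨h1, ?_⟩
    by_contra h
    exact h2 (by rw [hG i h1]; exact hzero i (by omega))

end Groth.Agent.FunFld.Residue
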