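import Groth.Agent.FunFld.Residue.WeilDiff
import Groth.Agent.FunFld.GeomRat
import Groth.Agent.FunFld.QuadRat

/-!
Bases of regular differentials of quadratic extensions of the rational function field.
-/

set_option autoImplicit false
universe u v w

open WithZero _root_.FunFld Polynomial
open scoped LaurentSeries

noncomputable section

namespace Groth.Agent.FunFld.Residue

variable {k : Type u} {K : Type v} [Field k] [Field K] [Algebra k K]

section Expansion

variable {F : Type w} [Field F] [Algebra k F] {P : Place k K} {φ : K →ₐ[k] F⸨X⸩}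

theorem coeff_zero_mul {a b : F⸨X⸩} (ha : ∀ n < (0 : ℤ), a.coeff n = 0) (hb : ∀ n < (0 : ℤ), b.coeff n = 0) :
    (a * b).coeff 0 = a.coeff 0 * b.coeff 0 := by
  have e : a = HahnSeries.C (a.coeff 0) + (a - HahnSeries.C (a.coeff 0)) := by abel
  conv_lhs => rw [e, add_mul, HahnSeries.coeff_add, HahnSeries.C_mul_eq_smul, HahnSeries.coeff_smul, smul_eq_mul]
  rw [coeff_mul_eq_zero (a := 1) (b := 0) (fun n hn => ?_) hb (by omega), add_zero]
  rw [HahnSeries.coeff_sub, HahnSeries.C_apply]
  rcases eq_or_ne n 0 with rfl | hne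
  · rw [HahnSeries.coeff_single_same, sub_self]
  · rw [HahnSeries.coeff_single_of_ne hne, sub_zero, ha n (by omega)]

theorem coeff_zero_aeval (hφ : LocRes.IsExpansionAt P.1 φ) {x : K} (hx : P.1 x ≤ 1) (q : k[X]) :
    (φ (aeval x q)).coeff 0 = aeval ((φ x).coeff 0) q := by
  have hint : ∀ y : K, P.1 y ≤ 1 → ∀ n < (0 : ℤ), (φ y).coeff n = 0 := fun y hy =>
    val_mem_iff.mpr (by rw [hφ.1, neg_zero, exp_zero]; exact hy)
  induction q using Polynomial.induction_on with
  | C c =>
    rw [aeval_C, aeval_C, LocRes.map_algebraMap, HahnSeries.C_apply, HahnSeries.coeff_single_same]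
  | add a b ha hb => simp only [map_add, HahnSeries.coeff_add, ha, hb]
  | monomial n c ih =>
    rw [pow_succ, ← mul_assoc, map_mul, aeval_X, map_mul,
      coeff_zero_mul (hint _ (val_aeval_le P hx _)) (hint x hx), ih]
    simp only [map_mul, aeval_X]

theorem D_aeval (φ : K →ₐ[k] F⸨X⸩) (x : K) (q : k[X]) :
    LocRes.D F (φ (aeval x q)) = φ (aeval x (derivative q)) * LocRes.D F (φ x) :=
  D_expansion_of_smul φ ((KaehlerDifferential.D k K).map_aeval q x).symm

theorem vDiff_eq_mul (hφ : LocRes.IsExpansionAt P.1 φ) (u x : K) :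
    LocRes.vDiff φ u x = P.1 u * Valued.v (LocRes.D F (φ x)) := by
  rw [LocRes.vDiff, map_mul, hφ.1]

theorem v_D_le_one (hφ : LocRes.IsExpansionAt P.1 φ) {x : K} (hx : P.1 x ≤ 1) :
    Valued.v (LocRes.D F (φ x)) ≤ 1 := by
  rw [← exp_zero, ← neg_zero]
  refine val_mem_iff.mp fun n hn => ?_
  rw [LocRes.D_coeff]
  rcases eq_or_ne (n + 1) 0 with h' | h'
  · rw [h', zero_smul]
  · rw [val_mem_iff.mpr (by rw [hφ.1, neg_zero, exp_zero]; exact hx : Valued.v (φ x) ≤ exp (-(0 : ℤ))) _ (by omega),
      smul_zero]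

end Expansion

variable [Algebra (RatFunc k) K] [IsScalarTower k (RatFunc k) K]

theorem algebraMap_poly_eq_aeval (q : k[X]) :
    algebraMap (RatFunc k) K (algebraMap k[X] (RatFunc k) q) = aeval (algebraMap (RatFunc k) K RatFunc.X) q := by
  rw [algebraMap_poly, aeval_algebraMap_apply]

theorem aeval_X_ne_zero {q : k[X]} (hq : q ≠ 0) : aeval (algebraMap (RatFunc k) K RatFunc.X) q ≠ 0 := by
  rw [← algebraMap_poly_eq_aeval, ne_eq, _root_.map_eq_zero]
  exact algebraMap_poly_ne_zero hq

theorem D_X_ne_zero (hK : IsFunctionField k K) (hg : IsGeometric k K) [FiniteDimensional (RatFunc k) K]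
    [Algebra.IsSeparable (RatFunc k) K] :
    KaehlerDifferential.D k K (algebraMap (RatFunc k) K RatFunc.X) ≠ 0 := by
  intro h0
  set D := KaehlerDifferential.D k K
  have hr : ∀ r : RatFunc k, D (algebraMap (RatFunc k) K r) = 0 := by
    intro r
    rw [← RatFunc.num_div_denom r, map_div₀, algebraMap_poly_eq_aeval, algebraMap_poly_eq_aeval, Derivation.leibniz_div,
      D.map_aeval, D.map_aeval, h0]
    simp
  let D' : Derivation (RatFunc k) K (KaehlerDifferential k K) :=
    { toFun := D
      map_add' := fun a b => map_add D a b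
      map_smul' := fun c a => by
        rw [RingHom.id_apply, Algebra.smul_def, D.leibniz, hr, smul_zero, add_zero, algebraMap_smul]
      map_one_eq_zero' := D.map_one_eq_zero
      leibniz' := D.leibniz }
  have hall : ∀ z : K, D z = 0 := fun z => by
    have h := D'.map_aeval (minpoly (RatFunc k) z) z
    rw [minpoly.aeval, map_zero] at h
    exact (smul_eq_zero.1 h.symm).resolve_left
      ((Algebra.IsSeparable.isSeparable (RatFunc k) z).aeval_derivative_ne_zero (minpoly.aeval _ _))
  have h1 := finrank_kaehler hK hg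
  haveI : Subsingleton (KaehlerDifferential k K) := by
    refine subsingleton_of_forall_eq 0 fun x => ?_
    have hx : x ∈ Submodule.span K (Set.range D) := (KaehlerDifferential.span_range_derivation k K).symm ▸ Submodule.mem_top
    induction hx using Submodule.span_induction with
    | mem y hy => obtain ⟨a, rfl⟩ := hy; exact hall a
    | zero => rfl
    | add a b _ _ ha hb => rw [ha, hb, add_zero]
    | smul r a _ ha => rw [ha, smul_zero]
  rw [Module.finrank_zero_of_subsingleton] at h1
  exact zero_ne_one h1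

variable {Fs : Place k K → Type w} [∀ P, Field (Fs P)] [∀ P, Algebra k (Fs P)] [∀ P, FiniteDimensional k (Fs P)]
  (φ : ∀ P, K →ₐ[k] (Fs P)⸨X⸩)

omit [Algebra (RatFunc k) K] [IsScalarTower k (RatFunc k) K] in
theorem regular_eq_range (hK : IsFunctionField k K) (hg : IsGeometric k K) (hφ : ∀ P, LocRes.IsExpansionAt P.1 (φ P))
    {x : K} (hx : KaehlerDifferential.D k K x ≠ 0) {g : ℕ} (hgg : genus k K = g)
    (L : Polynomial.degreeLT k g →ₗ[k] K) (hL : Function.Injective L)
    (hmem : ∀ a P, LocRes.vDiff (φ P) (L a) x ≤ 1) {z : K} (hz : ∀ P, LocRes.vDiff (φ P) z x ≤ 1) :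
    ∃ a, L a = z := by
  set W := (WD (0 : Divisor k K)).comap (resHom hK φ hφ x) with hW
  have hset := setOf_vDiff_le_eq hK hg φ hφ hx 0
  have e : ∀ P : Place k K, exp (-((0 : Divisor k K) P)) = 1 := fun P => by simp
  simp only [e] at hset
  have hmemW : ∀ y, (∀ P, LocRes.vDiff (φ P) y x ≤ 1) → y ∈ W := fun y hy => by
    rw [hW, ← SetLike.mem_coe, ← hset]; exact hy
  have hinj : Function.Injective (resHom hK φ hφ x) := (injective_iff_map_eq_zero _).2 fun y hy => by
    by_contra h
    exact resForm_ne_zero hK hg φ hφ h hx hy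
  haveI := (WD_finrank hK (0 : Divisor k K)).1
  let T : W →ₗ[k] WD (0 : Divisor k K) := (resHom hK φ hφ x).restrict fun y hy => hy
  have hT : Function.Injective T := fun a b h => Subtype.ext (hinj (Subtype.ext_iff.mp h))
  haveI : IsNoetherian k (WD (0 : Divisor k K)) := @IsNoetherian.iff_fg k ↥(WD (0 : Divisor k K)) _ _ _ |>.2 (WD_finrank hK (0 : Divisor k K)).1
  haveI : FiniteDimensional k W := Module.Finite.of_injective T hT
  have hfr : Module.finrank k W = g := by
    rw [← hgg, ← finrank_regular hK hg φ hφ hx, hset, Submodule.span_eq]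
  have hle : LinearMap.range L ≤ W := by
    rintro _ ⟨a, rfl⟩
    exact hmemW _ (hmem a)
  have heq : LinearMap.range L = W := Submodule.eq_of_le_of_finrank_eq hle (by
    rw [LinearMap.finrank_range_of_inj hL, hfr, (Polynomial.degreeLTEquiv k g).finrank_eq, Module.finrank_fin_fun])
  exact (heq.ge (hmemW z hz) : z ∈ LinearMap.range L)

/-- `a ↦ a(x) / s`. -/
def divMap (s : K) (g : ℕ) : Polynomial.degreeLT k g →ₗ[k] K :=
  LinearMap.mulRight k s⁻¹ ∘ₗ ((aeval (algebraMap (RatFunc k) K RatFunc.X)).toLinearMap ∘ₗ Submodule.subtype _)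

theorem divMap_apply (s : K) (g : ℕ) (a : Polynomial.degreeLT k g) :
    divMap s g a = algebraMap (RatFunc k) K (algebraMap k[X] (RatFunc k) a) / s := by
  rw [algebraMap_poly_eq_aeval, div_eq_mul_inv]; rfl

theorem divMap_injective {s : K} (hs : s ≠ 0) (g : ℕ) : Function.Injective (divMap (k := k) s g) := by
  refine (injective_iff_map_eq_zero _).2 fun a ha => ?_
  rw [divMap_apply, div_eq_zero_iff, or_iff_left hs, _root_.map_eq_zero,
    map_eq_zero_iff _ (RatFunc.algebraMap_injective k)] at ha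
  exact Subtype.ext ha

omit [IsScalarTower k (RatFunc k) K] [∀ P, FiniteDimensional k (Fs P)] in
theorem vDiff_divMap_le (hφ : ∀ P, LocRes.IsExpansionAt P.1 (φ P)) {s : K} {g : ℕ}
    (h : ∀ i < g, ∀ P, LocRes.vDiff (φ P) (algebraMap (RatFunc k) K RatFunc.X ^ i / s)
      (algebraMap (RatFunc k) K RatFunc.X) ≤ 1)
    [IsScalarTower k (RatFunc k) K] (a : Polynomial.degreeLT k g) (P : Place k K) :
    LocRes.vDiff (φ P) (divMap s g a) (algebraMap (RatFunc k) K RatFunc.X) ≤ 1 := by
  set x := algebraMap (RatFunc k) K RatFunc.X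
  rw [vDiff_eq_mul (hφ P), divMap_apply, algebraMap_poly_eq_aeval]
  rcases eq_or_ne (a : k[X]) 0 with h0 | h0
  · simp [h0]
  have hnd : (a : k[X]).natDegree < g :=
    (natDegree_lt_iff_degree_lt h0).2 (Polynomial.mem_degreeLT.1 a.2)
  obtain ⟨j, hj, hmax⟩ := Finset.exists_max_image (Finset.range g) (fun i => P.1 (x ^ i / s))
    ⟨0, Finset.mem_range.2 (Nat.zero_lt_of_lt hnd)⟩
  refine le_trans (mul_le_mul' ?_ le_rfl) ((vDiff_eq_mul (hφ P) _ _).symm.trans_le (h j (Finset.mem_range.1 hj) P))
  rw [aeval_eq_sum_range' hnd, Finset.sum_div]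
  refine val_algebraMap_sum_le P _ _ fun i hi => ?_
  rw [smul_div_assoc]
  exact (val_smul_le P _ _).trans (hmax i hi)

end Groth.Agent.FunFld.Residue
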