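import Groth.Agent.FunFld.Residue.SepCoeff
import Groth.Agent.FunFld.Residue.RegularBasis
import Groth.Agent.FunFld.Ext.Const
import Groth.Agent.FunFld.Ramify
import Groth.Agent.FunFld.InertiaSub

/-!
The different exponent read off a local parameter.
-/

set_option autoImplicit false
universe u v w

open WithZero _root_.FunFld Polynomial IsLocalRing
open scoped LaurentSeries

noncomputable section

attribute [-instance] instModuleResidueFieldOfAlgebra

namespace Groth.Agent.FunFld.Residue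

variable {k : Type u} {K' : Type v} [Field k] [Field K'] [Algebra k K'] {F : Type w} [Field F] [Algebra k F]
  {Q : Place k K'} {ψ : K' →ₐ[k] F⸨X⸩}

theorem exists_residueEquiv (hψ : LocRes.IsExpansionAt Q.1 ψ) :
    Nonempty (ResidueField Q.O ≃ₐ[k] F) := by
  have hint : ∀ a : Q.O, ∀ n < (0 : ℤ), (ψ (a : K')).coeff n = 0 := fun a =>
    val_mem_iff.mpr (by rw [hψ.1, neg_zero, exp_zero]; exact a.2)
  let c : Q.O →+* F :=
    { toFun := fun a => (ψ (a : K')).coeff 0
      map_one' := by rw [OneMemClass.coe_one, map_one, HahnSeries.coeff_one, if_pos rfl]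
      map_mul' := fun a b => by
        show (ψ ((a : K') * (b : K'))).coeff 0 = _
        rw [map_mul]
        exact coeff_zero_mul (hint a) (hint b)
      map_zero' := by simp
      map_add' := fun a b => by simp }
  have hker : ∀ a ∈ maximalIdeal Q.O, c a = 0 := fun a ha =>
    coeff_zero_eq hψ (by
      refine lt_of_le_of_ne a.2 fun h => (mem_maximalIdeal _).1 ha ?_
      have h0 : (a : K') ≠ 0 := fun e => by rw [e, map_zero] at h; exact zero_ne_one h
      exact isUnit_iff_exists_inv.2 ⟨⟨(a : K')⁻¹, by show Q.1 _ ≤ 1; rw [map_inv₀, h, inv_one]⟩,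
        Subtype.ext (mul_inv_cancel₀ h0)⟩)
  let cb : ResidueField Q.O →+* F := Ideal.Quotient.lift _ c hker
  let L : ResidueField Q.O →ₐ[k] F :=
    { cb with
      commutes' := fun r => by
        show (ψ (algebraMap k K' r)).coeff 0 = _
        rw [LocRes.map_algebraMap, HahnSeries.C_apply, HahnSeries.coeff_single_same] }
  refine ⟨AlgEquiv.ofBijective L ⟨L.toRingHom.injective, fun a => ?_⟩⟩
  obtain ⟨f, hf, rfl⟩ := hψ.2.1 a
  exact ⟨Ideal.Quotient.mk _ ⟨f, hf⟩, rfl⟩

section Tower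

variable {K₁ : Type*} [Field K₁] [Algebra k K₁] [Algebra K₁ K'] [IsScalarTower k K₁ K'] {T : Place k K₁} {e₁ : ℕ}

/-- Along an unramified extension, differentials of integral elements are bounded by `dt`. -/
theorem v_D_le_of_parameter [Algebra.IsSeparable k F] (he₁ : IsOverWith Q T e₁)
    (hψ : LocRes.IsExpansionAt Q.1 ψ) {t : K₁} (ht : T.1 t = exp (-1)) {a : K₁} (ha : T.1 a ≤ 1) :
    Valued.v (LocRes.D F (ψ (algebraMap K₁ K' a))) ≤ Valued.v (LocRes.D F (ψ (algebraMap K₁ K' t))) := by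
  classical
  have hepos := IsOverWith.pos he₁
  have ht0 : t ≠ 0 := ne_zero_of_val T ht
  have hvt : Valued.v (ψ (algebraMap K₁ K' t)) < 1 := by
    rw [hψ.1, he₁, ht, ← exp_nsmul, ← exp_zero, exp_lt_exp, smul_neg, nsmul_eq_mul, mul_one]
    omega
  have hint : ∀ b : K₁, T.1 b ≤ 1 → Q.1 (algebraMap K₁ K' b) ≤ 1 := fun b hb => by
    rw [he₁]; exact pow_le_one' hb e₁
  by_contra hlt
  rw [not_le] at hlt
  set S : Set ℤ := {n | ∃ b : K₁, T.1 b ≤ 1 ∧
    Valued.v (LocRes.D F (ψ (algebraMap K₁ K' b))) = exp n} with hS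
  have hne : Valued.v (LocRes.D F (ψ (algebraMap K₁ K' a))) ≠ 0 := fun h => by
    rw [h] at hlt; exact absurd hlt (not_lt.2 zero_le)
  obtain ⟨_, ⟨b, hb, hbv⟩, hmax⟩ := Int.exists_greatest_of_bdd (P := fun n => n ∈ S)
    ⟨0, fun z hz => by
      obtain ⟨b, hb, hbv⟩ := hz
      have := v_D_le_one hψ (hint b hb)
      rwa [hbv, ← exp_zero, exp_le_exp] at this⟩
    ⟨_, a, ha, (exp_log hne).symm⟩
  have hbound : ∀ c : K₁, T.1 c ≤ 1 → Valued.v (LocRes.D F (ψ (algebraMap K₁ K' c))) ≤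
      Valued.v (LocRes.D F (ψ (algebraMap K₁ K' b))) := fun c hc => by
    rcases eq_or_ne (Valued.v (LocRes.D F (ψ (algebraMap K₁ K' c)))) 0 with h | h
    · rw [h]; exact zero_le
    · rw [hbv, ← exp_log h, exp_le_exp]
      exact hmax _ ⟨c, hc, (exp_log h).symm⟩
  have hgt : Valued.v (LocRes.D F (ψ (algebraMap K₁ K' t))) < Valued.v (LocRes.D F (ψ (algebraMap K₁ K' b))) :=
    hlt.trans_le (hbound a ha)
  set B := algebraMap K₁ K' b
  have hB : Q.1 B ≤ 1 := hint b hb
  set α := (ψ B).coeff 0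
  have hsep : (minpoly k α).Separable := Algebra.IsSeparable.isSeparable k α
  have h1 : Q.1 (aeval B (derivative (minpoly k α))) = 1 := by
    refine le_antisymm (val_aeval_le Q hB _) (le_of_not_gt fun h => ?_)
    refine hsep.aeval_derivative_ne_zero (minpoly.aeval k α) ?_
    rw [← coeff_zero_aeval hψ hB]
    exact coeff_zero_eq hψ h
  set w := aeval b (minpoly k α) / t
  have hgb : T.1 (aeval b (minpoly k α)) < 1 := by
    rcases lt_or_eq_of_le (val_aeval_le T hb (minpoly k α)) with h | h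
    · exact h
    · exfalso
      have h2 : Q.1 (aeval B (minpoly k α)) = 1 := by
        rw [aeval_algebraMap_apply, he₁, h, one_pow]
      have h3 : Valued.v (ψ (aeval B (minpoly k α))) ≤ exp (-(1 : ℤ)) := by
        refine val_mem_iff.mp fun n hn => ?_
        rcases eq_or_ne n 0 with rfl | hn0
        · rw [coeff_zero_aeval hψ hB, minpoly.aeval]
        · exact val_mem_iff.mpr (by rw [hψ.1, h2, neg_zero, exp_zero] :
            Valued.v (ψ (aeval B (minpoly k α))) ≤ exp (-(0 : ℤ))) n (by omega)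
      rw [hψ.1, h2, ← exp_zero, exp_le_exp] at h3
      omega
  have hw : T.1 w ≤ 1 := by
    rw [map_div₀, ht, div_le_one₀ exp_pos]
    exact (lt_one_iff_le T).1 hgb
  have hwt : aeval B (minpoly k α) = algebraMap K₁ K' w * algebraMap K₁ K' t := by
    rw [aeval_algebraMap_apply, ← map_mul, div_mul_cancel₀ _ ht0]
  have h2 := congrArg (fun z => Valued.v (LocRes.D F (ψ z))) hwt
  simp only [D_aeval, map_mul, hψ.1, h1, one_mul, Derivation.leibniz, smul_eq_mul] at h2
  refine absurd h2.le (not_le.2 ((Valuation.map_add _ _ _).trans_lt (max_lt ?_ ?_)))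
  · rw [map_mul, hψ.1]
    exact (mul_le_mul' (hint w hw) le_rfl).trans_lt (by rw [one_mul]; exact hgt)
  · rw [map_mul, ← one_mul (Valued.v (LocRes.D F (ψ B)))]
    exact lt_of_le_of_lt (mul_le_mul' le_rfl (hbound w hw))
      (mul_lt_mul_of_pos_right hvt (by rw [hbv]; exact exp_pos))

theorem v_D_mul_unit [Algebra.IsSeparable k F] (he₁ : IsOverWith Q T e₁) (hψ : LocRes.IsExpansionAt Q.1 ψ)
    {t t' : K₁} (ht : T.1 t = exp (-1)) (ht' : T.1 t' = exp (-1)) :
    Valued.v (LocRes.D F (ψ (algebraMap K₁ K' t'))) = Valued.v (LocRes.D F (ψ (algebraMap K₁ K' t))) :=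
  le_antisymm (v_D_le_of_parameter he₁ hψ ht (by rw [ht', ← exp_zero, exp_le_exp]; omega))
    (v_D_le_of_parameter he₁ hψ ht' (by rw [ht, ← exp_zero, exp_le_exp]; omega))

theorem minpoly_parameter [FiniteDimensional K₁ K'] (he₁ : IsOverWith Q T e₁) (hn : e₁ = Module.finrank K₁ K')
    {s : K'} (hs : Q.1 s = exp (-1)) :
    (minpoly K₁ s).natDegree = e₁ ∧ T.1 ((minpoly K₁ s).coeff 0) = exp (-1) ∧
      ∀ i < e₁, T.1 ((minpoly K₁ s).coeff i) ≤ exp (-1) := by
  classical
  set m := minpoly K₁ s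
  have hint : IsIntegral K₁ s := IsIntegral.of_finite K₁ s
  have hle : m.natDegree ≤ e₁ := hn ▸ minpoly.natDegree_le s
  have hs0 : s ≠ 0 := ne_zero_of_val Q hs
  set f : ℕ → K' := fun i => algebraMap K₁ K' (m.coeff i) * s ^ i with hf
  have hord : ∀ i, f i ≠ 0 → Q.ord (f i) = e₁ * T.ord (m.coeff i) + i := fun i hi => by
    rw [hf] at hi ⊢
    dsimp only at hi ⊢
    rw [ord_mul Q (left_ne_zero_of_mul hi) (pow_ne_zero _ hs0), ord_pow, IsOverWith.ord he₁,
      ord_eq_of_val Q hs]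
    ring
  have hinj : ∀ i < e₁, ∀ j < e₁, f i ≠ 0 → Q.1 (f i) = Q.1 (f j) → i = j := fun i hi j hj hfi h => by
    have hfj : f j ≠ 0 := fun e => by rw [e, map_zero, map_eq_zero] at h; exact hfi h
    rw [val_eq_exp Q hfi, val_eq_exp Q hfj, exp_inj, neg_inj, hord i hfi, hord j hfj] at h
    have hd : (e₁ : ℤ) ∣ (i : ℤ) - j := ⟨T.ord (m.coeff j) - T.ord (m.coeff i), by linarith⟩
    have := Int.eq_zero_of_dvd_of_natAbs_lt_natAbs hd (by omega)
    omega
  have hsum : ∑ i ∈ Finset.range (m.natDegree + 1), f i = 0 := by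
    rw [← minpoly.aeval K₁ s, aeval_eq_sum_range]
    exact Finset.sum_congr rfl fun i _ => (Algebra.smul_def _ _).symm
  have hfn : f m.natDegree = s ^ m.natDegree := by
    rw [hf]
    dsimp only
    rw [coeff_natDegree, (minpoly.monic hint).leadingCoeff, map_one, one_mul]
  have hdeg : m.natDegree = e₁ := by
    by_contra hne
    have hlt : m.natDegree < e₁ := lt_of_le_of_ne hle hne
    obtain ⟨j, hj, hjmax⟩ := Finset.exists_max_image (Finset.range (m.natDegree + 1)) (fun i => Q.1 (f i))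
      ⟨0, Finset.mem_range.2 (Nat.succ_pos _)⟩
    have hfj : f j ≠ 0 := fun e => by
      have := hjmax m.natDegree (Finset.self_mem_range_succ _)
      rw [e, map_zero, hfn, map_pow, hs, le_zero_iff] at this
      exact pow_ne_zero _ exp_ne_zero this
    refine Q.1.ne_zero_iff.2 hfj ?_
    rw [← Q.1.map_sum_eq_of_lt hj, hsum, map_zero]
    intro i hi
    rw [Finset.mem_sdiff, Finset.mem_singleton] at hi
    refine lt_of_le_of_ne (hjmax i hi.1) fun h => hi.2 ?_
    have hfi : f i ≠ 0 := fun e => by rw [e, map_zero, eq_comm, map_eq_zero] at h; exact hfj h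
    have := Finset.mem_range.1 hi.1
    have := Finset.mem_range.1 hj
    exact hinj i (by omega) j (by omega) hfi h
  have hepos := IsOverWith.pos he₁
  rw [Finset.sum_range_succ, hfn, hdeg] at hsum
  have hv : Q.1 (∑ i ∈ Finset.range e₁, f i) = exp (-(e₁ : ℤ)) := by
    rw [eq_neg_of_add_eq_zero_left hsum, Valuation.map_neg, map_pow, hs, ← exp_nsmul, smul_neg, nsmul_eq_mul, mul_one]
  obtain ⟨j, hj, hjmax⟩ := Finset.exists_max_image (Finset.range e₁) (fun i => Q.1 (f i))
    ⟨0, Finset.mem_range.2 hepos⟩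
  have hfj : f j ≠ 0 := fun e => by
    rw [Finset.sum_eq_zero (fun i hi => ?_), map_zero] at hv
    · exact exp_ne_zero hv.symm
    · have := hjmax i hi
      rw [e, map_zero, le_zero_iff, map_eq_zero] at this
      exact this
  rw [Q.1.map_sum_eq_of_lt hj fun i hi => by
    rw [Finset.mem_sdiff, Finset.mem_singleton] at hi
    refine lt_of_le_of_ne (hjmax i hi.1) fun h => hi.2 ?_
    have hfi : f i ≠ 0 := fun e => by rw [e, map_zero, eq_comm, map_eq_zero] at h; exact hfj h
    exact hinj i (Finset.mem_range.1 hi.1) j (Finset.mem_range.1 hj) hfi h] at hv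
  have hj0 : j = 0 ∧ T.ord (m.coeff j) = 1 := by
    rw [val_eq_exp Q hfj, exp_inj, neg_inj, hord j hfj] at hv
    have hjlt := Finset.mem_range.1 hj
    have hd : (e₁ : ℤ) ∣ (j : ℤ) := ⟨1 - T.ord (m.coeff j), by linarith⟩
    have := Int.eq_zero_of_dvd_of_natAbs_lt_natAbs hd (by omega)
    refine ⟨by omega, ?_⟩
    have h' : (e₁ : ℤ) * (1 - T.ord (m.coeff j)) = 0 := by linarith
    rcases mul_eq_zero.1 h' with h | h <;> omega
  obtain ⟨rfl, hord0⟩ := hj0
  have hc0 : m.coeff 0 ≠ 0 := fun h => hfj (by simp [hf, h])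
  refine ⟨hdeg, by rw [val_eq_exp T hc0, hord0], fun i hi => ?_⟩
  rcases eq_or_ne (m.coeff i) 0 with h | h
  · simp [h]
  have hfi : f i ≠ 0 := mul_ne_zero ((_root_.map_ne_zero _).2 h) (pow_ne_zero _ hs0)
  have := hjmax i (Finset.mem_range.2 hi)
  rw [hv, val_eq_exp Q hfi, exp_le_exp, hord i hfi] at this
  rw [val_eq_exp T h, exp_le_exp]
  have : (e₁ : ℤ) * T.ord (m.coeff i) > 0 := by omega
  have := pos_of_mul_pos_right this (Int.natCast_nonneg _)
  omega

theorem v_derivative_minpoly [FiniteDimensional K₁ K'] [Algebra.IsSeparable k F]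
    (he₁ : IsOverWith Q T e₁) (hn : e₁ = Module.finrank K₁ K') (hψ : LocRes.IsExpansionAt Q.1 ψ)
    {t : K₁} (ht : T.1 t = exp (-1)) (htD : LocRes.D F (ψ (algebraMap K₁ K' t)) ≠ 0)
    {s : K'} (hs : Q.1 s = exp (-1)) :
    Q.1 (aeval s (derivative (minpoly K₁ s))) = Valued.v (LocRes.D F (ψ (algebraMap K₁ K' t))) := by
  classical
  obtain ⟨hdeg, h0, hi⟩ := minpoly_parameter he₁ hn hs
  set m := minpoly K₁ s with hm
  have hint : IsIntegral K₁ s := IsIntegral.of_finite K₁ s
  let R : K₁[X] →+ F⸨X⸩ :=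
    { toFun := fun q => LocRes.D F (ψ (aeval s q)) - ψ (aeval s (derivative q)) * LocRes.D F (ψ s)
      map_zero' := by simp
      map_add' := fun a b => by simp only [map_add]; ring }
  have hRmono : ∀ i c, R (monomial i c) = ψ s ^ i * LocRes.D F (ψ (algebraMap K₁ K' c)) := by
    intro i c
    show LocRes.D F (ψ (aeval s (monomial i c))) - ψ (aeval s (derivative (monomial i c))) * _ = _
    rw [derivative_monomial, aeval_monomial, aeval_monomial, map_mul ψ, map_pow, Derivation.leibniz,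
      Derivation.leibniz_pow]
    simp only [map_mul, map_natCast, map_pow, smul_eq_mul, nsmul_eq_mul]
    ring
  have hRm : R m = - (ψ (aeval s (derivative m)) * LocRes.D F (ψ s)) := by
    show LocRes.D F (ψ (aeval s m)) - _ = _
    rw [hm, minpoly.aeval, map_zero, map_zero, zero_sub]
  have hRsum : R m = ∑ i ∈ Finset.range e₁, ψ s ^ i * LocRes.D F (ψ (algebraMap K₁ K' (m.coeff i))) := by
    conv_lhs => rw [m.as_sum_range, map_sum]
    simp only [hRmono]
    rw [hdeg, Finset.sum_range_succ, ← hdeg, coeff_natDegree, (minpoly.monic hint).leadingCoeff, map_one, map_one,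
      Derivation.map_one_eq_zero, mul_zero, add_zero]
  have hepos := IsOverWith.pos he₁
  have hvs : Valued.v (LocRes.D F (ψ s)) = 1 := by
    rw [v_D_eq (n := 1) (by norm_num) (by rw [hψ.1, hs]), sub_self, neg_zero, exp_zero]
  have hv : Valued.v (R m) = Valued.v (LocRes.D F (ψ (algebraMap K₁ K' t))) := by
    rw [hRsum, Valued.v.map_sum_eq_of_lt (Finset.mem_range.2 hepos), pow_zero, one_mul]
    · exact v_D_mul_unit he₁ hψ ht h0
    · intro i hi'
      rw [Finset.mem_sdiff, Finset.mem_singleton, Finset.mem_range] at hi'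
      rw [pow_zero, one_mul, map_mul, map_pow, hψ.1, hs, v_D_mul_unit he₁ hψ ht h0]
      refine (mul_le_mul' le_rfl (v_D_le_of_parameter he₁ hψ ht
        ((hi i hi'.1).trans (by rw [← exp_zero, exp_le_exp]; omega)))).trans_lt ?_
      conv_rhs => rw [← one_mul (Valued.v (LocRes.D F (ψ (algebraMap K₁ K' t))))]
      refine mul_lt_mul_of_pos_right ?_ (zero_lt_iff.2 ((Valued.v).ne_zero_iff.2 htD))
      rw [← exp_nsmul, ← exp_zero, exp_lt_exp, smul_neg, nsmul_eq_mul, mul_one]
      omega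
  rw [hRm, Valuation.map_neg, map_mul, hvs, mul_one, hψ.1] at hv
  exact hv

end Tower

section Main

variable {K : Type*} [Field K] [Algebra k K] [Algebra K K'] [IsScalarTower k K K'] [FiniteDimensional K K']
  [Algebra.IsSeparable K K'] {F₀ : Type*} [Field F₀] [Algebra k F₀]

omit [Algebra.IsSeparable K K'] in
theorem finite_coeff (hK : IsFunctionField k K) (hψ : LocRes.IsExpansionAt Q.1 ψ) : FiniteDimensional k F := by
  obtain ⟨e⟩ := exists_residueEquiv hψ
  haveI hfQ : @Module.Finite k (ResidueField Q.O) _ _ Algebra.toModule := residue_finite' (K' := K') hK Q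
  exact Module.Finite.equiv e.toLinearEquiv

theorem isSeparable_residue (hK : IsFunctionField k K) (hg : IsGeometric k K) (hψ : LocRes.IsExpansionAt Q.1 ψ) :
    Algebra.IsSeparable k F ∧ Algebra.IsSeparable k (ResidueField Q.O) := by
  haveI := finite_coeff hK hψ
  have h := isSeparable_coeff_extension hK hg hψ
  obtain ⟨e⟩ := exists_residueEquiv hψ
  exact ⟨h, AlgEquiv.Algebra.isSeparable e.symm⟩

theorem diffExp_eq_ordDiff_parameter (hK : IsFunctionField k K) (hg : IsGeometric k K) {P : Place k K} {e : ℕ}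
    (he : IsOverWith Q P e) {φ : K →ₐ[k] F₀⸨X⸩} (hφ : LocRes.IsExpansionAt P.1 φ)
    (hψ : LocRes.IsExpansionAt Q.1 ψ) {x : K} (hx : LocRes.vDiff φ 1 x ≠ 0)
    (hx' : LocRes.vDiff ψ 1 (algebraMap K K' x) ≠ 0) {t : K} (ht : P.1 t = exp (-1)) :
    LocRes.D F (ψ (algebraMap K K' t)) ≠ 0 ∧
      Valued.v (LocRes.D F (ψ (algebraMap K K' t))) = exp (-LocRes.diffExp φ ψ e x) := by
  have h1 : LocRes.vDiff φ 1 t = exp 0 := by
    rw [vDiff_one, v_D_eq (n := 1) (by norm_num) (by rw [hφ.1, ht])]; simp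
  have ht1 : LocRes.vDiff φ 1 t ≠ 0 := by rw [h1]; exact exp_ne_zero
  have ht2 := vDiff_transfer hK hg φ ψ hx' ht1
  rw [diffExp_indep hK hg P Q e he φ hφ ψ hψ x hx hx' t ht1, LocRes.diffExp, LocRes.ordDiff, LocRes.ordDiff, h1,
    log_exp, neg_zero, mul_zero, sub_zero, neg_neg]
  rw [vDiff_one] at ht2 ⊢
  exact ⟨(Valued.v).ne_zero_iff.1 ht2, (exp_log ht2).symm⟩

theorem ord_derivative_totallyRamified (hK : IsFunctionField k K) (hg : IsGeometric k K) {P : Place k K} {e : ℕ}
    (he : IsOverWith Q P e) {φ : K →ₐ[k] F₀⸨X⸩} (hφ : LocRes.IsExpansionAt P.1 φ)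
    (hψ : LocRes.IsExpansionAt Q.1 ψ) {x : K} (hx : LocRes.vDiff φ 1 x ≠ 0)
    (hx' : LocRes.vDiff ψ 1 (algebraMap K K' x) ≠ 0) (hn : e = Module.finrank K K') {s : K'}
    (hs : Q.1 s = exp (-1)) :
    Q.ord (aeval s (derivative (minpoly K s))) = LocRes.diffExp φ ψ e x := by
  haveI := (isSeparable_residue hK hg hψ).1
  obtain ⟨t, ht⟩ := hφ.2.2
  obtain ⟨htD, htv⟩ := diffExp_eq_ordDiff_parameter hK hg he hφ hψ hx hx' ht
  rw [ord_eq_of_val Q ((v_derivative_minpoly he hn hψ ht htD hs).trans htv), neg_neg]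

end Main

end Groth.Agent.FunFld.Residue
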