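import Groth.Agent.FunFld.Residue.RegularBasis
import Groth.Agent.FunFld.QuadGenusRat

/-!
The regular differentials of hyperelliptic function fields.
-/

set_option autoImplicit false
universe u v w

open WithZero _root_.FunFld Polynomial
open scoped LaurentSeries

noncomputable section

namespace Groth.Agent.FunFld.Residue

variable {k : Type u} {K : Type v} [Field k] [Field K] [Algebra k K] [Algebra (RatFunc k) K]
  [IsScalarTower k (RatFunc k) K]

omit [Algebra k K] [IsScalarTower k (RatFunc k) K] in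
theorem exists_factor_lt {P₀ : Place k (RatFunc k)} {g : k[X]} (hX : 0 ≤ P₀.ord (RatFunc.X : RatFunc k)) (hg : g ≠ 0)
    (hpos : 0 < P₀.ord (algebraMap k[X] (RatFunc k) g)) :
    ∃ p : k[X], Irreducible p ∧ p ∣ g ∧ P₀.1 (algebraMap k[X] (RatFunc k) p) < 1 := by
  classical
  by_contra hc
  push Not at hc
  have hlt := (ord_pos_iff P₀ (algebraMap_poly_ne_zero hg)).1 hpos
  refine hlt.ne ?_
  refine UniqueFactorizationMonoid.induction_on_prime (P := fun h => h ∣ g → h ≠ 0 →
    P₀.1 (algebraMap k[X] (RatFunc k) h) = 1) g (fun _ h => absurd rfl h) ?_ ?_ dvd_rfl hg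
  · intro u hu _ h0
    obtain ⟨c, hc', rfl⟩ := Polynomial.isUnit_iff.1 hu
    rw [algebraMap_poly, aeval_C, val_algebraMap P₀ hc'.ne_zero]
  · intro a q _ hq ih hdvd hne
    rw [map_mul, map_mul, ih (dvd_trans (dvd_mul_left _ _) hdvd) (right_ne_zero_of_mul hne), mul_one]
    exact le_antisymm (val_poly_le hX q) (hc q hq.irreducible (dvd_trans (dvd_mul_right _ _) hdvd))

theorem isSeparable_sq (hdeg : Module.finrank (RatFunc k) K = 2) (h2 : ringChar k ≠ 2) {y : K}
    (hy : y ∉ Set.range (algebraMap (RatFunc k) K)) {r : RatFunc k}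
    (heq : y ^ 2 = algebraMap (RatFunc k) K r) : Algebra.IsSeparable (RatFunc k) K := by
  haveI : FiniteDimensional (RatFunc k) K := Module.finite_of_finrank_eq_succ hdeg
  have hnb : y ∉ (⊥ : IntermediateField (RatFunc k) K) := fun h => hy (IntermediateField.mem_bot.1 h)
  haveI : Fact (Nat.Prime 2) := ⟨Nat.prime_two⟩
  have htop : IntermediateField.adjoin (RatFunc k) ({y} : Set K) = ⊤ := by
    have hdvd : Module.finrank (RatFunc k) (IntermediateField.adjoin (RatFunc k) ({y} : Set K)) ∣ 2 :=
      ⟨Module.finrank _ K, by rw [Module.finrank_mul_finrank, hdeg]⟩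
    rcases (Nat.dvd_prime Nat.prime_two).1 hdvd with h | h
    · rw [IntermediateField.finrank_eq_one_iff] at h
      exact absurd (h ▸ IntermediateField.mem_adjoin_simple_self (RatFunc k) y) hnb
    · exact IntermediateField.eq_of_le_of_finrank_eq le_top (by rw [h, IntermediateField.finrank_top', hdeg])
  have hy0 : y ≠ 0 := fun h => hy ⟨0, by rw [h, map_zero]⟩
  have h2K : (2 : K) ≠ 0 := Ring.two_ne_zero (by rwa [← Algebra.ringChar_eq k K])
  have hint : IsIntegral (RatFunc k) y := Algebra.IsIntegral.isIntegral y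
  have hsep : IsSeparable (RatFunc k) y := by
    have hroot : aeval y (X ^ 2 - C r) = 0 := by simp [heq]
    refine Separable.of_dvd ?_ (minpoly.dvd (RatFunc k) y hroot)
    refine separable_X_pow_sub_C r ?_ fun h => hy0 (pow_eq_zero_iff two_ne_zero |>.1 (by rw [heq, h, map_zero]))
    intro h
    apply h2K
    rw [show (2 : K) = algebraMap (RatFunc k) K ((2 : ℕ) : RatFunc k) by rw [map_natCast, Nat.cast_ofNat], h, map_zero]
  haveI h3 := (IntermediateField.isSeparable_adjoin_simple_iff_isSeparable (RatFunc k) K).2 hsep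
  rw [htop] at h3
  exact AlgEquiv.Algebra.isSeparable (IntermediateField.topEquiv)

variable {Fs : Place k K → Type w} [∀ P, Field (Fs P)] [∀ P, Algebra k (Fs P)] [∀ P, FiniteDimensional k (Fs P)]
  (φ : ∀ P, K →ₐ[k] (Fs P)⸨X⸩)

theorem hyper_regular (hK : IsFunctionField k K) (hg : IsGeometric k K) (hdeg : Module.finrank (RatFunc k) K = 2)
    {y : K} {f : k[X]} (hf : Squarefree f) (hd : 1 ≤ f.natDegree)
    (heq : y ^ 2 = algebraMap (RatFunc k) K (algebraMap k[X] (RatFunc k) f))
    (hφ : ∀ P, LocRes.IsExpansionAt P.1 (φ P)) {i : ℕ} (hi : i < (f.natDegree - 1) / 2) (P : Place k K) :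
    LocRes.vDiff (φ P) (algebraMap (RatFunc k) K RatFunc.X ^ i / y) (algebraMap (RatFunc k) K RatFunc.X) ≤ 1 := by
  haveI : FiniteDimensional (RatFunc k) K := Module.finite_of_finrank_eq_succ hdeg
  set x := algebraMap (RatFunc k) K RatFunc.X with hxdef
  have hx0 : x ≠ 0 := (_root_.map_ne_zero _).2 RatFunc.X_ne_zero
  have hf0 := hf.ne_zero
  have hfK : (algebraMap (RatFunc k) K (algebraMap k[X] (RatFunc k) f)) ≠ 0 :=
    (_root_.map_ne_zero _).2 (algebraMap_poly_ne_zero hf0)
  have hy0 : y ≠ 0 := fun h => hfK (by rw [← heq, h, zero_pow two_ne_zero])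
  obtain ⟨P₀, hP₀⟩ := exists_below (K := RatFunc k) P
  have he := isOverWith_of_isOver hP₀
  have hepos := IsOverWith.pos he
  set e := ramIdx P P₀
  have hordx : P.ord x = e * P₀.ord RatFunc.X := IsOverWith.ord he _
  have h2y : 2 * P.ord y = e * P₀.ord (algebraMap k[X] (RatFunc k) f) := by
    have := congrArg P.ord heq
    rwa [ord_pow, IsOverWith.ord he, Nat.cast_two] at this
  rw [vDiff_eq_mul (hφ P), map_div₀, map_pow]
  by_cases hfin : 0 ≤ P₀.ord (RatFunc.X : RatFunc k)
  · have hvx : P.1 x ≤ 1 := (ord_nonneg_iff P hx0).1 (by rw [hordx]; positivity)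
    have hxi : P.1 x ^ i ≤ 1 := pow_le_one' hvx i
    have hDx := v_D_le_one (hφ P) hvx
    rcases le_or_gt (P.ord y) 0 with hy | hy
    · have hvy : 1 ≤ P.1 y := by
        rw [val_eq_exp P hy0, ← exp_zero, exp_le_exp]; omega
      refine mul_le_one' ?_ hDx
      rw [div_le_one₀ (lt_of_lt_of_le zero_lt_one hvy)]
      exact hxi.trans hvy
    · have hy1 := (sq_zero_iff hdeg hf hd heq P).1 hy
      have hpos : 0 < P₀.ord (algebraMap k[X] (RatFunc k) f) := by nlinarith
      have hf1 := ord_squarefree hf hfin hpos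
      have he2 : (e : ℤ) = 2 := by rw [hy1, hf1] at h2y; omega
      obtain ⟨q, hq, hqf, hlt⟩ := exists_factor_lt hfin hf0 hpos
      have hord_q : P.ord (aeval x q) = 2 := by
        rw [← algebraMap_poly_eq_aeval, IsOverWith.ord he, (fin_ord hq hlt).1, he2, mul_one]
      have hqx0 : aeval x q ≠ 0 := aeval_X_ne_zero hq.ne_zero
      haveI := isSeparable_coeff hK hg (hφ P)
      set α := (φ P x).coeff 0
      have hqα : aeval α q = 0 := by
        rw [← coeff_zero_aeval (hφ P) hvx]
        exact coeff_zero_eq (hφ P) ((ord_pos_iff P hqx0).1 (by omega))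
      have hqsep : q.Separable := by
        have hα := Algebra.IsSeparable.isSeparable k α
        have hdvd := minpoly.dvd k α hqα
        have hass : Associated (minpoly k α) q :=
          (minpoly.irreducible (Algebra.IsIntegral.isIntegral α)).associated_of_dvd hq hdvd
        exact Separable.of_dvd hα hass.symm.dvd
      have hq' : aeval α (derivative q) ≠ 0 := hqsep.aeval_derivative_ne_zero hqα
      have hvq' : P.1 (aeval x (derivative q)) = 1 := by
        refine le_antisymm (val_aeval_le P hvx _) (le_of_not_gt fun h => hq' ?_)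
        rw [← coeff_zero_aeval (hφ P) hvx]
        exact coeff_zero_eq (hφ P) h
      have hDq : Valued.v (LocRes.D (Fs P) (φ P (aeval x q))) ≤ exp (-((2 : ℤ) - 1)) :=
        v_D_le (by rw [(hφ P).1, val_eq_exp P hqx0, hord_q])
      rw [D_aeval, map_mul, (hφ P).1, hvq', one_mul] at hDq
      rw [val_eq_exp P hy0, hy1]
      refine (mul_le_mul' (div_le_div₀ zero_le hxi exp_pos le_rfl) hDq).trans_eq ?_
      rw [one_div, ← exp_neg, ← exp_add]
      norm_num
  · push Not at hfin
    obtain ⟨hXm1, -, hpoly⟩ := inf_props hfin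
    rw [hXm1, mul_neg, mul_one] at hordx
    rw [hpoly f hf0] at h2y
    have hDx : Valued.v (LocRes.D (Fs P) (φ P x)) ≤ exp ((e : ℤ) + 1) := by
      have := v_D_le (f := φ P x) (n := -(e : ℤ)) (by rw [(hφ P).1, val_eq_exp P hx0, hordx])
      rwa [show -(-(e : ℤ) - 1) = (e : ℤ) + 1 by ring] at this
    rw [val_eq_exp P hx0, val_eq_exp P hy0, hordx, neg_neg, ← exp_nsmul, ← exp_sub]
    refine (mul_le_mul' le_rfl hDx).trans ?_
    rw [← exp_add, ← exp_zero, exp_le_exp, nsmul_eq_mul]
    have h1 : ((i : ℤ) + 1) * 2 + 1 ≤ f.natDegree := by omega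
    rcases (show e = 1 ∨ 2 ≤ e by omega) with he1 | he1
    · rw [he1, Nat.cast_one] at h2y ⊢
      omega
    · nlinarith

end Groth.Agent.FunFld.Residue
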