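import Groth.Agent.FunFld.Residue.Window
import Groth.Prelude.Def_LocRes
import Mathlib.RingTheory.Trace.Defs

/-!
The trace of the commutator `[π f, g]` on a finite product of Laurent series fields is the sum of
the traces of the residues of `f dg`.
-/

set_option autoImplicit false
universe u v w

open WithZero
open scoped LaurentSeries

noncomputable section

namespace Groth.Agent.FunFld.Residue

section Series

variable {F : Type w} [Field F]

theorem val_mem_iff {f : F⸨X⸩} {a : ℤ} : (∀ n < a, f.coeff n = 0) ↔ Valued.v f ≤ exp (-a) :=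
  (LaurentSeries.valuation_le_iff_coeff_lt_eq_zero F).symm

theorem coeff_mul_eq_zero {f g : F⸨X⸩} {a b : ℤ} (hf : ∀ n < a, f.coeff n = 0) (hg : ∀ n < b, g.coeff n = 0)
    {n : ℤ} (hn : n < a + b) : (f * g).coeff n = 0 := by
  refine val_mem_iff.mpr ?_ n hn
  rw [map_mul, neg_add, exp_add]
  exact mul_le_mul' (val_mem_iff.mp hf) (val_mem_iff.mp hg)

open scoped Classical in
/-- The nonnegative part of a series. -/
def posPart (f : F⸨X⸩) : F⸨X⸩ where
  coeff n := if 0 ≤ n then f.coeff n else 0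
  isPWO_support' := f.isPWO_support.mono fun n hn => by
    simp only [Function.mem_support] at hn ⊢
    split_ifs at hn with h
    · exact hn
    · exact absurd rfl hn

theorem posPart_coeff (f : F⸨X⸩) (n : ℤ) : (posPart f).coeff n = if 0 ≤ n then f.coeff n else 0 := rfl

theorem posPart_add (f g : F⸨X⸩) : posPart (f + g) = posPart f + posPart g := by
  ext n
  simp only [posPart_coeff, HahnSeries.coeff_add]
  split_ifs <;> simp

theorem posPart_C_mul (c : F) (f : F⸨X⸩) : posPart (HahnSeries.C c * f) = HahnSeries.C c * posPart f := by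
  ext n
  simp only [posPart_coeff, HahnSeries.C_mul_eq_smul, HahnSeries.coeff_smul]
  split_ifs <;> simp

theorem posPart_eq_self {f : F⸨X⸩} (h : ∀ n < (0 : ℤ), f.coeff n = 0) : posPart f = f := by
  ext n
  rw [posPart_coeff]
  split_ifs with hn
  · rfl
  · exact (h n (by omega)).symm

theorem posPart_single (n : ℤ) (c : F) :
    posPart (HahnSeries.single n c) = if 0 ≤ n then HahnSeries.single n c else 0 := by
  ext m
  rw [posPart_coeff]
  rcases eq_or_ne m n with rfl | h
  · split_ifs <;> simp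
  · simp only [HahnSeries.coeff_single_of_ne h]
    split_ifs <;> simp [HahnSeries.coeff_single_of_ne h]

/-- The `(n,n)` entry of `[π f, g]`. -/
def entry (f g : F⸨X⸩) (n : ℤ) : F :=
  (posPart (f * (g * HahnSeries.single n 1)) - g * posPart (f * HahnSeries.single n 1)).coeff n

def entrySum (N : ℕ) (f g : F⸨X⸩) : F := ∑ t : Fin (2 * N), entry f g ((t : ℕ) - (N : ℤ))

theorem entrySum_add_left (N : ℕ) (f f' g : F⸨X⸩) : entrySum N (f + f') g = entrySum N f g + entrySum N f' g := by
  rw [entrySum, entrySum, entrySum, ← Finset.sum_add_distrib]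
  refine Finset.sum_congr rfl fun t _ => ?_
  simp only [entry, add_mul, mul_add, posPart_add, HahnSeries.coeff_sub, HahnSeries.coeff_add]
  ring

theorem entrySum_add_right (N : ℕ) (f g g' : F⸨X⸩) : entrySum N f (g + g') = entrySum N f g + entrySum N f g' := by
  rw [entrySum, entrySum, entrySum, ← Finset.sum_add_distrib]
  refine Finset.sum_congr rfl fun t _ => ?_
  simp only [entry, add_mul, mul_add, posPart_add, HahnSeries.coeff_sub, HahnSeries.coeff_add]
  ring

theorem entrySum_zero_left (N : ℕ) (g : F⸨X⸩) : entrySum N 0 g = 0 := by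
  have := entrySum_add_left N 0 0 g
  rw [add_zero] at this
  exact left_eq_add.mp this

theorem entrySum_zero_right (N : ℕ) (f : F⸨X⸩) : entrySum N f 0 = 0 := by
  have := entrySum_add_right N f 0 0
  rw [add_zero] at this
  exact left_eq_add.mp this

theorem entrySum_high {N s : ℕ} {L : ℤ} (hL : 2 * (N : ℤ) + s ≤ L) {f g : F⸨X⸩}
    (h : ((∀ n < L, f.coeff n = 0) ∧ ∀ n < -(s : ℤ), g.coeff n = 0) ∨
      ((∀ n < -(s : ℤ), f.coeff n = 0) ∧ ∀ n < L, g.coeff n = 0)) : entrySum N f g = 0 := by
  refine Finset.sum_eq_zero fun t _ => ?_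
  have ht := t.2
  set n : ℤ := (t : ℕ) - (N : ℤ) with hn
  have hsing : ∀ m < n, (HahnSeries.single n (1 : F)).coeff m = 0 := fun m hm =>
    HahnSeries.coeff_single_of_ne (by omega)
  rcases h with ⟨hf, hg⟩ | ⟨hf, hg⟩
  · have h1 : posPart (f * (g * HahnSeries.single n 1)) = f * (g * HahnSeries.single n 1) :=
      posPart_eq_self fun m hm => coeff_mul_eq_zero hf
        (fun j hj => coeff_mul_eq_zero hg hsing hj) (b := -(s : ℤ) + n) (by omega)
    have h2 : posPart (f * HahnSeries.single n 1) = f * HahnSeries.single n 1 :=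
      posPart_eq_self fun m hm => coeff_mul_eq_zero hf hsing (by omega)
    rw [entry, h1, h2, show g * (f * HahnSeries.single n (1 : F)) = f * (g * HahnSeries.single n 1) by ring,
      sub_self, HahnSeries.coeff_zero]
  · have h1 : (f * (g * HahnSeries.single n 1)).coeff n = 0 :=
      coeff_mul_eq_zero hf (fun j hj => coeff_mul_eq_zero hg hsing hj) (b := L + n) (by omega)
    have h2 : ∀ m < -(s : ℤ) + n, (posPart (f * HahnSeries.single n (1 : F))).coeff m = 0 := fun m hm => by
      rw [posPart_coeff]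
      split_ifs
      · exact coeff_mul_eq_zero hf hsing hm
      · rfl
    rw [entry, HahnSeries.coeff_sub, posPart_coeff, h1, ite_self, coeff_mul_eq_zero hg h2 (by omega), sub_self]

theorem res_high {s : ℕ} {L : ℤ} (hL : (s : ℤ) < L) {f g : F⸨X⸩}
    (h : ((∀ n < L, f.coeff n = 0) ∧ ∀ n < -(s : ℤ), g.coeff n = 0) ∨
      ((∀ n < -(s : ℤ), f.coeff n = 0) ∧ ∀ n < L, g.coeff n = 0)) : LocRes.res F (f * LocRes.D F g) = 0 := by
  rw [LocRes.res_apply]
  rcases h with ⟨hf, hg⟩ | ⟨hf, hg⟩
  · refine coeff_mul_eq_zero hf (b := -(s : ℤ) - 1) (fun n hn => ?_) (by omega)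
    rw [LocRes.D_coeff, hg (n + 1) (by omega), smul_zero]
  · refine coeff_mul_eq_zero hf (b := L - 1) (fun n hn => ?_) (by omega)
    rw [LocRes.D_coeff, hg (n + 1) (by omega), smul_zero]

theorem entrySum_single {N : ℕ} {i j : ℤ} (hi : -(N : ℤ) ≤ i) (hj : -(N : ℤ) ≤ j) (a b : F) :
    entrySum N (HahnSeries.single i a) (HahnSeries.single j b) =
      LocRes.res F (HahnSeries.single i a * LocRes.D F (HahnSeries.single j b)) := by
  rw [LocRes.res_apply, LocRes.D_apply, LaurentSeries.derivative_apply]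
  have hD : LaurentSeries.hasseDeriv F 1 (HahnSeries.single j b) = HahnSeries.single (j - 1) (j • b) := by
    rw [← LaurentSeries.derivative_apply]
    ext m
    rw [LocRes.derivative_coeff]
    rcases eq_or_ne (m + 1) j with h | h
    · rw [h, HahnSeries.coeff_single_same, show m = j - 1 by omega, HahnSeries.coeff_single_same]
    · rw [HahnSeries.coeff_single_of_ne h, smul_zero, HahnSeries.coeff_single_of_ne (by omega)]
  rw [hD, HahnSeries.single_mul_single]
  have hentry : ∀ n : ℤ, entry (HahnSeries.single i a) (HahnSeries.single j b) n =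
      if i + j = 0 then ((if 0 ≤ n then (1 : ℤ) else 0) - (if 0 ≤ i + n then 1 else 0)) • (a * b) else 0 := by
    intro n
    rw [entry, HahnSeries.single_mul_single, HahnSeries.single_mul_single, HahnSeries.single_mul_single,
      posPart_single, posPart_single, HahnSeries.coeff_sub]
    by_cases hij : i + j = 0
    · rw [if_pos hij]
      by_cases h1 : 0 ≤ n <;> by_cases h2 : 0 ≤ i + n <;>
        simp [h1, h2, show i + (j + n) = n by omega, show j + (i + n) = n by omega, HahnSeries.single_mul_single,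
          mul_comm]
    · rw [if_neg hij]
      split_ifs <;> simp [HahnSeries.single_mul_single, HahnSeries.coeff_single, show ¬ n = i + (j + n) by omega, show ¬ n = j + (i + n) by omega]
  simp only [entrySum, hentry]
  by_cases hij : i + j = 0
  · simp only [if_pos hij, ← Finset.sum_smul]
    rw [show i + (j - 1) = -1 by omega, HahnSeries.coeff_single_same, mul_smul_comm]
    congr 1
    have h1 : ∀ d : ℤ, -(N : ℤ) ≤ d → d ≤ N → ∑ t : Fin (2 * N), (if 0 ≤ d + ((t : ℕ) - (N : ℤ)) then (1 : ℤ) else 0) = N + d := by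
      intro d hd hd'
      rw [Fin.sum_univ_eq_sum_range fun t : ℕ => (if 0 ≤ d + ((t : ℤ) - (N : ℤ)) then (1 : ℤ) else 0),
        Finset.sum_boole]
      have : (Finset.range (2 * N)).filter (fun t : ℕ => 0 ≤ d + ((t : ℤ) - (N : ℤ))) =
          Finset.Ico ((N : ℤ) - d).toNat (2 * N) := by
        ext t; simp only [Finset.mem_filter, Finset.mem_range, Finset.mem_Ico]; omega
      rw [this, Nat.card_Ico]
      omega
    rw [Finset.sum_sub_distrib, h1 i hi (by omega)]
    have h0 := h1 0 (by omega) (by omega)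
    simp only [zero_add] at h0
    rw [h0]
    omega
  · simp only [if_neg hij, Finset.sum_const_zero]
    rw [HahnSeries.coeff_single_of_ne (by omega)]

theorem entrySum_eq_res {N s : ℕ} (hs : s ≤ N) {f g : F⸨X⸩} (hf : ∀ n < -(s : ℤ), f.coeff n = 0)
    (hg : ∀ n < -(s : ℤ), g.coeff n = 0) : entrySum N f g = LocRes.res F (f * LocRes.D F g) := by
  set L : ℤ := 2 * (N : ℤ) + s + 1 with hL
  set low : F⸨X⸩ → F⸨X⸩ := fun h => ∑ i ∈ Finset.Ico (-(s : ℤ)) L, HahnSeries.single i (h.coeff i) with hlow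
  have hhigh : ∀ h : F⸨X⸩, (∀ n < -(s : ℤ), h.coeff n = 0) → ∀ n < L, (h - low h).coeff n = 0 := by
    intro h hh n hn
    rw [HahnSeries.coeff_sub, hlow, HahnSeries.coeff_sum, sub_eq_zero]
    by_cases h2 : -(s : ℤ) ≤ n
    · rw [Finset.sum_eq_single n (fun i _ hi => HahnSeries.coeff_single_of_ne (Ne.symm hi))
        (fun h3 => absurd (Finset.mem_Ico.mpr ⟨h2, hn⟩) h3), HahnSeries.coeff_single_same]
    · rw [hh n (by omega), Finset.sum_eq_zero fun i hi => HahnSeries.coeff_single_of_ne ?_]
      rw [Finset.mem_Ico] at hi; omega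
  have hlow0 : ∀ h : F⸨X⸩, ∀ n < -(s : ℤ), (low h).coeff n = 0 := fun h n hn => by
    rw [hlow, HahnSeries.coeff_sum]
    refine Finset.sum_eq_zero fun i hi => HahnSeries.coeff_single_of_ne ?_
    rw [Finset.mem_Ico] at hi; omega
  have e1 : entrySum N f g = entrySum N (low f) (low g) := by
    rw [show f = low f + (f - low f) by abel, entrySum_add_left,
      entrySum_high (L := L) (s := s) (by omega) (Or.inl ⟨hhigh f hf, hg⟩), add_zero,
      show low f + (f - low f) = f by abel]
    conv_lhs => rw [show g = low g + (g - low g) by abel, entrySum_add_right,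
      entrySum_high (L := L) (s := s) (by omega) (Or.inr ⟨hlow0 f, hhigh g hg⟩), add_zero]
  have e2 : LocRes.res F (f * LocRes.D F g) = LocRes.res F (low f * LocRes.D F (low g)) := by
    rw [show f * LocRes.D F g =
      low f * LocRes.D F (low g) + (f - low f) * LocRes.D F g + low f * LocRes.D F (g - low g) by
        rw [map_sub]; ring, map_add, map_add,
      res_high (L := L) (s := s) (by omega) (Or.inl ⟨hhigh f hf, hg⟩),
      res_high (L := L) (s := s) (by omega) (Or.inr ⟨hlow0 f, hhigh g hg⟩), add_zero, add_zero]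
  rw [e1, e2]
  let ψ₁ : F⸨X⸩ → F⸨X⸩ →+ F := fun a => AddMonoidHom.mk' (entrySum N a) (entrySum_add_right N a)
  have hs1 : ∀ (σ : Finset ℤ) (A : ℤ → F⸨X⸩) (b : F⸨X⸩),
      entrySum N (∑ i ∈ σ, A i) b = ∑ i ∈ σ, entrySum N (A i) b := fun σ A b =>
    map_sum (AddMonoidHom.mk' (fun a => entrySum N a b) fun a a' => entrySum_add_left N a a' b) A σ
  simp only [hlow, hs1, map_sum, Finset.sum_mul]
  refine Finset.sum_congr rfl fun i hi => ?_
  rw [show entrySum N (HahnSeries.single i (f.coeff i)) (∑ j ∈ Finset.Ico (-(s : ℤ)) L, HahnSeries.single j (g.coeff j)) =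
    ψ₁ _ (∑ j ∈ Finset.Ico (-(s : ℤ)) L, HahnSeries.single j (g.coeff j)) from rfl, map_sum, Finset.mul_sum, map_sum]
  refine Finset.sum_congr rfl fun j hj => ?_
  rw [Finset.mem_Ico] at hi hj
  exact entrySum_single (by omega) (by omega) _ _

end Series

section Prod

variable {k : Type u} [Field k] {ι : Type v} {F : ι → Type w} [∀ i, Field (F i)] [∀ i, Algebra k (F i)]

theorem coeff_smul' {G : Type w} [Field G] [Algebra k G] (c : k) (x : G⸨X⸩) (n : ℤ) :
    (c • x).coeff n = c • x.coeff n := rfl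

variable (k F) in
/-- The standard lattices. -/
def lat (a : ℤ) : Submodule k (∀ i, (F i)⸨X⸩) where
  carrier := {x | ∀ i, ∀ n < a, (x i).coeff n = 0}
  add_mem' hx hy i n hn := by simp [hx i n hn, hy i n hn]
  zero_mem' i n _ := by simp
  smul_mem' c x hx i n hn := by rw [Pi.smul_apply, coeff_smul', hx i n hn, smul_zero]

theorem mem_lat {a : ℤ} {x : ∀ i, (F i)⸨X⸩} : x ∈ lat k F a ↔ ∀ i, ∀ n < a, (x i).coeff n = 0 := Iff.rfl

theorem isFilt_lat [Finite ι] [∀ i, FiniteDimensional k (F i)] : IsFilt (lat k F) := by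
  refine ⟨fun a b hab x hx i n hn => hx i n (hn.trans_le hab), fun a b => ?_⟩
  let c : ↥(lat k F a) →ₗ[k] (∀ i, Fin (b - a).toNat → F i) :=
    { toFun := fun x i t => ((x : ∀ i, (F i)⸨X⸩) i).coeff (a + (t : ℕ))
      map_add' := fun x y => by funext i t; simp
      map_smul' := fun r x => by funext i t; simp [coeff_smul'] }
  refine FiniteDimensional.of_injective ((Submodule.liftQ _ c ?_)) ?_
  · intro x hx
    rw [LinearMap.mem_ker]
    funext i t
    exact hx i _ (by omega)
  · rw [← LinearMap.ker_eq_bot]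
    refine Submodule.ker_liftQ_eq_bot _ _ _ fun x hx i n hn => ?_
    rw [LinearMap.mem_ker] at hx
    by_cases han : a ≤ n
    · have := congrFun (congrFun hx i) ⟨(n - a).toNat, by omega⟩
      simp only [c, LinearMap.coe_mk, AddHom.coe_mk] at this
      rwa [show a + ((n - a).toNat : ℤ) = n by omega] at this
    · exact x.2 i n (by omega)

variable (k F) in
/-- The projection to the integral series. -/
def piPos : (∀ i, (F i)⸨X⸩) →ₗ[k] ∀ i, (F i)⸨X⸩ where
  toFun x i := posPart (x i)
  map_add' x y := funext fun i => posPart_add _ _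
  map_smul' c x := funext fun i => by
    ext n
    simp only [Pi.smul_apply, coeff_smul', posPart_coeff, RingHom.id_apply]
    split_ifs <;> simp

theorem piPos_mem (x : ∀ i, (F i)⸨X⸩) : piPos k F x ∈ lat k F 0 := fun i n hn => by
  show (posPart (x i)).coeff n = 0
  rw [posPart_coeff, if_neg (by omega)]

theorem piPos_eq {x : ∀ i, (F i)⸨X⸩} (hx : x ∈ lat k F 0) : piPos k F x = x :=
  funext fun i => posPart_eq_self (hx i)

theorem smul_eq_C_mul {G : Type w} [Field G] [Algebra k G] (c : k) (x : G⸨X⸩) :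
    c • x = HahnSeries.C (algebraMap k G c) * x := by
  ext n
  rw [coeff_smul', HahnSeries.C_mul_eq_smul, HahnSeries.coeff_smul, Algebra.smul_def, smul_eq_mul]

variable (k) in
/-- Multiplication by `f`. -/
def mulV (f : ∀ i, (F i)⸨X⸩) : (∀ i, (F i)⸨X⸩) →ₗ[k] ∀ i, (F i)⸨X⸩ where
  toFun x := f * x
  map_add' x y := mul_add f x y
  map_smul' c x := funext fun i => by
    simp only [Pi.mul_apply, Pi.smul_apply, RingHom.id_apply, smul_eq_C_mul, mul_left_comm]

theorem mulV_apply (f x : ∀ i, (F i)⸨X⸩) : mulV k f x = f * x := rfl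

theorem mulLeft_mem {s : ℕ} {f : ∀ i, (F i)⸨X⸩} (hf : f ∈ lat k F (-(s : ℤ))) {a : ℤ} {x : ∀ i, (F i)⸨X⸩}
    (hx : x ∈ lat k F a) : mulV k f x ∈ lat k F (a - s) := fun i n hn =>
  coeff_mul_eq_zero (hf i) (hx i) (show n < -(s : ℤ) + a by omega)

/-- `[π f, g]`. -/
def comm (f g : ∀ i, (F i)⸨X⸩) : (∀ i, (F i)⸨X⸩) →ₗ[k] ∀ i, (F i)⸨X⸩ :=
  piPos k F ∘ₗ mulV k f ∘ₗ mulV k g -
    mulV k g ∘ₗ piPos k F ∘ₗ mulV k f

theorem comm_apply (f g x : ∀ i, (F i)⸨X⸩) (i : ι) :
    (comm (k := k) f g x) i = posPart (f i * (g i * x i)) - g i * posPart (f i * x i) := rfl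

theorem trace_pi {I : Type*} [Finite I] [Fintype I] [DecidableEq I] {Y : I → Type*} [∀ t, AddCommGroup (Y t)]
    [∀ t, Module k (Y t)] [∀ t, FiniteDimensional k (Y t)] (T : (∀ t, Y t) →ₗ[k] ∀ t, Y t) :
    LinearMap.trace k (∀ t, Y t) T =
      ∑ t, LinearMap.trace k (Y t) (LinearMap.proj t ∘ₗ T ∘ₗ LinearMap.single k Y t) := by
  have h : T = ∑ t, LinearMap.single k Y t ∘ₗ (LinearMap.proj t ∘ₗ T) := by
    refine LinearMap.ext fun x => ?_
    simp only [LinearMap.sum_apply, LinearMap.comp_apply, LinearMap.proj_apply, LinearMap.coe_single]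
    exact (Finset.univ_sum_single _).symm
  conv_lhs => rw [h, map_sum]
  refine Finset.sum_congr rfl fun t _ => ?_
  rw [LinearMap.trace_comp_comm', LinearMap.comp_assoc]

theorem wtr_comm [Fintype ι] [∀ i, FiniteDimensional k (F i)] {N s : ℕ} (hN : 2 * s ≤ N)
    {f g : ∀ i, (F i)⸨X⸩} (hf : f ∈ lat k F (-(s : ℤ))) (hg : g ∈ lat k F (-(s : ℤ))) :
    wtr (lat k F (-(N : ℤ))) (lat k F N) (comm f g) =
      ∑ i, Algebra.trace k (F i) (LocRes.res (F i) (f i * LocRes.D (F i) (g i))) := by
  classical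
  have hB : IsFilt (lat k F) := isFilt_lat
  let a : (∀ i, (F i)⸨X⸩) →ₗ[k] (∀ i, Fin (2 * N) → F i) :=
    { toFun := fun x i t => (x i).coeff ((t : ℕ) - (N : ℤ))
      map_add' := fun x y => by funext i t; simp
      map_smul' := fun r x => by funext i t; simp [coeff_smul'] }
  let b : (∀ i, Fin (2 * N) → F i) →ₗ[k] (∀ i, (F i)⸨X⸩) :=
    { toFun := fun y i => ∑ t : Fin (2 * N), HahnSeries.single ((t : ℕ) - (N : ℤ)) (y i t)
      map_add' := fun x y => by
        funext i; simp [Finset.sum_add_distrib, HahnSeries.single_add]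
      map_smul' := fun r x => by
        funext i
        ext n
        simp only [Pi.smul_apply, RingHom.id_apply, coeff_smul', HahnSeries.coeff_sum, Finset.smul_sum]
        refine Finset.sum_congr rfl fun t _ => ?_
        simp [HahnSeries.coeff_single] }
  set θ := comm (k := k) f g with hθ
  have hθs : Small (lat k F) N θ := by
    refine ⟨fun x => sub_mem (hB.anti (by omega) (piPos_mem _)) (hB.anti ?_ (mulLeft_mem hg (piPos_mem _))),
      fun x hx => ?_⟩
    · omega
    · have h1 : mulV k f x ∈ lat k F 0 := hB.anti (by omega) (mulLeft_mem hf hx)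
      have h2 : mulV k f (mulV k g x) ∈ lat k F 0 :=
        hB.anti (by omega) (mulLeft_mem hf (mulLeft_mem hg hx))
      show piPos k F (mulV k f (mulV k g x)) -
        mulV k g (piPos k F (mulV k f x)) = 0
      rw [piPos_eq h1, piPos_eq h2]
      simp only [mulV_apply]
      rw [← mul_assoc, ← mul_assoc, mul_comm f g, sub_self]
  have hb : ∀ y, b y ∈ lat k F (-(N : ℤ)) := fun y i n hn => by
    simp only [b, LinearMap.coe_mk, AddHom.coe_mk, HahnSeries.coeff_sum]
    refine Finset.sum_eq_zero fun t _ => HahnSeries.coeff_single_of_ne (by omega)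
  have haC : ∀ x ∈ lat k F N, a x = 0 := fun x hx => by
    funext i t
    exact hx i _ (by omega)
  have hθb : ∀ x ∈ lat k F (-(N : ℤ)), θ x - b (a (θ x)) ∈ lat k F N := by
    intro x hx i n hn
    simp only [a, b, Pi.sub_apply, LinearMap.coe_mk, AddHom.coe_mk, HahnSeries.coeff_sub, HahnSeries.coeff_sum]
    rw [sub_eq_zero]
    by_cases h : -(N : ℤ) ≤ n
    · rw [Finset.sum_eq_single (⟨(n + N).toNat, by omega⟩ : Fin (2 * N))
        (fun t _ ht => HahnSeries.coeff_single_of_ne fun h2 => ht (Fin.ext (by simp; omega)))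
        (fun h2 => absurd (Finset.mem_univ _) h2)]
      simp only
      rw [show ((n + N).toNat : ℤ) - (N : ℤ) = n by omega, HahnSeries.coeff_single_same]
    · rw [Finset.sum_eq_zero fun t _ => HahnSeries.coeff_single_of_ne (by omega)]
      exact hθs.1 x i n (by omega)
  haveI := hB.fin (-(N : ℤ)) N
  have hst : Stable (lat k F (-(N : ℤ))) (lat k F N) (b ∘ₗ (a ∘ₗ θ)) :=
    ⟨fun x _ => hb _, fun x hx => by simp [hθs.2 x hx]⟩
  rw [wtr_congr (θ' := b ∘ₗ (a ∘ₗ θ)) (hθs.stable hB le_rfl le_rfl) hst fun x hx => hθb x hx,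
    cyc_coord (a ∘ₗ θ) b (fun x hx => by simp [hθs.2 x hx]) hb, trace_pi]
  refine Finset.sum_congr rfl fun i _ => ?_
  rw [trace_pi, ← entrySum_eq_res (N := N) (s := s) (by omega) (hf i) (hg i), entrySum, map_sum]
  refine Finset.sum_congr rfl fun t _ => ?_
  rw [Algebra.trace_apply]
  congr 1
  refine LinearMap.ext fun c => ?_
  simp only [LinearMap.comp_apply, LinearMap.proj_apply, a, b, LinearMap.coe_mk, AddHom.coe_mk, LinearMap.coe_single,
    hθ, comm_apply, Algebra.coe_lmul_eq_mul, LinearMap.mul_apply']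
  have hsum : (∑ t' : Fin (2 * N), HahnSeries.single ((t' : ℕ) - (N : ℤ))
      ((Pi.single i (Pi.single t c : Fin (2 * N) → F i) : ∀ i, Fin (2 * N) → F i) i t')) =
      HahnSeries.C c * HahnSeries.single ((t : ℕ) - (N : ℤ)) (1 : F i) := by
    rw [Finset.sum_eq_single t (fun t' _ h => by simp [h]) (fun h => absurd (Finset.mem_univ _) h),
      Pi.single_eq_same, Pi.single_eq_same, HahnSeries.C_apply, HahnSeries.single_mul_single, zero_add, mul_one]
  rw [hsum]
  set e := HahnSeries.single ((t : ℕ) - (N : ℤ)) (1 : F i)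
  rw [show f i * (g i * (HahnSeries.C c * e)) = HahnSeries.C c * (f i * (g i * e)) by ring,
    show f i * (HahnSeries.C c * e) = HahnSeries.C c * (f i * e) by ring, posPart_C_mul, posPart_C_mul,
    mul_left_comm (g i), ← mul_sub, HahnSeries.C_mul_eq_smul, HahnSeries.coeff_smul, smul_eq_mul, mul_comm c]
  rfl

end Prod

end Groth.Agent.FunFld.Residue
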