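import Groth.Agent.FunFld.Residue.Local
import Mathlib.RingTheory.Trace.Basic

/-!
Compatibility of residues with the trace, by Tate's method: the two sides are the traces of the same
commutator computed with two filtrations of the bigger field.
-/

set_option autoImplicit false
universe u v w

open WithZero
open scoped LaurentSeries

noncomputable section

namespace Groth.Agent.FunFld.Residue

section Generic

variable {k V V' : Type*} [Field k] [AddCommGroup V] [Module k V] [AddCommGroup V'] [Module k V']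
  {B : ℤ → Submodule k V} {B' : ℤ → Submodule k V'}

/-- `[π f, g]`. -/
def commOp (π f g : V →ₗ[k] V) : V →ₗ[k] V := π ∘ₗ f ∘ₗ g - g ∘ₗ π ∘ₗ f

theorem commOp_apply (π f g : V →ₗ[k] V) (x : V) : commOp π f g x = π (f (g x)) - g (π (f x)) := rfl

theorem wtr_add {B C : Submodule k V} {θ θ' : V →ₗ[k] V} (h : Stable B C θ) (h' : Stable B C θ') :
    wtr B C (θ + θ') = wtr B C θ + wtr B C θ' := by
  have hs : Stable B C (θ + θ') :=
    ⟨fun x hx => add_mem (h.1 x hx) (h'.1 x hx), fun x hx => add_mem (h.2 x hx) (h'.2 x hx)⟩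
  have := wtr_sub hs h'
  rw [add_sub_cancel_right] at this
  rw [this, sub_add_cancel]

theorem wtr_finsum {ι : Type*} {B C : Submodule k V} (J : Finset ι) (T : ι → V →ₗ[k] V)
    (h : ∀ i, Stable B C (T i)) : wtr B C (∑ i ∈ J, T i) = ∑ i ∈ J, wtr B C (T i) := by
  classical
  induction J using Finset.induction_on with
  | empty =>
    have h0 : Stable B C (0 : V →ₗ[k] V) := ⟨fun x _ => zero_mem _, fun x _ => zero_mem _⟩
    have := wtr_sub h0 h0
    simpa using this
  | insert a J ha ih =>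
    rw [Finset.sum_insert ha, Finset.sum_insert ha, wtr_add (h a) ⟨fun x hx => ?_, fun x hx => ?_⟩, ih]
    · rw [LinearMap.sum_apply]; exact sum_mem fun i _ => (h i).1 x hx
    · rw [LinearMap.sum_apply]; exact sum_mem fun i _ => (h i).2 x hx

theorem small_commOp (hB : IsFilt B) {π f g : V →ₗ[k] V} (hπ0 : ∀ x, π x ∈ B 0) (hπ1 : ∀ x ∈ B 0, π x = x)
    {s N : ℕ} (hf : ∀ a, ∀ x ∈ B a, f x ∈ B (a - s)) (hg : ∀ a, ∀ x ∈ B a, g x ∈ B (a - s))
    (hfg : ∀ x, f (g x) = g (f x)) (hN : 2 * s ≤ N) : Small B N (commOp π f g) := by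
  refine ⟨fun x => sub_mem (hB.anti (by omega) (hπ0 _)) (hB.anti ?_ (hg _ _ (hπ0 _))), fun x hx => ?_⟩
  · omega
  · have h1 : f x ∈ B s := hB.anti (by omega) (hf _ x hx)
    have h2 : f (g x) ∈ B 0 := hB.anti (by omega) (hf _ _ (hg _ x hx))
    rw [commOp_apply, hπ1 _ h2, hπ1 _ (hB.anti (by omega) h1), hfg, sub_self]

/-- The trace does not depend on the projection. -/
theorem wtr_commOp_indep (hB : IsFilt B) {π π' f g : V →ₗ[k] V} (hπ0 : ∀ x, π x ∈ B 0)
    (hπ1 : ∀ x ∈ B 0, π x = x) (hπ'0 : ∀ x, π' x ∈ B 0) (hπ'1 : ∀ x ∈ B 0, π' x = x)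
    {s N : ℕ} (hf : ∀ a, ∀ x ∈ B a, f x ∈ B (a - s)) (hg : ∀ a, ∀ x ∈ B a, g x ∈ B (a - s))
    (hfg : ∀ x, f (g x) = g (f x)) (hN : 2 * s ≤ N) :
    wtr (B (-(N : ℤ))) (B N) (commOp π f g) = wtr (B (-(N : ℤ))) (B N) (commOp π' f g) := by
  set δ := π - π' with hδ
  have hδ0 : ∀ x, δ x ∈ B 0 := fun x => sub_mem (hπ0 x) (hπ'0 x)
  have hδ1 : ∀ x ∈ B 0, δ x = 0 := fun x hx => by
    show π x - π' x = 0
    rw [hπ1 x hx, hπ'1 x hx, sub_self]
  have hs1 : Small B N ((δ ∘ₗ f) ∘ₗ g) :=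
    ⟨fun x => hB.anti (by omega) (hδ0 _), fun x hx => hδ1 _ (hB.anti (by omega) (hf _ _ (hg _ x hx)))⟩
  have hs2 : Small B N (g ∘ₗ (δ ∘ₗ f)) := by
    refine ⟨fun x => hB.anti (by omega) (hg _ _ (hδ0 _)), fun x hx => ?_⟩
    show g (δ (f x)) = 0
    rw [hδ1 _ (hB.anti (by omega) (hf _ x hx)), map_zero]
  have hst := (small_commOp hB hπ0 hπ1 hf hg hfg hN).stable hB (a := -(N : ℤ)) (b := N) le_rfl le_rfl
  have hst' := (small_commOp hB hπ'0 hπ'1 hf hg hfg hN).stable hB (a := -(N : ℤ)) (b := N) le_rfl le_rfl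
  have hst1 := hs1.stable hB (a := -(N : ℤ)) (b := N) le_rfl le_rfl
  have hst2 := hs2.stable hB (a := -(N : ℤ)) (b := N) le_rfl le_rfl
  have heq : commOp π f g - commOp π' f g = (δ ∘ₗ f) ∘ₗ g - g ∘ₗ (δ ∘ₗ f) := by
    ext x
    simp only [commOp, hδ, LinearMap.sub_apply, LinearMap.comp_apply, map_sub]
    abel
  haveI := hB.fin (-(N : ℤ) - s) N
  haveI := hB.fin (-(N : ℤ)) ((N : ℤ) + s)
  have hc := cyc (B₁ := B (-(N : ℤ) - s)) (C₁ := B N) (B₂ := B (-(N : ℤ))) (C₂ := B ((N : ℤ) + s)) (δ ∘ₗ f) g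
    (fun x _ => hB.anti (by omega) (hδ0 _))
    (fun x hx => by
      show δ (f x) ∈ _
      rw [hδ1 _ (hB.anti (by omega) (hf _ x hx))]
      exact zero_mem _)
    (fun x hx => hg _ x hx)
    (fun x hx => hB.anti (by omega) (hg _ x hx))
  rw [wtr_indep hB hs2 (by omega) le_rfl, wtr_indep hB hs1 le_rfl (by omega)] at hc
  have := wtr_sub hst hst'
  rw [heq, wtr_sub hst1 hst2, hc, sub_self] at this
  exact sub_eq_zero.1 this.symm

variable (L : V →ₗ[k] V')

theorem isFilt_comap (hB' : IsFilt B') : IsFilt fun a => (B' a).comap L := by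
  refine ⟨fun a b hab x hx => hB'.anti hab hx, fun a b => ?_⟩
  haveI := hB'.fin a b
  refine FiniteDimensional.of_injective (Submodule.mapQ (((B' b).comap L).submoduleOf ((B' a).comap L))
    ((B' b).submoduleOf (B' a)) (L.restrict fun x hx => hx) fun x hx => hx) ?_
  rw [← LinearMap.ker_eq_bot, Submodule.mapQ, Submodule.ker_liftQ_eq_bot]
  intro x hx
  rw [LinearMap.mem_ker, LinearMap.comp_apply, Submodule.mkQ_apply, Submodule.Quotient.mk_eq_zero] at hx
  exact hx

variable (hdense : ∀ (x : V') (b : ℤ), ∃ z, x - L z ∈ B' b)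
include hdense

/-- Windows do not change under a dense map. -/
theorem wtr_comap (hB' : IsFilt B') {a b : ℤ} (hab : a ≤ b) {θ : V →ₗ[k] V} {θ' : V' →ₗ[k] V'}
    (h : Stable ((B' a).comap L) ((B' b).comap L) θ) (h' : Stable (B' a) (B' b) θ')
    (hcompat : ∀ z, L z ∈ B' a → L (θ z) - θ' (L z) ∈ B' b) :
    wtr ((B' a).comap L) ((B' b).comap L) θ = wtr (B' a) (B' b) θ' := by
  let g : Win ((B' a).comap L) ((B' b).comap L) →ₗ[k] Win (B' a) (B' b) :=
    Submodule.mapQ (((B' b).comap L).submoduleOf ((B' a).comap L)) ((B' b).submoduleOf (B' a))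
      (L.restrict fun x hx => hx) fun x hx => hx
  have hinj : Function.Injective g := by
    rw [← LinearMap.ker_eq_bot]
    refine Submodule.ker_liftQ_eq_bot _ _ _ fun x hx => ?_
    rw [LinearMap.mem_ker, LinearMap.comp_apply, Submodule.mkQ_apply, Submodule.Quotient.mk_eq_zero] at hx
    exact hx
  have hsurj : Function.Surjective g := fun w => by
    obtain ⟨⟨x, hx⟩, rfl⟩ := Submodule.Quotient.mk_surjective _ w
    obtain ⟨z, hz⟩ := hdense x b
    have hza : L z ∈ B' a := by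
      rw [show L z = x - (x - L z) by abel]
      exact sub_mem hx (hB'.anti hab hz)
    refine ⟨Submodule.Quotient.mk ⟨z, hza⟩, (Submodule.Quotient.eq _).2 ?_⟩
    show L z - x ∈ B' b
    rw [← neg_sub]; exact neg_mem hz
  let e := LinearEquiv.ofBijective g ⟨hinj, hsurj⟩
  rw [wtr_of_stable h, wtr_of_stable h', ← LinearMap.trace_conj' _ e]
  congr 1
  refine LinearMap.ext fun w => ?_
  obtain ⟨z, rfl⟩ := e.surjective w
  obtain ⟨⟨z, hz⟩, rfl⟩ := Submodule.Quotient.mk_surjective _ z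
  rw [LinearEquiv.conj_apply, LinearMap.comp_apply, LinearMap.comp_apply, LinearEquiv.coe_coe,
    LinearEquiv.coe_coe, LinearEquiv.symm_apply_apply]
  exact (Submodule.Quotient.eq _).2 (hcompat z hz)

theorem exists_proj (hB' : IsFilt B') {p : V' →ₗ[k] V'} (hp0 : ∀ x, p x ∈ B' 0) (hp1 : ∀ x ∈ B' 0, p x = x)
    (N : ℕ) : ∃ π : V →ₗ[k] V, (∀ z, π z ∈ (B' 0).comap L) ∧ (∀ z ∈ (B' 0).comap L, π z = z) ∧
      ∀ z, L (π z) - p (L z) ∈ B' N := by
  set R := (B' 0).comap L with hR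
  obtain ⟨C, hC⟩ := Submodule.exists_isCompl R
  obtain ⟨σ, hσ⟩ := LinearMap.exists_rightInverse_of_surjective ((B' N).mkQ ∘ₗ L) (LinearMap.range_eq_top.2 fun w => by
    obtain ⟨x, rfl⟩ := Submodule.mkQ_surjective _ w
    obtain ⟨z, hz⟩ := hdense x N
    exact ⟨z, (Submodule.Quotient.eq _).2 (by rw [← neg_sub]; exact neg_mem hz)⟩)
  let q : V →ₗ[k] V := σ ∘ₗ (B' N).mkQ ∘ₗ p ∘ₗ L
  have hq : ∀ z, L (q z) - p (L z) ∈ B' N := fun z =>
    (Submodule.Quotient.eq _).1 (LinearMap.congr_fun hσ ((B' N).mkQ (p (L z))))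
  let pR : V →ₗ[k] V := R.subtype ∘ₗ R.projectionOnto C hC
  have hpR1 : ∀ z ∈ R, pR z = z := fun z hz => by
    simp only [pR, LinearMap.comp_apply, Submodule.coe_subtype]
    exact congrArg Subtype.val (Submodule.projectionOnto_apply_left hC ⟨z, hz⟩)
  have hpR0 : ∀ z, pR z ∈ R := fun z => (R.projectionOnto C hC z).2
  have hqR : ∀ z, q z ∈ R := fun z => by
    show L (q z) ∈ B' 0
    rw [show L (q z) = (L (q z) - p (L z)) + p (L z) by abel]
    exact add_mem (hB'.anti (Int.natCast_nonneg N) (hq z)) (hp0 _)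
  refine ⟨pR + (q - q ∘ₗ pR), fun z => add_mem (hpR0 z) (sub_mem (hqR z) (hqR (pR z))), fun z hz => ?_, fun z => ?_⟩
  · simp only [LinearMap.add_apply, LinearMap.sub_apply, LinearMap.comp_apply, hpR1 z hz, sub_self, add_zero]
  · have h1 : p (L (pR z)) = L (pR z) := hp1 _ (hpR0 z)
    have e : L ((pR + (q - q ∘ₗ pR)) z) - p (L z) =
        (L (q z) - p (L z)) - (L (q (pR z)) - p (L (pR z))) := by
      simp only [LinearMap.add_apply, LinearMap.sub_apply, LinearMap.comp_apply, map_add, map_sub, h1]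
      abel
    rw [e]
    exact sub_mem (hq z) (hq (pR z))

/-- The trace of a commutator can be computed after a dense map. -/
theorem wtr_commOp_transfer (hB' : IsFilt B') {p : V' →ₗ[k] V'} (hp0 : ∀ x, p x ∈ B' 0)
    (hp1 : ∀ x ∈ B' 0, p x = x) {π f g : V →ₗ[k] V} {f' g' : V' →ₗ[k] V'}
    (hπ0 : ∀ z, π z ∈ (B' 0).comap L) (hπ1 : ∀ z ∈ (B' 0).comap L, π z = z)
    (hLf : ∀ z, L (f z) = f' (L z)) (hLg : ∀ z, L (g z) = g' (L z))
    {s N : ℕ} (hf : ∀ a, ∀ x ∈ B' a, f' x ∈ B' (a - s)) (hg : ∀ a, ∀ x ∈ B' a, g' x ∈ B' (a - s))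
    (hfg : ∀ x, f (g x) = g (f x)) (hfg' : ∀ x, f' (g' x) = g' (f' x)) (hN : 2 * s ≤ N) :
    wtr ((B' (-(N : ℤ))).comap L) ((B' N).comap L) (commOp π f g) =
      wtr (B' (-(N : ℤ))) (B' N) (commOp p f' g') := by
  obtain ⟨π₁, h10, h11, h1p⟩ := exists_proj L hdense hB' hp0 hp1 (N + s)
  have hB := isFilt_comap L hB'
  have hfB : ∀ a : ℤ, ∀ x ∈ (B' a).comap L, f x ∈ (B' (a - s)).comap L := fun a x hx => by
    rw [Submodule.mem_comap, hLf]; exact hf a _ hx
  have hgB : ∀ a : ℤ, ∀ x ∈ (B' a).comap L, g x ∈ (B' (a - s)).comap L := fun a x hx => by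
    rw [Submodule.mem_comap, hLg]; exact hg a _ hx
  rw [wtr_commOp_indep (B := fun a => (B' a).comap L) hB hπ0 hπ1 h10 h11 hfB hgB hfg hN]
  refine wtr_comap L hdense hB' (by omega)
    ((small_commOp (B := fun a => (B' a).comap L) hB h10 h11 hfB hgB hfg hN).stable hB le_rfl le_rfl)
    ((small_commOp hB' hp0 hp1 hf hg hfg' hN).stable hB' le_rfl le_rfl) fun z _ => ?_
  rw [commOp_apply, commOp_apply, map_sub, hLg, ← hLg z, ← hLf, ← hLf,
    show L (π₁ (f (g z))) - g' (L (π₁ (f z))) - (p (L (f (g z))) - g' (p (L (f z)))) =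
      (L (π₁ (f (g z))) - p (L (f (g z)))) - g' (L (π₁ (f z)) - p (L (f z))) by rw [map_sub]; abel]
  refine sub_mem (hB'.anti (by omega) (h1p _)) (hB'.anti ?_ (hg _ _ (h1p _)))
  omega

end Generic

section Prod

variable {k : Type u} [Field k] {ι : Type v} [Fintype ι] {F : ι → Type w} [∀ i, Field (F i)]
  [∀ i, Algebra k (F i)] [∀ i, FiniteDimensional k (F i)]

omit [Fintype ι] [∀ i, FiniteDimensional k (F i)] in
theorem single_proj_mem [DecidableEq ι] (i : ι) (a : ℤ) {x : ∀ i, (F i)⸨X⸩} (hx : x ∈ lat k F a) :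
    (LinearMap.single k (fun i => (F i)⸨X⸩) i ∘ₗ LinearMap.proj i) x ∈ lat k F a := by
  intro j n hn
  simp only [LinearMap.comp_apply, LinearMap.proj_apply, LinearMap.coe_single]
  rcases eq_or_ne j i with rfl | hne
  · rw [Pi.single_eq_same]; exact hx j n hn
  · rw [Pi.single_eq_of_ne hne]; simp

/-- Only the diagonal blocks matter for the trace. -/
theorem wtr_diag [DecidableEq ι] {θ θ' : (∀ i, (F i)⸨X⸩) →ₗ[k] ∀ i, (F i)⸨X⸩} {N : ℕ}
    (h : Small (lat k F) N θ) (h' : Small (lat k F) N θ')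
    (he : ∀ i (u : (F i)⸨X⸩), θ (Pi.single i u) i = θ' (Pi.single i u) i) :
    wtr (lat k F (-(N : ℤ))) (lat k F N) θ = wtr (lat k F (-(N : ℤ))) (lat k F N) θ' := by
  haveI := (isFilt_lat (k := k) (F := F)).fin (-(N : ℤ)) N
  let P : ι → ((∀ i, (F i)⸨X⸩) →ₗ[k] ∀ i, (F i)⸨X⸩) := fun i =>
    LinearMap.single k (fun i => (F i)⸨X⸩) i ∘ₗ LinearMap.proj i
  have key : ∀ τ, Small (lat k F) N τ → wtr (lat k F (-(N : ℤ))) (lat k F N) τ =
      ∑ i, wtr (lat k F (-(N : ℤ))) (lat k F N) (P i ∘ₗ τ ∘ₗ P i) := by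
    intro τ hτ
    have hst := hτ.stable isFilt_lat (a := -(N : ℤ)) (b := N) le_rfl le_rfl
    have hPτ : ∀ i, Stable (lat k F (-(N : ℤ))) (lat k F N) (P i ∘ₗ τ) := fun i =>
      ⟨fun x hx => single_proj_mem i _ (hst.1 x hx), fun x hx => single_proj_mem i _ (hst.2 x hx)⟩
    have hsum : τ = ∑ i, P i ∘ₗ τ := LinearMap.ext fun x => by
      simp only [LinearMap.sum_apply, LinearMap.comp_apply, LinearMap.proj_apply, LinearMap.coe_single, P]
      exact (Finset.univ_sum_single _).symm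
    conv_lhs => rw [hsum]
    rw [wtr_finsum _ _ hPτ]
    refine Finset.sum_congr rfl fun i _ => ?_
    have hc := cyc (B₁ := lat k F (-(N : ℤ))) (C₁ := lat k F N) (B₂ := lat k F (-(N : ℤ))) (C₂ := lat k F N)
      (P i ∘ₗ τ) (P i) (hPτ i).1 (hPτ i).2 (fun x hx => single_proj_mem i _ hx) (fun x hx => single_proj_mem i _ hx)
    have hPP : P i ∘ₗ (P i ∘ₗ τ) = P i ∘ₗ τ := LinearMap.ext fun x => by
      simp [P]
    rw [hPP] at hc
    rw [hc, LinearMap.comp_assoc]
  rw [key θ h, key θ' h']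
  refine Finset.sum_congr rfl fun i _ => congrArg _ (LinearMap.ext fun x => ?_)
  simp only [P, LinearMap.comp_apply, LinearMap.proj_apply, LinearMap.coe_single]
  rw [he i (x i)]

theorem commOp_piPos (f g : ∀ i, (F i)⸨X⸩) :
    commOp (piPos k F) (mulV k f) (mulV k g) = comm f g := rfl

end Prod

section Main

variable {k : Type u} {K K' : Type v} [Field k] [Field K] [Field K'] [Algebra k K] [Algebra K K'] [Algebra k K']
  [IsScalarTower k K K'] {F : Type w} [Field F] [Algebra k F] [FiniteDimensional k F]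
  {ι : Type*} [Fintype ι] {G : ι → Type w} [∀ i, Field (G i)] [∀ i, Algebra k (G i)]
  [∀ i, FiniteDimensional k (G i)]

omit [FiniteDimensional k F] in
theorem exists_val_le_exp (f : F⸨X⸩) : ∃ s : ℕ, Valued.v f ≤ exp (s : ℤ) := by
  rcases eq_or_ne (Valued.v f) 0 with h | h
  · exact ⟨0, by rw [h]; exact zero_le⟩
  · exact ⟨(log (Valued.v f)).toNat, by
      conv_lhs => rw [← exp_log h]
      exact exp_le_exp.2 (Int.self_le_toNat _)⟩

/-- Residues commute with the trace, given bases of the integral elements. -/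
theorem trace_res_compat (φ : K →ₐ[k] F⸨X⸩) (hφd : ∀ (x : F⸨X⸩) (b : ℤ), ∃ z : K, ∀ n < b, (x - φ z).coeff n = 0)
    {m : ℕ} (bK : Module.Basis (Fin m) K K') (ψ : ∀ i, K' →ₐ[k] (G i)⸨X⸩)
    (hψd : ∀ (x : ∀ i, (G i)⸨X⸩) (b : ℤ), ∃ z : K', ∀ i, ∀ n < b, (x i - ψ i z).coeff n = 0)
    (hR : ∀ z : K', (∀ i, Valued.v (ψ i z) ≤ 1) ↔ ∀ j, Valued.v (φ (bK.repr z j)) ≤ 1)
    (t : K) (ht : Valued.v (φ t) = exp (-(1 : ℤ))) (e : ι → ℕ) (he : ∀ i, 1 ≤ e i)
    (hte : ∀ i, Valued.v (ψ i (algebraMap K K' t)) = exp (-(e i : ℤ))) (y : K') (x : K) :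
    LocRes.locRes φ (Algebra.trace K K' y) x = ∑ i, LocRes.locRes (ψ i) y (algebraMap K K' x) := by
  classical
  set M := Algebra.leftMulMatrix bK y with hM
  let L₁ : K' →ₗ[k] ∀ i, (G i)⸨X⸩ :=
    { toFun := fun z i => ψ i z
      map_add' := fun a b => funext fun i => map_add (ψ i) a b
      map_smul' := fun c a => funext fun i => by
        simp only [Pi.smul_apply, RingHom.id_apply, smul_eq_C_mul]
        rw [Algebra.smul_def, map_mul, LocRes.map_algebraMap] }
  let L₂ : K' →ₗ[k] ((j : Fin m) → F⸨X⸩) :=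
    { toFun := fun z j => φ (bK.repr z j)
      map_add' := fun a b => funext fun j => by simp
      map_smul' := fun c a => funext fun j => by
        rw [← algebraMap_smul K c a, map_smul, Finsupp.smul_apply, smul_eq_mul, map_mul, LocRes.map_algebraMap,
          RingHom.id_apply, Pi.smul_apply, smul_eq_C_mul] }
  let mM : ((j : Fin m) → F⸨X⸩) →ₗ[k] ((j : Fin m) → F⸨X⸩) :=
    { toFun := fun w i => ∑ j, φ (M i j) * w j
      map_add' := fun a b => funext fun i => by simp [mul_add, Finset.sum_add_distrib]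
      map_smul' := fun c a => funext fun i => by
        simp only [Pi.smul_apply, RingHom.id_apply, smul_eq_C_mul, Finset.mul_sum]
        exact Finset.sum_congr rfl fun j _ => mul_left_comm _ _ _ }
  -- bounds
  choose s₁ hs₁ using fun i => exists_val_le_exp (ψ i y)
  choose s₂ hs₂ using fun i => exists_val_le_exp (ψ i (algebraMap K K' x))
  choose s₃ hs₃ using fun ij : Fin m × Fin m => exists_val_le_exp (φ (M ij.1 ij.2))
  obtain ⟨s₄, hs₄⟩ := exists_val_le_exp (φ x)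
  set s := ∑ i, s₁ i + ∑ i, s₂ i + ∑ ij, s₃ ij + s₄ with hs
  have hmono : ∀ {H : Type w} [Field H] {f : H⸨X⸩} {a : ℕ}, Valued.v f ≤ exp (a : ℤ) → a ≤ s →
      ∀ n < -(s : ℤ), f.coeff n = 0 := fun hf ha =>
    val_mem_iff.mpr (hf.trans (by rw [neg_neg, exp_le_exp]; omega))
  have h1 : (fun i => ψ i y) ∈ lat k G (-(s : ℤ)) := fun i => hmono (hs₁ i) (by
    have := Finset.single_le_sum (f := s₁) (fun _ _ => Nat.zero_le _) (Finset.mem_univ i); omega)
  have h2 : (fun i => ψ i (algebraMap K K' x)) ∈ lat k G (-(s : ℤ)) := fun i => hmono (hs₂ i) (by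
    have := Finset.single_le_sum (f := s₂) (fun _ _ => Nat.zero_le _) (Finset.mem_univ i); omega)
  have h3 : ∀ i j, ∀ n < -(s : ℤ), (φ (M i j)).coeff n = 0 := fun i j => hmono (hs₃ (i, j)) (by
    have := Finset.single_le_sum (f := s₃) (fun _ _ => Nat.zero_le _) (Finset.mem_univ (i, j)); omega)
  have h4 : (fun _ : Fin m => φ x) ∈ lat k (fun _ : Fin m => F) (-(s : ℤ)) := fun i => hmono hs₄ (by omega)
  have hdg : (fun i : Fin m => φ (M i i)) ∈ lat k (fun _ : Fin m => F) (-(s : ℤ)) := fun i => h3 i i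
  -- the two filtrations of `K'`
  set π₀R := (lat k G 0).comap L₁ with hπ₀R
  have hmem₁ : ∀ (a : ℤ) (z : K'), z ∈ (lat k G a).comap L₁ ↔ ∀ i, Valued.v (ψ i z) ≤ exp (-a) := fun a z =>
    forall_congr' fun i => val_mem_iff
  have hmem₂ : ∀ (a : ℤ) (z : K'), z ∈ (lat k (fun _ : Fin m => F) a).comap L₂ ↔
      ∀ i, Valued.v (ψ i z) ≤ exp (-(a * e i)) := by
    intro a z
    have ht0 : t ≠ 0 := fun h => by rw [h, map_zero, map_zero] at ht; exact exp_ne_zero ht.symm
    have h := hR (algebraMap K K' (t ^ (-a)) * z)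
    rw [← Algebra.smul_def, map_smul] at h
    simp only [Finsupp.smul_apply, smul_eq_mul] at h
    simp only [Algebra.smul_def, map_mul, map_zpow₀, ht, hte] at h
    simp only [← exp_zsmul, smul_eq_mul, mul_neg, neg_mul, neg_neg, mul_one] at h
    have key : ∀ (c : ℤ) (v : WithZero (Multiplicative ℤ)), exp c * v ≤ 1 ↔ v ≤ exp (-c) := fun c v => by
      rw [← mul_le_mul_iff_right₀ (exp_pos (a := -c)), ← mul_assoc, ← exp_add, neg_add_cancel, exp_zero, one_mul,
        mul_one]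
    refine Iff.trans ?_ (Iff.trans h.symm ?_)
    · exact forall_congr' fun j => val_mem_iff.trans (key a _).symm
    · exact forall_congr' fun i => key (a * e i) _
  have h0 : (lat k G 0).comap L₁ = (lat k (fun _ : Fin m => F) 0).comap L₂ := by
    ext z; rw [hmem₁, hmem₂]; simp
  obtain ⟨C, hC⟩ := Submodule.exists_isCompl π₀R
  let π : K' →ₗ[k] K' := π₀R.subtype ∘ₗ π₀R.projectionOnto C hC
  have hπ0 : ∀ z, π z ∈ (lat k G 0).comap L₁ := fun z => (π₀R.projectionOnto C hC z).2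
  have hπ1 : ∀ z ∈ (lat k G 0).comap L₁, π z = z := fun z hz =>
    congrArg Subtype.val (Submodule.projectionOnto_apply_left hC ⟨z, hz⟩)
  have hπ0' : ∀ z, π z ∈ (lat k (fun _ : Fin m => F) 0).comap L₂ := fun z => h0 ▸ hπ0 z
  have hπ1' : ∀ z ∈ (lat k (fun _ : Fin m => F) 0).comap L₂, π z = z := fun z hz => hπ1 z (h0.symm ▸ hz)
  set f := LinearMap.mulLeft k y with hf
  set g := LinearMap.mulLeft k (algebraMap K K' x) with hg
  have hfg : ∀ z, f (g z) = g (f z) := fun z => by simp [hf, hg, mul_left_comm]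
  have hL₁f : ∀ z, L₁ (f z) = mulV k (fun i => ψ i y) (L₁ z) := fun z => funext fun i => map_mul (ψ i) _ _
  have hL₁g : ∀ z, L₁ (g z) = mulV k (fun i => ψ i (algebraMap K K' x)) (L₁ z) := fun z =>
    funext fun i => map_mul (ψ i) _ _
  have hL₂f : ∀ z, L₂ (f z) = mM (L₂ z) := fun z => funext fun i => by
    show φ (bK.repr (y * z) i) = ∑ j, φ (M i j) * φ (bK.repr z j)
    rw [← Algebra.leftMulMatrix_mulVec_repr bK y z, Matrix.mulVec, dotProduct, map_sum]
    exact Finset.sum_congr rfl fun j _ => map_mul φ _ _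
  have hL₂g : ∀ z, L₂ (g z) = mulV k (fun _ : Fin m => φ x) (L₂ z) := fun z => funext fun i => by
    show φ (bK.repr (algebraMap K K' x * z) i) = φ x * φ (bK.repr z i)
    rw [← Algebra.smul_def, map_smul, Finsupp.smul_apply, smul_eq_mul, map_mul]
  have hmMs : ∀ a, ∀ w ∈ lat k (fun _ : Fin m => F) a, mM w ∈ lat k (fun _ : Fin m => F) (a - s) := fun a w hw i n hn => by
    show (∑ j, φ (M i j) * w j).coeff n = 0
    rw [HahnSeries.coeff_sum]
    exact Finset.sum_eq_zero fun j _ => coeff_mul_eq_zero (h3 i j) (hw j) (by omega)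
  have hmMg : ∀ w, mM (mulV k (fun _ : Fin m => φ x) w) = mulV k (fun _ : Fin m => φ x) (mM w) := fun w =>
    funext fun i => by
      show ∑ j, φ (M i j) * (φ x * w j) = φ x * ∑ j, φ (M i j) * w j
      rw [Finset.mul_sum]
      exact Finset.sum_congr rfl fun j _ => mul_left_comm _ _ _
  have hd₁ : ∀ (w : ∀ i, (G i)⸨X⸩) (b : ℤ), ∃ z, w - L₁ z ∈ lat k G b := hψd
  have hd₂ : ∀ (w : (j : Fin m) → F⸨X⸩) (b : ℤ), ∃ z, w - L₂ z ∈ lat k (fun _ : Fin m => F) b := fun w b => by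
    choose c hc using fun j => hφd (w j) b
    refine ⟨∑ j, c j • bK j, fun i => ?_⟩
    show ∀ n < b, (w i - φ (bK.repr (∑ j, c j • bK j) i)).coeff n = 0
    rw [bK.repr_sum_self]
    exact hc i
  set N := 2 * s with hN
  have e₁ := wtr_commOp_transfer L₁ hd₁ isFilt_lat piPos_mem (fun z hz => piPos_eq hz) hπ0 hπ1 hL₁f hL₁g
    (fun a w hw => mulLeft_mem h1 hw) (fun a w hw => mulLeft_mem h2 hw) hfg
    (fun w => by simp only [mulV_apply]; exact mul_left_comm _ _ _) (N := N) le_rfl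
  have e₂ := wtr_commOp_transfer L₂ hd₂ isFilt_lat piPos_mem (fun z hz => piPos_eq hz) hπ0' hπ1' hL₂f hL₂g
    hmMs (fun a w hw => mulLeft_mem h4 hw) hfg hmMg (N := N) le_rfl
  rw [commOp_piPos, wtr_comm le_rfl h1 h2] at e₁
  have hdiag : wtr (lat k (fun _ : Fin m => F) (-(N : ℤ))) (lat k (fun _ : Fin m => F) N)
      (commOp (piPos k _) mM (mulV k fun _ : Fin m => φ x)) =
      wtr (lat k (fun _ : Fin m => F) (-(N : ℤ))) (lat k (fun _ : Fin m => F) N)
      (commOp (piPos k _) (mulV k fun i : Fin m => φ (M i i)) (mulV k fun _ : Fin m => φ x)) := by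
    refine wtr_diag (small_commOp isFilt_lat piPos_mem (fun z hz => piPos_eq hz) hmMs
      (fun a w hw => mulLeft_mem h4 hw) hmMg le_rfl)
      (small_commOp isFilt_lat piPos_mem (fun z hz => piPos_eq hz) (fun a w hw => mulLeft_mem hdg hw)
        (fun a w hw => mulLeft_mem h4 hw) (fun w => by simp only [mulV_apply]; exact mul_left_comm _ _ _) le_rfl)
      fun i u => ?_
    show posPart (∑ j, φ (M i j) * (φ x * (Pi.single i u : (j : Fin m) → F⸨X⸩) j)) -
      φ x * posPart (∑ j, φ (M i j) * (Pi.single i u : (j : Fin m) → F⸨X⸩) j) =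
      posPart (φ (M i i) * (φ x * (Pi.single i u : (j : Fin m) → F⸨X⸩) i)) -
        φ x * posPart (φ (M i i) * (Pi.single i u : (j : Fin m) → F⸨X⸩) i)
    rw [Finset.sum_eq_single i (fun j _ hj => by simp [hj]) (fun h => absurd (Finset.mem_univ i) h),
      Finset.sum_eq_single i (fun j _ hj => by simp [hj]) (fun h => absurd (Finset.mem_univ i) h)]
  rw [hdiag, commOp_piPos, wtr_comm le_rfl hdg h4] at e₂
  -- compare the filtrations
  set E := ∑ i, e i + 1 with hE
  have hA := isFilt_comap L₁ (isFilt_lat (k := k) (F := G))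
  have hB := isFilt_comap L₂ (isFilt_lat (k := k) (F := fun _ : Fin m => F))
  have hsA := small_commOp (B := fun a => (lat k G a).comap L₁) hA hπ0 hπ1
    (fun a z hz => by rw [Submodule.mem_comap, hL₁f]; exact mulLeft_mem h1 hz)
    (fun a z hz => by rw [Submodule.mem_comap, hL₁g]; exact mulLeft_mem h2 hz) hfg (N := N) le_rfl
  have hsB := small_commOp (B := fun a => (lat k (fun _ : Fin m => F) a).comap L₂) hB hπ0' hπ1'
    (fun a z hz => by rw [Submodule.mem_comap, hL₂f]; exact hmMs a _ hz)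
    (fun a z hz => by rw [Submodule.mem_comap, hL₂g]; exact mulLeft_mem h4 hz) hfg (N := N) le_rfl
  have hNE : (N : ℤ) ≤ (N : ℤ) * E := le_mul_of_one_le_right (by omega) (by exact_mod_cast (show 1 ≤ E by omega))
  haveI : FiniteDimensional k (Win ((lat k G (-(N : ℤ))).comap L₁) ((lat k G ((N : ℤ) * E)).comap L₁)) := hA.fin _ _
  haveI : FiniteDimensional k (Win ((lat k (fun _ : Fin m => F) (-(N : ℤ))).comap L₂)
      ((lat k (fun _ : Fin m => F) N).comap L₂)) := hB.fin _ _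
  have hc := cyc (B₁ := (lat k G (-(N : ℤ))).comap L₁) (C₁ := (lat k G ((N : ℤ) * E)).comap L₁)
    (B₂ := (lat k (fun _ : Fin m => F) (-(N : ℤ))).comap L₂) (C₂ := (lat k (fun _ : Fin m => F) N).comap L₂)
    LinearMap.id (commOp π f g)
    (fun z hz => by
      rw [LinearMap.id_apply, hmem₂]
      intro i
      refine ((hmem₁ _ z).1 hz i).trans (exp_le_exp.2 ?_)
      rw [neg_mul, neg_neg, neg_neg]
      exact le_mul_of_one_le_right (by omega) (by exact_mod_cast he i))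
    (fun z hz => by
      rw [LinearMap.id_apply, hmem₂]
      intro i
      refine ((hmem₁ _ z).1 hz i).trans (exp_le_exp.2 ?_)
      rw [neg_le_neg_iff]
      refine mul_le_mul_of_nonneg_left ?_ (by omega)
      have := Finset.single_le_sum (f := e) (fun _ _ => Nat.zero_le _) (Finset.mem_univ i)
      exact_mod_cast (show e i ≤ E by omega))
    (fun z _ => hsA.1 z)
    (fun z hz => by rw [hsB.2 z hz]; exact zero_mem _)
  rw [LinearMap.comp_id, LinearMap.id_comp,
    wtr_indep (B := fun a => (lat k G a).comap L₁) hA hsA le_rfl hNE, e₁, e₂] at hc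
  show Algebra.trace k F (LocRes.res F (φ (Algebra.trace K K' y) * LocRes.D F (φ x))) = _
  rw [Algebra.trace_eq_matrix_trace bK, Matrix.trace, map_sum, Finset.sum_mul, map_sum, map_sum]
  exact hc.symm

end Main

end Groth.Agent.FunFld.Residue
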