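import Groth.Agent.FunFld.Residue.WeilDiff
import Groth.Agent.FunFld.SepExt
import Groth.Agent.FunFld.Ext.Fundamental

/-!
The Riemann–Hurwitz formula.
-/

set_option autoImplicit false
universe u v w

open WithZero _root_.FunFld IsLocalRing
open scoped LaurentSeries

noncomputable section

namespace Groth.Agent.FunFld.Residue

variable {k k' : Type u} {K' : Type v} [Field k] [Field k'] [Field K'] [Algebra k k'] [Algebra k' K'] [Algebra k K']
  [IsScalarTower k k' K'] [FiniteDimensional k k']

/-- Places over `k'` are places over `k`. -/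
def placeEquiv : Place k' K' ≃ Place k K' where
  toFun Q := ⟨Q.1, fun c => by rw [IsScalarTower.algebraMap_apply k k' K']; exact Q.2.1 _, Q.2.2⟩
  invFun R := ⟨R.1, fun c => by
    have hc : IsIntegral k (algebraMap k' K' c) :=
      (Algebra.IsIntegral.isIntegral (R := k) c).map (IsScalarTower.toAlgHom k k' K')
    haveI : IsScalarTower k R.O K' := IsScalarTower.of_algebraMap_eq fun _ => rfl
    have hO : IsIntegral R.O (algebraMap k' K' c) := hc.tower_top
    exact (Valuation.integer.integers R.1).mem_of_integral hO, R.2.2⟩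
  left_inv _ := Subtype.ext rfl
  right_inv _ := Subtype.ext rfl

omit [FiniteDimensional k k'] in
theorem deg_placeEquiv_aux (Q : Place k' K') (R : Place k K') (h : R.1 = Q.1) :
    R.deg = Module.finrank k k' * Q.deg := by
  obtain ⟨v, hv⟩ := Q
  obtain ⟨w, hw⟩ := R
  simp only at h
  subst h
  let Q : Place k' K' := ⟨w, hv⟩
  let R : Place k K' := ⟨w, hw⟩
  let T := ResidueField Q.O
  let iK : Algebra k T := Place.algRes R
  let iC : Algebra k' T := Place.algRes Q
  have hT : @IsScalarTower k k' T Algebra.toSMul iC.toSMul iK.toSMul :=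
    IsScalarTower.of_algebraMap_eq fun c => by
      show residue Q.O (@algebraMap k R.O _ _ (Place.algO R) c) =
        residue Q.O (@algebraMap k' Q.O _ _ (Place.algO Q) (algebraMap k k' c))
      congr 1
      exact Subtype.ext (IsScalarTower.algebraMap_apply k k' K' c)
  exact (@Module.finrank_mul_finrank k k' T _ _ _ _ iC.toModule iK.toModule hT _ _ _ _).symm

theorem deg_placeEquiv (Q : Place k' K') :
    (placeEquiv (k := k) Q).deg = Module.finrank k k' * Q.deg := deg_placeEquiv_aux Q _ rfl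

variable {K : Type v} [Field K] [Algebra k K] [Algebra K K'] [IsScalarTower k K K'] [FiniteDimensional K K']

theorem riemann_hurwitz [Algebra.IsSeparable K K']
    (hK : IsFunctionField k K) (hg : IsGeometric k K) (hK' : IsFunctionField k' K')
    (F : Place k K → Type w) [∀ P, Field (F P)] [∀ P, Algebra k (F P)] [∀ P, FiniteDimensional k (F P)]
    (φ : ∀ P, K →ₐ[k] (F P)⸨X⸩) (hφ : ∀ P, LocRes.IsExpansionAt P.1 (φ P))
    (F' : Place k' K' → Type w) [∀ Q, Field (F' Q)] [∀ Q, Algebra k' (F' Q)] [∀ Q, FiniteDimensional k' (F' Q)]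
    (ψ : ∀ Q, K' →ₐ[k'] (F' Q)⸨X⸩) (hψ : ∀ Q, LocRes.IsExpansionAt Q.1 (ψ Q))
    (below : Place k' K' → Place k K) (e : Place k' K' → ℕ)
    (he : ∀ Q (z : K), Q.1 (algebraMap K K' z) = (below Q).1 z ^ e Q)
    (x : K) (hx : ∀ P, LocRes.vDiff (φ P) 1 x ≠ 0) (hx' : ∀ Q, LocRes.vDiff (ψ Q) 1 (algebraMap K K' x) ≠ 0) :
    (Function.support fun Q => LocRes.diffExp (φ (below Q)) (ψ Q) (e Q) x).Finite ∧
    (Module.finrank k k' : ℤ) * (2 * (genus k' K' : ℤ) - 2) =
      (Module.finrank K K' : ℤ) * (2 * (genus k K : ℤ) - 2) +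
      (Module.finrank k k' : ℤ) * ∑ᶠ Q, LocRes.diffExp (φ (below Q)) (ψ Q) (e Q) x * (Q.deg : ℤ) := by
  classical
  have hg' : IsGeometric k' K' := isGeometric_separable hK hg hK'
  obtain ⟨P⟩ := exists_place_any hK
  obtain ⟨Q⟩ := exists_place_any hK'
  have hDx : KaehlerDifferential.D k K x ≠ 0 := fun h => hx P (vDiff_zero_of_D h)
  have hDx' : KaehlerDifferential.D k' K' (algebraMap K K' x) ≠ 0 := fun h => hx' Q (vDiff_zero_of_D h)
  obtain ⟨C, hC, hCdiv⟩ := exists_div_resForm hK hg φ hφ one_ne_zero hDx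
  obtain ⟨C', hC', hCdiv'⟩ := exists_div_resForm hK' hg' ψ hψ one_ne_zero hDx'
  have hdegC : C.deg = 2 * genus k K - 2 :=
    (ell_canonical hK ⟨_, resForm_ne_zero hK hg φ hφ one_ne_zero hDx, hCdiv⟩).2
  have hdegC' : C'.deg = 2 * genus k' K' - 2 :=
    (ell_canonical hK' ⟨_, resForm_ne_zero hK' hg' ψ hψ one_ne_zero hDx', hCdiv'⟩).2
  set D₀ : Divisor k K' := conorm K' C
  have hD₀ : ∀ Q : Place k' K', D₀ (placeEquiv Q) = (e Q : ℤ) * C (below Q) := fun Q =>
    conorm_apply hK C (he Q)
  have hd : ∀ Q, LocRes.diffExp (φ (below Q)) (ψ Q) (e Q) x = C' Q - D₀ (placeEquiv Q) := fun Q => by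
    rw [hC' Q, hD₀ Q, hC (below Q), LocRes.diffExp]
  have hfin : (Function.support fun Q : Place k' K' => D₀ (placeEquiv (k := k) Q)).Finite :=
    D₀.finite_support.preimage (placeEquiv (k := k)).injective.injOn
  simp only [hd]
  refine ⟨(C'.finite_support.union hfin).subset (Function.support_sub _ _), ?_⟩
  have h1 : ∑ᶠ Q : Place k' K', C' Q * (Q.deg : ℤ) = C'.deg := by
    rw [Divisor.deg, Finsupp.sum, finsum_eq_sum_of_support_subset _ (s := C'.support)]
    intro Q hQ
    simp only [Finset.mem_coe, Finsupp.mem_support_iff]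
    exact left_ne_zero_of_mul hQ
  have h2 : ∑ᶠ R : Place k K', D₀ R * (R.deg : ℤ) = D₀.deg := by
    rw [Divisor.deg, Finsupp.sum, finsum_eq_sum_of_support_subset _ (s := D₀.support)]
    intro Q hQ
    simp only [Finset.mem_coe, Finsupp.mem_support_iff]
    exact left_ne_zero_of_mul hQ
  have h3 : (Module.finrank k k' : ℤ) * ∑ᶠ Q : Place k' K', D₀ (placeEquiv Q) * (Q.deg : ℤ) = D₀.deg := by
    rw [← h2, ← finsum_comp_equiv (placeEquiv (k := k) (k' := k') (K' := K')),
      mul_finsum' _ _ (hfin.subset fun Q hQ => left_ne_zero_of_mul hQ)]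
    refine finsum_congr fun Q => ?_
    rw [deg_placeEquiv]; push_cast; ring
  simp only [sub_mul]
  rw [finsum_sub_distrib (C'.finite_support.subset fun Q hQ => left_ne_zero_of_mul hQ)
      (hfin.subset fun Q hQ => left_ne_zero_of_mul hQ)]
  beta_reduce
  rw [mul_sub _ _ (∑ᶠ Q : Place k' K', D₀ (placeEquiv Q) * (Q.deg : ℤ)), h3, h1, deg_conorm hK, hdegC, hdegC']
  ring

omit [Algebra k k'] [Algebra k K'] [IsScalarTower k k' K'] [FiniteDimensional k k'] [Algebra K K']
  [IsScalarTower k K K'] [FiniteDimensional K K'] in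
theorem finiteDimensional_coeff {F : Type w} [Field F] [Algebra k F] (hK : IsFunctionField k K) {P : Place k K}
    {φ : K →ₐ[k] F⸨X⸩} (hφ : LocRes.IsExpansionAt P.1 φ) : FiniteDimensional k F := by
  haveI := residue_finite hK P
  have hint : ∀ a : P.O, ∀ n < (0 : ℤ), (φ (a : K)).coeff n = 0 := fun a =>
    val_mem_iff.mpr (by rw [hφ.1, neg_zero, exp_zero]; exact a.2)
  let c : P.O →+* F :=
    { toFun := fun a => (φ (a : K)).coeff 0
      map_one' := by rw [OneMemClass.coe_one, map_one, HahnSeries.coeff_one, if_pos rfl]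
      map_mul' := fun a b => by
        show (φ ((a : K) * (b : K))).coeff 0 = _
        rw [map_mul]
        have e : φ (a : K) = HahnSeries.C ((φ (a : K)).coeff 0) + (φ (a : K) - HahnSeries.C ((φ (a : K)).coeff 0)) := by
          abel
        conv_lhs => rw [e, add_mul, HahnSeries.coeff_add, HahnSeries.C_mul_eq_smul, HahnSeries.coeff_smul, smul_eq_mul]
        rw [coeff_mul_eq_zero (a := 1) (b := 0) (fun n hn => ?_) (hint b) (by omega), add_zero]
        rw [HahnSeries.coeff_sub, HahnSeries.C_apply]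
        rcases eq_or_ne n 0 with rfl | hne
        · rw [HahnSeries.coeff_single_same, sub_self]
        · rw [HahnSeries.coeff_single_of_ne hne, sub_zero, hint a n (by omega)]
      map_zero' := by simp
      map_add' := fun a b => by simp }
  have hker : ∀ a ∈ maximalIdeal P.O, c a = 0 := fun a ha =>
    coeff_zero_eq hφ (by
      refine lt_of_le_of_ne a.2 fun h => (mem_maximalIdeal _).1 ha ?_
      have h0 : (a : K) ≠ 0 := fun e => by rw [e, map_zero] at h; exact zero_ne_one h
      exact isUnit_iff_exists_inv.2 ⟨⟨(a : K)⁻¹, by show P.1 _ ≤ 1; rw [map_inv₀, h, inv_one]⟩,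
        Subtype.ext (mul_inv_cancel₀ h0)⟩)
  let cb : ResidueField P.O →+* F := Ideal.Quotient.lift _ c hker
  let L : ResidueField P.O →ₗ[k] F :=
    { toFun := cb
      map_add' := map_add cb
      map_smul' := fun r z => by
        show cb (r • z) = r • cb z
        rw [Algebra.smul_def r z, map_mul, Algebra.smul_def r (cb z)]
        congr 1
        show (φ (algebraMap k K r)).coeff 0 = _
        rw [LocRes.map_algebraMap, HahnSeries.C_apply, HahnSeries.coeff_single_same] }
  refine Module.Finite.of_surjective L fun a => ?_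
  obtain ⟨f, hf, rfl⟩ := hφ.2.1 a
  exact ⟨Ideal.Quotient.mk _ ⟨f, hf⟩, rfl⟩

end Groth.Agent.FunFld.Residue
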