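import Groth.Agent.FunFld.Residue.Separable

/-!
Separability of coefficient fields for separable extensions of geometric function fields.
-/

set_option autoImplicit false
universe u v w

open WithZero _root_.FunFld IntermediateField
open scoped LaurentSeries

noncomputable section

namespace Groth.Agent.FunFld.Residue

variable {k : Type u} {K : Type v} [Field k] [Field K] [Algebra k K] {F : Type w} [Field F] [Algebra k F]
  {P : Place k K} {φ : K →ₐ[k] F⸨X⸩}

theorem isSeparable_coeff_of_adjoin [FiniteDimensional k F] (hφ : LocRes.IsExpansionAt P.1 φ) {p : ℕ}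
    [hp : Fact p.Prime] [CharP k p] [CharP K p]
    (hadj : ∀ t : K, t ∉ kKp k K p → IntermediateField.adjoin (kKp k K p) ({t} : Set K) = ⊤) :
    Algebra.IsSeparable k F := by
  haveI : CharP F p := charP_of_injective_algebraMap' k p
  obtain ⟨t, ht⟩ := hφ.2.2
  set L₀ := kKp k K p with hL₀
  have htL : t ∉ L₀ := fun h => D_uniformizer_ne_zero hφ ht (by
    have := vDiff_zero_of_D (φ := φ) (D_eq_zero_of_mem p h)
    rwa [vDiff_one, map_eq_zero] at this)
  have htop := hadj t htL
  set a₀ : L₀ := ⟨t ^ p, pow_mem_kKp p t⟩
  have hmonic : (Polynomial.X ^ p - Polynomial.C a₀).Monic := Polynomial.monic_X_pow_sub_C a₀ hp.out.ne_zero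
  have hroot : Polynomial.aeval t (Polynomial.X ^ p - Polynomial.C a₀) = 0 := by
    simp [a₀, IntermediateField.algebraMap_apply]
  have hint : IsIntegral L₀ t := ⟨_, hmonic, hroot⟩
  set E : IntermediateField k F := IntermediateField.adjoin k (Set.range fun a : F => a ^ p) with hEdef
  have hEpow : ∀ a : F, a ^ p ∈ E := fun a => subset_adjoin _ _ ⟨a, rfl⟩
  have hkey : ∀ c : K, c ∈ L₀ → ∀ n, (φ c).coeff n ∈ E := by
    intro c hc
    induction hc using IntermediateField.adjoin_induction with
    | mem w hw =>
      obtain ⟨u, rfl⟩ := hw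
      intro n
      rw [map_pow]
      exact coeff_pow_char_mem E hEpow _ n
    | algebraMap r =>
      intro n
      rw [LocRes.map_algebraMap, HahnSeries.C_apply, HahnSeries.coeff_single]
      split_ifs
      · exact E.algebraMap_mem r
      · exact zero_mem _
    | add a b _ _ ha hb => intro n; rw [map_add, HahnSeries.coeff_add]; exact add_mem (ha n) (hb n)
    | inv a _ ha =>
      intro n
      have hall : ∀ j : ℕ, ∀ m, (φ a ^ j).coeff m ∈ E := by
        intro j
        induction j with
        | zero =>
          intro m; rw [pow_zero, HahnSeries.coeff_one]; split_ifs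
          · exact one_mem _
          · exact zero_mem _
        | succ j ih =>
          intro m
          rw [pow_succ, HahnSeries.coeff_mul]
          exact sum_mem fun ij _ => mul_mem (ih _) (ha _)
      have hinv : φ a⁻¹ = φ a ^ (p - 1) * (φ a⁻¹) ^ p := by
        rcases eq_or_ne a 0 with rfl | h0
        · simp [hp.out.ne_zero]
        · rw [← map_pow, ← map_pow, ← map_mul]
          congr 1
          obtain ⟨q, hq⟩ := Nat.exists_eq_succ_of_ne_zero hp.out.ne_zero
          rw [hq, Nat.succ_sub_one, inv_pow, pow_succ]
          field_simp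
      rw [hinv, HahnSeries.coeff_mul]
      exact sum_mem fun ij _ => mul_mem (hall _ _) (coeff_pow_char_mem E hEpow _ _)
    | mul a b _ _ ha hb =>
      intro n
      rw [map_mul, HahnSeries.coeff_mul]
      exact sum_mem fun ij _ => mul_mem (ha _) (hb _)
  have hE : E = ⊤ := by
    refine top_le_iff.1 fun a _ => ?_
    obtain ⟨z, hz, rfl⟩ := hφ.2.1 a
    obtain ⟨q, hq⟩ : ∃ q : Polynomial L₀, Polynomial.aeval t q = z := by
      have : z ∈ Algebra.adjoin L₀ ({t} : Set K) := by
        rw [← IntermediateField.adjoin_simple_toSubalgebra_of_isAlgebraic hint.isAlgebraic, htop]; trivial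
      rwa [Algebra.adjoin_singleton_eq_range_aeval] at this
    set r := q %ₘ (Polynomial.X ^ p - Polynomial.C a₀) with hr
    have hrz : Polynomial.aeval t r = z := by
      rw [hr, Polynomial.aeval_modByMonic_eq_self_of_root hroot, hq]
    have hrdeg : r.natDegree < p := by
      have hd := Polynomial.natDegree_X_pow_sub_C (n := p) (r := a₀)
      have := Polynomial.natDegree_modByMonic_lt q hmonic fun h => by
        rw [h, Polynomial.natDegree_one] at hd; exact hp.out.ne_zero hd.symm
      rwa [hd] at this
    rw [Polynomial.aeval_eq_sum_range' hrdeg] at hrz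
    set f : ℕ → K := fun i => (r.coeff i : K) * t ^ i with hf
    have hfz : ∑ i ∈ Finset.range p, f i = z := by
      rw [← hrz]; exact Finset.sum_congr rfl fun i _ => rfl
    have ht0 : t ≠ 0 := ne_zero_of_val P ht
    have hord : ∀ i, f i ≠ 0 → (p : ℤ) ∣ P.ord (f i) - i := by
      intro i hi
      have hc0 : (r.coeff i : K) ≠ 0 := fun h => hi (by simp only [hf, h, zero_mul])
      simp only [hf]
      rw [ord_mul P hc0 (pow_ne_zero _ ht0), ord_pow, ord_eq_of_val P ht]
      simpa using ord_dvd_of_D_eq_zero (p := p) hφ hc0 (D_eq_zero_of_mem p (r.coeff i).2)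
    have hle : ∀ i ∈ Finset.range p, P.1 (f i) ≤ 1 := by
      classical
      obtain ⟨j, hj, hmax⟩ := Finset.exists_max_image (Finset.range p) (fun i => P.1 (f i)) ⟨0, by simp [hp.out.pos]⟩
      rcases eq_or_ne (f j) 0 with h0 | h0
      · intro i hi
        exact (hmax i hi).trans (by simp [h0])
      intro i hi
      refine (hmax i hi).trans ?_
      rw [← hfz, P.1.map_sum_eq_of_lt hj] at hz
      · exact hz
      intro l hl
      rw [Finset.mem_sdiff, Finset.mem_singleton] at hl
      refine lt_of_le_of_ne (hmax l hl.1) fun he => hl.2 ?_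
      have hl0 : f l ≠ 0 := fun h => by rw [h, map_zero] at he; exact P.1.ne_zero_iff.2 h0 he.symm
      rw [val_eq_exp P hl0, val_eq_exp P h0, exp_inj, neg_inj] at he
      have h1 := hord l hl0
      have h2 := hord j h0
      rw [he] at h1
      have h3 := dvd_sub h2 h1
      rw [sub_sub_sub_cancel_left] at h3
      have hlp := Finset.mem_range.1 hl.1
      have hjp := Finset.mem_range.1 hj
      have := Int.eq_zero_of_dvd_of_natAbs_lt_natAbs h3 (by omega)
      omega
    rw [← hfz, map_sum, HahnSeries.coeff_sum, Finset.sum_eq_single 0]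
    · simp only [hf, pow_zero, mul_one]
      exact hkey _ (r.coeff 0).2 0
    · intro i hi hne
      refine coeff_zero_eq hφ (lt_of_le_of_ne (hle i hi) fun h => ?_)
      have hi0 : f i ≠ 0 := fun h' => by rw [h', map_zero] at h; exact zero_ne_one h
      have h1 := hord i hi0
      rw [Place.ord, h, log_one, neg_zero, zero_sub, dvd_neg] at h1
      have := Int.eq_zero_of_dvd_of_natAbs_lt_natAbs h1 (by simpa using Finset.mem_range.1 hi)
      omega
    · exact fun h => absurd (Finset.mem_range.2 hp.out.pos) h
  have hD : ∀ a : F, KaehlerDifferential.D k F a = 0 := by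
    intro a
    have ha : a ∈ E := hE ▸ IntermediateField.mem_top
    induction ha using IntermediateField.adjoin_induction with
    | mem w hw =>
      obtain ⟨u, rfl⟩ := hw
      rw [Derivation.leibniz_pow, ← Nat.cast_smul_eq_nsmul F, CharP.cast_eq_zero, zero_smul]
    | algebraMap c => exact Derivation.map_algebraMap _ c
    | add a b _ _ ha hb => rw [map_add, ha, hb, add_zero]
    | inv a _ ha => rw [Derivation.leibniz_inv, ha, smul_zero]
    | mul a b _ _ ha hb => rw [Derivation.leibniz, ha, hb, smul_zero, smul_zero, add_zero]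
  haveI : Subsingleton (KaehlerDifferential k F) := by
    refine subsingleton_of_forall_eq 0 fun x => ?_
    have := KaehlerDifferential.span_range_derivation k F
    have hx : x ∈ Submodule.span F (Set.range (KaehlerDifferential.D k F)) := this ▸ Submodule.mem_top
    induction hx using Submodule.span_induction with
    | mem y hy => obtain ⟨a, rfl⟩ := hy; exact hD a
    | zero => rfl
    | add a b _ _ ha hb => rw [ha, hb, add_zero]
    | smul r a _ ha => rw [ha, smul_zero]
  haveI : Algebra.FormallyUnramified k F := ⟨inferInstance⟩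
  exact Algebra.FormallyUnramified.isSeparable k F

variable {K₀ : Type*} [Field K₀] [Algebra k K₀] [Algebra K₀ K] [IsScalarTower k K₀ K]
  [Algebra.IsSeparable K₀ K]

theorem isSeparable_coeff_extension (hK₀ : IsFunctionField k K₀) (hg : IsGeometric k K₀) [FiniteDimensional k F]
    (hφ : LocRes.IsExpansionAt P.1 φ) : Algebra.IsSeparable k F := by
  obtain hc | ⟨p, hp, hpk⟩ := CharP.exists' k
  · exact Algebra.IsAlgebraic.isSeparable_of_perfectField
  haveI := hp
  haveI : CharP K p := charP_of_injective_algebraMap' k p
  haveI : CharP K₀ p := charP_of_injective_algebraMap' k p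
  obtain ⟨t₀, -, hsep⟩ := exists_separating hK₀ hg
  have ht₀ : t₀ ∉ kKp k K₀ p := fun h => D_ne_zero hK₀ (D_eq_zero_of_mem p h)
  have htop₀ := adjoin_kKp_eq_top p hK₀ hg ht₀
  refine isSeparable_coeff_of_adjoin hφ fun t htL => ?_
  set L := kKp k K p
  haveI : CharP L p := (RingHom.charP_iff _ (algebraMap L K).injective p).2 ‹_›
  haveI : ExpChar L p := .prime hp.out
  haveI hpi : IsPurelyInseparable L K := (isPurelyInseparable_iff_pow_mem L p).2 fun z =>
    ⟨1, ⟨⟨z ^ p, pow_mem_kKp p z⟩, by simp⟩⟩
  set x := algebraMap K₀ K t₀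
  set E := IntermediateField.adjoin L ({x} : Set K)
  have himg : ∀ z : K₀, algebraMap K₀ K z ∈ E := by
    intro z
    have hz : z ∈ IntermediateField.adjoin (kKp k K₀ p) ({t₀} : Set K₀) := htop₀ ▸ IntermediateField.mem_top
    have hL : ∀ c ∈ kKp k K₀ p, algebraMap K₀ K c ∈ L := by
      intro c hc
      induction hc using IntermediateField.adjoin_induction with
      | mem w hw => obtain ⟨u, rfl⟩ := hw; rw [map_pow]; exact pow_mem_kKp p _
      | algebraMap r => rw [← IsScalarTower.algebraMap_apply]; exact L.algebraMap_mem r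
      | add a b _ _ ha hb => rw [map_add]; exact add_mem ha hb
      | inv a _ ha => rw [map_inv₀]; exact inv_mem ha
      | mul a b _ _ ha hb => rw [map_mul]; exact mul_mem ha hb
    induction hz using IntermediateField.adjoin_induction with
    | mem w hw => rw [Set.mem_singleton_iff.1 hw]; exact mem_adjoin_simple_self L x
    | algebraMap r => exact E.algebraMap_mem ⟨_, hL _ r.2⟩
    | add a b _ _ ha hb => rw [map_add]; exact add_mem ha hb
    | inv a _ ha => rw [map_inv₀]; exact inv_mem ha
    | mul a b _ _ ha hb => rw [map_mul]; exact mul_mem ha hb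
  letI : Algebra K₀ E := ((algebraMap K₀ K).codRestrict E.toSubalgebra.toSubring himg).toAlgebra
  haveI : IsScalarTower K₀ E K := IsScalarTower.of_algebraMap_eq fun _ => rfl
  haveI : Algebra.IsSeparable E K := Algebra.isSeparable_tower_top_of_isSeparable K₀ E K
  haveI : IsPurelyInseparable E K := IsPurelyInseparable.tower_top L E K
  have hE : E = ⊤ := top_le_iff.1 fun z _ => by
    obtain ⟨e, rfl⟩ := IsPurelyInseparable.surjective_algebraMap_of_isSeparable E K z
    exact e.2
  have hxint : IsIntegral L x := Algebra.IsIntegral.isIntegral x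
  have hle : Module.finrank L K ≤ p := by
    rw [← IntermediateField.finrank_top' (F := L) (E := K), ← hE, IntermediateField.adjoin.finrank hxint]
    refine (Polynomial.natDegree_le_of_dvd (minpoly.dvd L x (p := Polynomial.X ^ p - Polynomial.C ⟨x ^ p, pow_mem_kKp p x⟩)
      (by simp [IntermediateField.algebraMap_apply])) (Polynomial.X_pow_sub_C_ne_zero hp.out.pos _)).trans ?_
    rw [Polynomial.natDegree_X_pow_sub_C]
  haveI : FiniteDimensional L (⊤ : IntermediateField L K) := hE ▸ IntermediateField.adjoin.finiteDimensional hxint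
  haveI : FiniteDimensional L K := Module.Finite.equiv (IntermediateField.topEquiv (F := L) (E := K)).toLinearEquiv
  set E' := IntermediateField.adjoin L ({t} : Set K)
  refine IntermediateField.eq_of_le_of_finrank_le le_top ?_
  rw [IntermediateField.finrank_top']
  refine hle.trans ?_
  rw [IntermediateField.adjoin.finrank (Algebra.IsIntegral.isIntegral t),
    IsPurelyInseparable.minpoly_natDegree_eq' L p t]
  refine Nat.le_self_pow (fun h => htL ?_) p
  have hmem := IsPurelyInseparable.elemExponent_def' L p t
  rw [h, pow_zero, pow_one] at hmem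
  obtain ⟨w, hw⟩ := hmem
  exact hw ▸ w.2

end Groth.Agent.FunFld.Residue
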