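import Groth.Agent.FunFld.Residue.Thm
import Groth.Agent.FunFld.DiffExpTame
import Mathlib.RingTheory.Unramified.Field
import Mathlib.RingTheory.Trace.Basic

/-!
The coefficient field of an expansion of a geometric function field is separable over the constants,
and nondegeneracy of the local residue pairing.
-/

set_option autoImplicit false
universe u v w

open WithZero _root_.FunFld IntermediateField
open scoped LaurentSeries

noncomputable section

namespace Groth.Agent.FunFld.Residue

variable {k : Type u} {K : Type v} [Field k] [Field K] [Algebra k K] {F : Type w} [Field F] [Algebra k F]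

theorem coeff_pow_char_mem {p : ℕ} [hp : Fact p.Prime] [CharP F p] (E : IntermediateField k F)
    (hE : ∀ a : F, a ^ p ∈ E) (w : F⸨X⸩) (n : ℤ) : (w ^ p).coeff n ∈ E := by
  haveI : CharP F⸨X⸩ p := charP_of_injective_ringHom (HahnSeries.C_injective) p
  haveI : ExpChar F⸨X⸩ p := .prime hp.out
  classical
  set m : ℤ := min w.order 0 with hm
  set L : ℤ := max (n + 1) 1 with hL
  set low : F⸨X⸩ := ∑ i ∈ Finset.Ico m L, HahnSeries.single i (w.coeff i) with hlow
  have hhigh : ∀ j < L, (w - low).coeff j = 0 := by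
    intro j hj
    rw [HahnSeries.coeff_sub, hlow, HahnSeries.coeff_sum, sub_eq_zero]
    by_cases h2 : m ≤ j
    · rw [Finset.sum_eq_single j (fun i _ hi => HahnSeries.coeff_single_of_ne (Ne.symm hi))
        (fun h3 => absurd (Finset.mem_Ico.mpr ⟨h2, hj⟩) h3), HahnSeries.coeff_single_same]
    · rw [HahnSeries.coeff_eq_zero_of_lt_order (by omega : j < w.order),
        Finset.sum_eq_zero fun i hi => HahnSeries.coeff_single_of_ne ?_]
      rw [Finset.mem_Ico] at hi; omega
  have hpow : ((w - low) ^ p).coeff n = 0 := by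
    obtain ⟨q, hq⟩ := Nat.exists_eq_succ_of_ne_zero hp.out.ne_zero
    have hle : Valued.v (w - low) ≤ exp (-L) := val_mem_iff.mp hhigh
    refine val_mem_iff.mpr (?_ : Valued.v ((w - low) ^ p) ≤ exp (-L)) n (by omega)
    rw [map_pow, hq, pow_succ]
    refine (mul_le_mul' (pow_le_one' (hle.trans ?_) q) hle).trans_eq (one_mul _)
    rw [← exp_zero, exp_le_exp]; omega
  rw [show w = low + (w - low) by abel, add_pow_char, HahnSeries.coeff_add, hpow, add_zero, hlow, sum_pow_char,
    HahnSeries.coeff_sum]
  refine sum_mem fun i _ => ?_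
  rw [HahnSeries.single_pow, HahnSeries.coeff_single]
  split_ifs
  · exact hE _
  · exact zero_mem _

variable {P : Place k K} {φ : K →ₐ[k] F⸨X⸩}

theorem ord_dvd_of_D_eq_zero {p : ℕ} [CharP F p] (hφ : LocRes.IsExpansionAt P.1 φ) {c : K} (hc : c ≠ 0)
    (hD : KaehlerDifferential.D k K c = 0) : (p : ℤ) ∣ P.ord c := by
  by_contra h
  have h1 : Valued.v (LocRes.D F (φ c)) = exp (-(P.ord c - 1)) :=
    v_D_eq (by rwa [ne_eq, CharP.intCast_eq_zero_iff F p]) (by rw [hφ.1, val_eq_exp P hc])
  have h2 := vDiff_zero_of_D (φ := φ) hD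
  rw [vDiff_one, h1] at h2
  exact exp_ne_zero h2

theorem coeff_zero_eq (hφ : LocRes.IsExpansionAt P.1 φ) {z : K} (hz : P.1 z < 1) : (φ z).coeff 0 = 0 := by
  refine val_mem_iff.mpr (?_ : Valued.v (φ z) ≤ exp (-(1 : ℤ))) 0 (by omega)
  rw [hφ.1]
  exact (lt_one_iff_le P).1 hz

theorem D_uniformizer_ne_zero (hφ : LocRes.IsExpansionAt P.1 φ) {t : K} (ht : P.1 t = exp (-1)) :
    LocRes.D F (φ t) ≠ 0 := fun h0 => by
  have := v_D_eq (f := φ t) (n := 1) (by norm_num) (by rw [hφ.1, ht])
  rw [h0, map_zero] at this
  exact exp_ne_zero this.symm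

theorem isSeparable_coeff (hK : IsFunctionField k K) (hg : IsGeometric k K) [FiniteDimensional k F]
    (hφ : LocRes.IsExpansionAt P.1 φ) : Algebra.IsSeparable k F := by
  obtain hc | ⟨p, hp, hpk⟩ := CharP.exists' k
  · exact Algebra.IsAlgebraic.isSeparable_of_perfectField
  haveI := hp
  haveI : CharP K p := charP_of_injective_algebraMap' k p
  haveI : CharP F p := charP_of_injective_algebraMap' k p
  obtain ⟨t, ht⟩ := hφ.2.2
  set L₀ := kKp k K p with hL₀
  have hfr := finrank_kKp p hK hg
  haveI : FiniteDimensional L₀ K := FiniteDimensional.of_finrank_pos (by rw [hfr]; exact hp.out.pos)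
  have htL : t ∉ L₀ := fun h => D_uniformizer_ne_zero hφ ht (by
    have := vDiff_zero_of_D (φ := φ) (D_eq_zero_of_mem p h)
    rwa [vDiff_one, map_eq_zero] at this)
  have htop := adjoin_kKp_eq_top p hK hg htL
  have hint : IsIntegral L₀ t := Algebra.IsIntegral.isIntegral t
  have hdeg : (minpoly L₀ t).natDegree = p := by
    have h := IntermediateField.adjoin.finrank hint
    rw [htop, IntermediateField.finrank_top', hfr] at h
    exact h.symm
  set E : IntermediateField k F := IntermediateField.adjoin k (Set.range fun a : F => a ^ p) with hEdef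
  have hEpow : ∀ a : F, a ^ p ∈ E := fun a => subset_adjoin _ _ ⟨a, rfl⟩
  have hkey : ∀ c : K, c ∈ L₀ → ∀ n, (φ c).coeff n ∈ E := by
    intro c hc
    induction hc using IntermediateField.adjoin_induction with
    | mem w hw =>
      obtain ⟨u, rfl⟩ := hw
      intro n
      rw [map_pow]
      exact coeff_pow_char_mem E hEpow _ n
    | algebraMap r =>
      intro n
      rw [LocRes.map_algebraMap, HahnSeries.C_apply, HahnSeries.coeff_single]
      split_ifs
      · exact E.algebraMap_mem r
      · exact zero_mem _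
    | add a b _ _ ha hb => intro n; rw [map_add, HahnSeries.coeff_add]; exact add_mem (ha n) (hb n)
    | inv a _ ha =>
      intro n
      have hall : ∀ j : ℕ, ∀ m, (φ a ^ j).coeff m ∈ E := by
        intro j
        induction j with
        | zero =>
          intro m; rw [pow_zero, HahnSeries.coeff_one]; split_ifs
          · exact one_mem _
          · exact zero_mem _
        | succ j ih =>
          intro m
          rw [pow_succ, HahnSeries.coeff_mul]
          exact sum_mem fun ij _ => mul_mem (ih _) (ha _)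
      have hinv : φ a⁻¹ = φ a ^ (p - 1) * (φ a⁻¹) ^ p := by
        rcases eq_or_ne a 0 with rfl | h0
        · simp [hp.out.ne_zero]
        · rw [← map_pow, ← map_pow, ← map_mul]
          congr 1
          obtain ⟨q, hq⟩ := Nat.exists_eq_succ_of_ne_zero hp.out.ne_zero
          rw [hq, Nat.succ_sub_one, inv_pow, pow_succ]
          field_simp
      rw [hinv, HahnSeries.coeff_mul]
      exact sum_mem fun ij _ => mul_mem (hall _ _) (coeff_pow_char_mem E hEpow _ _)
    | mul a b _ _ ha hb =>
      intro n
      rw [map_mul, HahnSeries.coeff_mul]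
      exact sum_mem fun ij _ => mul_mem (ha _) (hb _)
  have hE : E = ⊤ := by
    refine top_le_iff.1 fun a _ => ?_
    obtain ⟨z, hz, rfl⟩ := hφ.2.1 a
    obtain ⟨q, hq⟩ : ∃ q : Polynomial L₀, Polynomial.aeval t q = z := by
      have : z ∈ Algebra.adjoin L₀ ({t} : Set K) := by
        rw [← IntermediateField.adjoin_simple_toSubalgebra_of_isAlgebraic hint.isAlgebraic, htop]; trivial
      rwa [Algebra.adjoin_singleton_eq_range_aeval] at this
    set r := q %ₘ minpoly L₀ t with hr
    have hrz : Polynomial.aeval t r = z := by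
      rw [hr, Polynomial.aeval_modByMonic_eq_self_of_root (minpoly.aeval L₀ t), hq]
    have hrdeg : r.natDegree < p := hdeg ▸ Polynomial.natDegree_modByMonic_lt q (minpoly.monic hint)
      fun h => by rw [h, Polynomial.natDegree_one] at hdeg; exact hp.out.ne_zero hdeg.symm
    rw [Polynomial.aeval_eq_sum_range' hrdeg] at hrz
    set f : ℕ → K := fun i => (r.coeff i : K) * t ^ i with hf
    have hfz : ∑ i ∈ Finset.range p, f i = z := by
      rw [← hrz]; exact Finset.sum_congr rfl fun i _ => rfl
    have ht0 : t ≠ 0 := ne_zero_of_val P ht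
    have hord : ∀ i, f i ≠ 0 → (p : ℤ) ∣ P.ord (f i) - i := by
      intro i hi
      have hc0 : (r.coeff i : K) ≠ 0 := fun h => hi (by simp only [hf, h, zero_mul])
      simp only [hf]
      rw [ord_mul P hc0 (pow_ne_zero _ ht0), ord_pow, ord_eq_of_val P ht]
      simpa using ord_dvd_of_D_eq_zero (p := p) hφ hc0 (D_eq_zero_of_mem p (r.coeff i).2)
    have hle : ∀ i ∈ Finset.range p, P.1 (f i) ≤ 1 := by
      classical
      obtain ⟨j, hj, hmax⟩ := Finset.exists_max_image (Finset.range p) (fun i => P.1 (f i)) ⟨0, by simp [hp.out.pos]⟩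
      rcases eq_or_ne (f j) 0 with h0 | h0
      · intro i hi
        exact (hmax i hi).trans (by simp [h0])
      intro i hi
      refine (hmax i hi).trans ?_
      rw [← hfz, P.1.map_sum_eq_of_lt hj] at hz
      · exact hz
      intro l hl
      rw [Finset.mem_sdiff, Finset.mem_singleton] at hl
      refine lt_of_le_of_ne (hmax l hl.1) fun he => hl.2 ?_
      have hl0 : f l ≠ 0 := fun h => by rw [h, map_zero] at he; exact P.1.ne_zero_iff.2 h0 he.symm
      rw [val_eq_exp P hl0, val_eq_exp P h0, exp_inj, neg_inj] at he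
      have h1 := hord l hl0
      have h2 := hord j h0
      rw [he] at h1
      have h3 := dvd_sub h2 h1
      rw [sub_sub_sub_cancel_left] at h3
      have hlp := Finset.mem_range.1 hl.1
      have hjp := Finset.mem_range.1 hj
      have := Int.eq_zero_of_dvd_of_natAbs_lt_natAbs h3 (by omega)
      omega
    rw [← hfz, map_sum, HahnSeries.coeff_sum, Finset.sum_eq_single 0]
    · simp only [hf, pow_zero, mul_one]
      exact hkey _ (r.coeff 0).2 0
    · intro i hi hne
      refine coeff_zero_eq hφ (lt_of_le_of_ne (hle i hi) fun h => ?_)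
      have hi0 : f i ≠ 0 := fun h' => by rw [h', map_zero] at h; exact zero_ne_one h
      have h1 := hord i hi0
      rw [Place.ord, h, log_one, neg_zero, zero_sub, dvd_neg] at h1
      have := Int.eq_zero_of_dvd_of_natAbs_lt_natAbs h1 (by simpa using Finset.mem_range.1 hi)
      omega
    · exact fun h => absurd (Finset.mem_range.2 hp.out.pos) h
  have hD : ∀ a : F, KaehlerDifferential.D k F a = 0 := by
    intro a
    have ha : a ∈ E := hE ▸ IntermediateField.mem_top
    induction ha using IntermediateField.adjoin_induction with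
    | mem w hw =>
      obtain ⟨u, rfl⟩ := hw
      rw [Derivation.leibniz_pow, ← Nat.cast_smul_eq_nsmul F, CharP.cast_eq_zero, zero_smul]
    | algebraMap c => exact Derivation.map_algebraMap _ c
    | add a b _ _ ha hb => rw [map_add, ha, hb, add_zero]
    | inv a _ ha => rw [Derivation.leibniz_inv, ha, smul_zero]
    | mul a b _ _ ha hb => rw [Derivation.leibniz, ha, hb, smul_zero, smul_zero, add_zero]
  haveI : Subsingleton (KaehlerDifferential k F) := by
    refine subsingleton_of_forall_eq 0 fun x => ?_
    have := KaehlerDifferential.span_range_derivation k F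
    have hx : x ∈ Submodule.span F (Set.range (KaehlerDifferential.D k F)) := this ▸ Submodule.mem_top
    induction hx using Submodule.span_induction with
    | mem y hy => obtain ⟨a, rfl⟩ := hy; exact hD a
    | zero => rfl
    | add a b _ _ ha hb => rw [ha, hb, add_zero]
    | smul r a _ ha => rw [ha, smul_zero]
  haveI : Algebra.FormallyUnramified k F := ⟨inferInstance⟩
  exact Algebra.FormallyUnramified.isSeparable k F

theorem D_ne_zero_of_kaehler (hK : IsFunctionField k K) (hg : IsGeometric k K)
    (hφ : LocRes.IsExpansionAt P.1 φ) {x : K} (hx : KaehlerDifferential.D k K x ≠ 0) :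
    LocRes.D F (φ x) ≠ 0 := by
  obtain ⟨t, ht⟩ := hφ.2.2
  have htD : KaehlerDifferential.D k K t ≠ 0 := fun h => D_uniformizer_ne_zero hφ ht (by
    have := vDiff_zero_of_D (φ := φ) h
    rwa [vDiff_one, map_eq_zero] at this)
  obtain ⟨c, hc⟩ := (finrank_eq_one_iff_of_nonzero' (KaehlerDifferential.D k K x) hx).1
    (finrank_kaehler hK hg) (KaehlerDifferential.D k K t)
  intro h0
  apply D_uniformizer_ne_zero hφ ht
  rw [D_expansion_of_smul φ hc, h0, mul_zero]

/-- Nondegeneracy of the local residue pairing. -/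
theorem exists_locRes_ne_zero (hK : IsFunctionField k K) (hg : IsGeometric k K) [FiniteDimensional k F]
    (hφ : LocRes.IsExpansionAt P.1 φ) {u x : K} (hu : u ≠ 0) (hx : KaehlerDifferential.D k K x ≠ 0) :
    LocRes.vDiff φ u x ≠ 0 ∧
    ∃ z : K, P.1 z ≤ exp (LocRes.ordDiff φ u x + 1) ∧ LocRes.locRes φ (z * u) x ≠ 0 := by
  haveI := isSeparable_coeff hK hg hφ
  set g := φ u * LocRes.D F (φ x) with hgdef
  have hg0 : g ≠ 0 := mul_ne_zero ((map_ne_zero_iff φ φ.toRingHom.injective).2 hu) (D_ne_zero_of_kaehler hK hg hφ hx)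
  have hv : LocRes.vDiff φ u x = exp (-g.order) := Groth.Agent.LocResLib.order_eq_of_val hg0
  refine ⟨by rw [hv]; exact exp_ne_zero, ?_⟩
  have hord : LocRes.ordDiff φ u x = g.order := by rw [LocRes.ordDiff, hv, log_exp, neg_neg]
  obtain ⟨c, hc⟩ : ∃ c : F, Algebra.trace k F c ≠ 0 := by
    by_contra! h
    exact Algebra.trace_ne_zero k F (LinearMap.ext h)
  set n := g.order with hn
  have hgn : g.coeff n ≠ 0 := HahnSeries.coeff_order_eq_zero.not.mpr hg0
  set s : F⸨X⸩ := HahnSeries.single (-(n + 1)) (c / g.coeff n) with hs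
  obtain ⟨z, hz⟩ := dense hφ s (-n)
  refine ⟨z, ?_, ?_⟩
  · rw [hord, ← hφ.1, show φ z = s - (s - φ z) by abel]
    refine (Valuation.map_sub _ _ _).trans (max_le ?_ ?_)
    · rw [show n + 1 = -(-(n + 1)) by ring]
      exact val_mem_iff.mp fun m hm => HahnSeries.coeff_single_of_ne (by omega)
    · refine (val_mem_iff.mp hz).trans (exp_le_exp.2 (by omega))
  · have hres : (φ z * g).coeff (-1) = c := by
      rw [show φ z * g = s * g - (s - φ z) * g by ring, HahnSeries.coeff_sub,
        coeff_mul_eq_zero hz (fun m hm => HahnSeries.coeff_eq_zero_of_lt_order hm) (by omega), sub_zero, hs,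
        show (-1 : ℤ) = n + (-(n + 1)) by ring, HahnSeries.coeff_single_mul_add, div_mul_cancel₀ _ hgn]
    rw [LocRes.locRes, LocRes.resExp, LocRes.res_apply, map_mul, mul_assoc, hres]
    exact hc

end Groth.Agent.FunFld.Residue
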