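import Groth.Agent.FunFld.Residue.Local
import Groth.Agent.FunFld.Weil
import Groth.Agent.LocResLib.Exact

/-!
The residue theorem.
-/

set_option autoImplicit false
universe u v w

open WithZero _root_.FunFld
open scoped LaurentSeries

noncomputable section

namespace Groth.Agent.FunFld.Residue

variable {k : Type u} {K : Type v} [Field k] [Field K] [Algebra k K]

theorem dense {F : Type w} [Field F] [Algebra k F] {P : Place k K} {φ : K →ₐ[k] F⸨X⸩}
    (hφ : LocRes.IsExpansionAt P.1 φ) (x : F⸨X⸩) (b : ℤ) : ∃ z : K, ∀ n < b, (x - φ z).coeff n = 0 := by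
  obtain ⟨t, ht⟩ := hφ.2.2
  have ht0 : t ≠ 0 := ne_zero_of_val P ht
  suffices h : ∀ (m : ℕ) (x : F⸨X⸩), (∀ n < b - m, x.coeff n = 0) → ∃ z : K, ∀ n < b, (x - φ z).coeff n = 0 by
    rcases eq_or_ne x 0 with rfl | hx
    · exact ⟨0, by simp⟩
    · exact h (b - x.order).toNat x fun n hn => HahnSeries.coeff_eq_zero_of_lt_order (by omega)
  intro m
  induction m with
  | zero => exact fun x hx => ⟨0, fun n hn => by simp [hx n (by omega)]⟩
  | succ m ih =>
    intro x hx
    set a : ℤ := b - (m + 1 : ℕ) with ha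
    have hv : Valued.v (φ (t ^ a)) = exp (-a) := by rw [hφ.1, map_zpow₀, ht, ← exp_zsmul]; simp
    have hlow := val_mem_iff.mpr hv.le
    have hc : (φ (t ^ a)).coeff a ≠ 0 := fun h => by
      have : Valued.v (φ (t ^ a)) ≤ exp (-(a + 1)) := val_mem_iff.mp fun n hn => by
        rcases eq_or_ne n a with rfl | hne
        · exact h
        · exact hlow n (by omega)
      rw [hv, exp_le_exp] at this; omega
    obtain ⟨w, hw, hw0⟩ := hφ.2.1 (x.coeff a / (φ (t ^ a)).coeff a)
    obtain ⟨W, hW⟩ := (LaurentSeries.val_le_one_iff_eq_coe _ _).1 ((hφ.1 w).le.trans hw)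
    have hwlow : ∀ n < (0 : ℤ), (φ w).coeff n = 0 := val_mem_iff.mpr (by rw [hφ.1, neg_zero, exp_zero]; exact hw)
    have hdiag : (φ w * φ (t ^ a)).coeff a = (φ w).coeff 0 * (φ (t ^ a)).coeff a := by
      have e : φ w = HahnSeries.C ((φ w).coeff 0) + (φ w - HahnSeries.C ((φ w).coeff 0)) := by abel
      conv_lhs => rw [e, add_mul, HahnSeries.coeff_add, HahnSeries.C_mul_eq_smul, HahnSeries.coeff_smul, smul_eq_mul]
      rw [coeff_mul_eq_zero (a := 1) (b := a) (fun n hn => ?_) hlow (by omega), add_zero]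
      rw [HahnSeries.coeff_sub, HahnSeries.C_apply]
      rcases eq_or_ne n 0 with rfl | hne
      · rw [HahnSeries.coeff_single_same, sub_self]
      · rw [HahnSeries.coeff_single_of_ne hne, sub_zero, hwlow n (by omega)]
    obtain ⟨z, hz⟩ := ih (x - φ (w * t ^ a)) fun n hn => by
      rw [map_mul, HahnSeries.coeff_sub]
      rcases eq_or_ne n a with rfl | hne
      · rw [hdiag, hw0, div_mul_cancel₀ _ hc, sub_self]
      · rw [hx n (by omega), coeff_mul_eq_zero hwlow hlow (by omega), sub_zero]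
    exact ⟨w * t ^ a + z, fun n hn => by rw [map_add, ← sub_sub]; exact hz n hn⟩

theorem resExp_eq_zero {F : Type w} [Field F] [Algebra k F] {P : Place k K} {φ : K →ₐ[k] F⸨X⸩}
    (hφ : LocRes.IsExpansionAt P.1 φ) {u v : K} (hu : P.1 u ≤ 1) (hv : P.1 v ≤ 1) :
    LocRes.resExp φ u v = 0 := by
  obtain ⟨fu, hfu⟩ := (LaurentSeries.val_le_one_iff_eq_coe _ _).1 ((hφ.1 u).le.trans hu)
  obtain ⟨fv, hfv⟩ := (LaurentSeries.val_le_one_iff_eq_coe _ _).1 ((hφ.1 v).le.trans hv)
  rw [LocRes.resExp, ← hfu, ← hfv, LocRes.D_coe, ← PowerSeries.coe_mul]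
  exact Groth.Agent.LocResLib.res_coe _

variable (hK : IsFunctionField k K) {F : Place k K → Type w} [∀ P, Field (F P)] [∀ P, Algebra k (F P)]
  [∀ P, FiniteDimensional k (F P)] (φ : ∀ P, K →ₐ[k] (F P)⸨X⸩) (hφ : ∀ P, LocRes.IsExpansionAt P.1 (φ P))

include hK hφ in
theorem sum_locRes (u v : K) :
    (Function.support fun P => LocRes.locRes (φ P) u v).Finite ∧ ∑ᶠ P, LocRes.locRes (φ P) u v = 0 := by
  classical
  obtain ⟨D₀, hD₀0, hD₀⟩ := exists_delta_eq_genus hK
  obtain ⟨P₀⟩ := exists_place_any hK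
  set S : Finset (Place k K) :=
    insert P₀ ((finite_support hK u).toFinset ∪ (finite_support hK v).toFinset ∪ D₀.support) with hS
  have hout : ∀ P ∉ S, P.1 u ≤ 1 ∧ P.1 v ≤ 1 ∧ D₀ P = 0 := by
    intro P hP
    simp only [hS, Finset.mem_insert, Finset.mem_union, Set.Finite.mem_toFinset, Function.mem_support,
      Finsupp.mem_support_iff, not_or, not_not] at hP
    obtain ⟨-, ⟨hu, hv⟩, hd⟩ := hP
    refine ⟨?_, ?_, hd⟩
    · rcases eq_or_ne u 0 with rfl | h
      · simp
      · exact (ord_nonneg_iff P h).1 hu.ge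
    · rcases eq_or_ne v 0 with rfl | h
      · simp
      · exact (ord_nonneg_iff P h).1 hv.ge
  have hsupp : (Function.support fun P => LocRes.locRes (φ P) u v) ⊆ ↑S := fun P hP => by
    by_contra h
    apply hP
    show Algebra.trace k (F P) (LocRes.resExp (φ P) u v) = 0
    rw [resExp_eq_zero (hφ P) (hout P h).1 (hout P h).2.1, map_zero]
  refine ⟨S.finite_toSet.subset hsupp, ?_⟩
  rw [finsum_eq_sum_of_support_subset _ hsupp, ← Finset.sum_coe_sort]
  -- the discrete cocompact subspace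
  let Φ : K →ₗ[k] (∀ i : S, (F i.1)⸨X⸩) :=
    { toFun := fun z i => φ i.1 z
      map_add' := fun a b => funext fun i => map_add (φ i.1) a b
      map_smul' := fun c a => funext fun i => by
        simp only [Pi.smul_apply, RingHom.id_apply, smul_eq_C_mul]
        rw [Algebra.smul_def, map_mul, LocRes.map_algebraMap] }
  let RS : Submodule k K :=
    { carrier := {z | ∀ P ∉ S, P.1 z ≤ 1}
      add_mem' := fun ha hb P hP => (P.1.map_add _ _).trans (max_le (ha P hP) (hb P hP))
      zero_mem' := fun P _ => by simp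
      smul_mem' := fun c a ha P hP => (val_smul_le P c a).trans (ha P hP) }
  set R := RS.map Φ
  have hstab : ∀ x : K, (∀ P ∉ S, P.1 x ≤ 1) → ∀ r ∈ R, mulV k (Φ x) r ∈ R := by
    rintro x hx _ ⟨z, hz, rfl⟩
    exact ⟨x * z, fun P hP => by rw [map_mul]; exact mul_le_one' (hx P hP) (hz P hP),
      funext fun i => map_mul (φ i.1) x z⟩
  set M : ℕ := (∑ P ∈ S, (D₀ P).natAbs) + 1 with hM
  set s : ℕ := ∑ P ∈ S, ((P.ord u).natAbs + (P.ord v).natAbs) with hs
  have hmem : ∀ x : K, (x = u ∨ x = v) → Φ x ∈ lat k (fun i : S => F i.1) (-(s : ℤ)) := by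
    intro x hx i
    refine val_mem_iff.mpr ?_
    show Valued.v (φ i.1 x) ≤ _
    rw [(hφ i.1).1, neg_neg]
    rcases eq_or_ne x 0 with rfl | hx0
    · simp
    rw [le_exp_iff i.1 hx0]
    have h1 : (i.1.ord u).natAbs + (i.1.ord v).natAbs ≤ s :=
      Finset.single_le_sum (f := fun P : Place k K => (P.ord u).natAbs + (P.ord v).natAbs)
        (fun _ _ => Nat.zero_le _) i.2
    rcases hx with rfl | rfl <;> omega
  have hinj : R ⊓ lat k (fun i : S => F i.1) M = ⊥ := by
    rw [eq_bot_iff]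
    rintro _ ⟨⟨z, hz, rfl⟩, hzM⟩
    rw [Submodule.mem_bot]
    let D : Divisor k K := Finsupp.indicator S fun _ _ => -(M : ℤ)
    have hzL : z ∈ L D := fun P => by
      by_cases hP : P ∈ S
      · simp only [D, Finsupp.indicator_of_mem hP]
        rw [← (hφ P).1]
        exact val_mem_iff.mp (hzM ⟨P, hP⟩)
      · simp only [D, Finsupp.indicator_of_notMem hP, exp_zero]
        exact hz P hP
    have hneg : D.deg < 0 := by
      have h1 : D ≤ Finsupp.single P₀ (-1) := fun P => by
        by_cases hP : P ∈ S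
        · simp only [D, Finsupp.indicator_of_mem hP, Finsupp.single_apply]
          split_ifs <;> omega
        · simp only [D, Finsupp.indicator_of_notMem hP]
          rw [Finsupp.single_eq_of_ne (fun e => hP (by rw [e]; exact Finset.mem_insert_self _ _))]
      have h2 := deg_nonneg (sub_nonneg.2 h1)
      rw [deg_sub, deg_single] at h2
      have : (1 : ℤ) ≤ P₀.deg := by exact_mod_cast deg_pos hK P₀
      omega
    rw [ell_eq_zero_of_deg_neg hK hneg, Submodule.mem_bot] at hzL
    rw [hzL, map_zero]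
  have hsup : R ⊔ lat k (fun i : S => F i.1) (-(M : ℤ)) = ⊤ := by
    have hdelta : delta D₀ = genus k K := hD₀
    obtain ⟨hf, hidx⟩ := adele_idx hK D₀
    rw [hdelta, sub_self] at hidx
    have hss : Subsingleton (↥(adele k K) ⧸ ADK D₀) := Module.finrank_zero_iff.1 (by exact_mod_cast hidx)
    rw [Submodule.Quotient.subsingleton_iff] at hss
    rw [eq_top_iff]
    intro x _
    have hz : ∀ i : S, ∃ z : K, ∀ n < -(M : ℤ), (x i - φ i.1 z).coeff n = 0 := fun i => dense (hφ i.1) (x i) _
    choose z hz using hz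
    let a : Place k K → K := fun P => if h : P ∈ S then z ⟨P, h⟩ else 0
    have ha : a ∈ adele k K := Filter.eventually_cofinite.2 (S.finite_toSet.subset fun P hP => by
      by_contra h
      exact hP (show P.1 (a P) ≤ 1 by simp [a, show P ∉ S from h]))
    have hamem : (⟨a, ha⟩ : adele k K) ∈ ADK D₀ := hss ▸ Submodule.mem_top
    obtain ⟨b, hb, _, ⟨c, rfl⟩, habc⟩ := Submodule.mem_sup.1 hamem
    have habc' : ∀ P, b P + c = a P := fun P => congrFun habc P
    have hcS : ∀ P ∉ S, P.1 c ≤ 1 := fun P hP => by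
      have h0 : b P + c = 0 := (habc' P).trans (by simp [a, hP])
      rw [show c = -b P by linear_combination h0, Valuation.map_neg]
      exact (hb P).trans_eq (by rw [(hout P hP).2.2, exp_zero])
    rw [show x = Φ c + (x - Φ c) by abel]
    refine Submodule.add_mem_sup ⟨c, hcS, rfl⟩ fun i n hn => ?_
    show (x i - φ i.1 c).coeff n = 0
    have h1 : a i.1 = z i := by simp [a, i.2]
    have h2 : φ i.1 c = φ i.1 (z i) - φ i.1 (b i.1) := by rw [← h1, ← habc', map_add, add_sub_cancel_left]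
    rw [h2, sub_sub_eq_add_sub, add_comm, add_sub_assoc, HahnSeries.coeff_add, hz i n hn, add_zero]
    refine val_mem_iff.mpr ?_ n hn
    rw [(hφ i.1).1, neg_neg]
    refine (hb i.1).trans (exp_le_exp.2 ?_)
    have := Finset.single_le_sum (f := fun P : Place k K => (D₀ P).natAbs) (fun _ _ => Nat.zero_le _) i.2
    omega
  have hB : IsFilt (lat k fun i : S => F i.1) := isFilt_lat
  have key := wtr_commutator_eq_zero hB R (piPos k fun i : S => F i.1) piPos_mem (fun x hx => piPos_eq hx)
    (mulV k (Φ u)) (mulV k (Φ v)) s (fun a x hx => mulLeft_mem (hmem u (Or.inl rfl)) hx)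
    (fun a x hx => mulLeft_mem (hmem v (Or.inr rfl)) hx)
    (fun x => by simp only [mulV_apply, ← mul_assoc, mul_comm (Φ u)])
    (hstab u fun P hP => (hout P hP).1) (hstab v fun P hP => (hout P hP).2.1) M hinj hsup (N := 2 * s) le_rfl
  have hw := wtr_comm (N := 2 * s) (s := s) le_rfl (hmem u (Or.inl rfl)) (hmem v (Or.inr rfl))
  rw [comm, key] at hw
  exact hw.symm

end Groth.Agent.FunFld.Residue
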