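import Groth.Agent.FunFld.Residue.LocalTrace
import Groth.Agent.FunFld.Residue.Thm
import Groth.Agent.FunFld.Ext.Lattice

/-! The residue of a trace is the sum of the residues over the places above. -/

set_option autoImplicit false
universe u v w

open WithZero _root_.FunFld
open scoped LaurentSeries

noncomputable section

attribute [-instance] IsLocalRing.instModuleResidueFieldOfAlgebra

namespace Groth.Agent.FunFld.Residue

variable {k : Type u} {K K' : Type v} [Field k] [Field K] [Field K'] [Algebra k K] [Algebra K K'] [Algebra k K']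
  [IsScalarTower k K K'] [FiniteDimensional K K'] {F : Type w} [Field F] [Algebra k F] [FiniteDimensional k F]

theorem locRes_trace_eq_sum (hK : IsFunctionField k K) {P : Place k K} {φ : K →ₐ[k] F⸨X⸩}
    (hφ : LocRes.IsExpansionAt P.1 φ) (Qs : Finset (Place k K')) (hQs : ∀ Q, Q ∈ Qs ↔ IsOver Q P)
    {G : Place k K' → Type w} [∀ Q, Field (G Q)] [∀ Q, Algebra k (G Q)] [∀ Q, FiniteDimensional k (G Q)]
    (ψ : ∀ Q, K' →ₐ[k] (G Q)⸨X⸩) (hψ : ∀ Q ∈ Qs, LocRes.IsExpansionAt Q.1 (ψ Q)) (y : K') (x : K) :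
    LocRes.locRes φ (Algebra.trace K K' y) x = ∑ Q ∈ Qs, LocRes.locRes (ψ Q) y (algebraMap K K' x) := by
  classical
  letI : Algebra P.O K' := ((algebraMap K K').comp P.O.subtype).toAlgebra
  haveI : IsScalarTower P.O K K' := IsScalarTower.of_algebraMap_eq fun _ => rfl
  obtain ⟨b, bK, hb⟩ := exists_basis (K' := K') hK P
  obtain ⟨t, ht⟩ := hφ.2.2
  have hψ' : ∀ i : Qs, LocRes.IsExpansionAt i.1.1 (ψ i.1) := fun i => hψ i.1 i.2
  rw [← Finset.sum_coe_sort]
  refine trace_res_compat φ (dense hφ) bK (fun i : Qs => ψ i.1) (fun w n => ?_) (fun z => ?_) t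
    (by rw [hφ.1, ht]) (fun i => ramIdx i.1 P)
    (fun i => IsOverWith.pos (isOverWith_of_isOver ((hQs i.1).1 i.2))) (fun i => ?_) y x
  · choose c hc using fun i : Qs => dense (hψ' i) (w i) n
    obtain ⟨z, hz⟩ := exists_approx Qs (fun R => if h : R ∈ Qs then c ⟨R, h⟩ else 0) (-n)
    refine ⟨z, fun i m hm => ?_⟩
    have h1 : Valued.v (ψ i.1 (z - c i)) ≤ exp (-n) := by
      rw [(hψ' i).1]
      simpa [i.2] using hz i.1 i.2
    have h2 : (ψ i.1 (z - c i)).coeff m = 0 := val_mem_iff.mpr h1 m hm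
    rw [map_sub, HahnSeries.coeff_sub, sub_eq_zero] at h2
    rw [HahnSeries.coeff_sub, h2, ← HahnSeries.coeff_sub]
    exact hc i m hm
  · constructor
    · intro h j
      have hz : z ∈ Bring hK P K' := fun Q hQ => by
        have h1 := h ⟨Q, (hQs Q).2 ((mem_placesOver hK).1 hQ)⟩
        rwa [(hψ' _).1] at h1
      have hz' : z = ∑ l, ((b.repr ⟨z, hz⟩ l : P.O) : K) • bK l := by
        conv_lhs => rw [show z = ((⟨z, hz⟩ : Bring hK P K') : K') from rfl, ← b.sum_repr ⟨z, hz⟩]
        rw [AddSubmonoidClass.coe_finsetSum]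
        exact Finset.sum_congr rfl fun l _ => by
          rw [Subalgebra.coe_smul, hb, ← algebraMap_smul K (b.repr ⟨z, hz⟩ l) ((b l : Bring hK P K') : K')]
          rfl
      rw [hz', bK.repr_sum_self, hφ.1]
      exact (b.repr ⟨z, hz⟩ j).2
    · intro h i
      rw [(hψ' i).1, ← bK.sum_repr z]
      refine Valuation.map_sum_le _ fun j _ => ?_
      rw [Algebra.smul_def, map_mul]
      refine mul_le_one' ((val_le_one_iff ((hQs i.1).1 i.2) _).2 (by rw [← hφ.1]; exact h j)) ?_
      rw [hb]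
      exact (mem_Bring hK P).1 (b j).2 i.1 ((mem_placesOver hK).2 ((hQs i.1).1 i.2))
  · rw [(hψ' i).1, isOverWith_of_isOver ((hQs i.1).1 i.2), ht, ← exp_nsmul, smul_neg, nsmul_eq_mul, mul_one]

end Groth.Agent.FunFld.Residue
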