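import Groth.Agent.FunFld.Residue.LocalTrace
import Groth.Agent.FunFld.Residue.Thm
import Groth.Agent.FunFld.Residue.RegularBasis
import Mathlib.RingTheory.Valuation.Extension
import Mathlib.LinearAlgebra.FreeModule.Finite.Basic

/-! The residue of a trace, for a finite extension of a complete discretely valued field. -/

set_option autoImplicit false
universe u v

open WithZero _root_.FunFld
open scoped LaurentSeries

noncomputable section

namespace Groth.Agent.FunFld.Residue

variable {K L : Type u} {F E : Type v} [Field K] [Field L] [Field F] [Field E] [Algebra K F] [Algebra F E]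
  [Algebra K E] [IsScalarTower K F E] [Algebra K L] [Algebra L E] [IsScalarTower K L E]

/-- A valuation with an expansion is a place. -/
def placeOf {k K₀ G : Type*} [Field k] [Field K₀] [Algebra k K₀] [Field G] [Algebra k G]
    (v : Valuation K₀ (WithZero (Multiplicative ℤ))) (φ : K₀ →ₐ[k] G⸨X⸩) (hφ : LocRes.IsExpansionAt v φ) :
    Place k K₀ :=
  ⟨v, fun c => by
    rw [← hφ.1, LocRes.map_algebraMap]
    have h : Valued.v (HahnSeries.C (algebraMap k G c) : G⸨X⸩) ≤ exp (-(0 : ℤ)) := val_mem_iff.mp fun n hn => by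
      rw [HahnSeries.C_apply, HahnSeries.coeff_single_of_ne (by omega)]
    rwa [neg_zero, exp_zero] at h, fun w => by
    rcases eq_or_ne w 0 with rfl | hw
    · exact ⟨0, map_zero v⟩
    · obtain ⟨t, ht⟩ := hφ.2.2
      refine ⟨t ^ (-log w), ?_⟩
      rw [map_zpow₀, ht, ← exp_zsmul, smul_eq_mul, neg_mul_neg, mul_one, exp_log hw]⟩

theorem trace_resExp_eq [FiniteDimensional F E] [FiniteDimensional K L]
    (v : Valuation F (WithZero (Multiplicative ℤ))) (w : Valuation E (WithZero (Multiplicative ℤ)))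
    [hvw : v.HasExtension w] (φ : F →ₐ[K] K⸨X⸩) (hφ : LocRes.IsExpansionAt v φ) (hφs : Function.Surjective φ)
    (ψ : E →ₐ[L] L⸨X⸩) (hψ : LocRes.IsExpansionAt w ψ) (x : F) (y : E) :
    Algebra.trace K L (LocRes.resExp ψ y (algebraMap F E x)) = LocRes.resExp φ (Algebra.trace F E y) x := by
  classical
  let P := placeOf v φ hφ
  let Q := placeOf w ψ hψ
  obtain ⟨t, ht⟩ := hφs (HahnSeries.single (1 : ℤ) (1 : K))
  have hvt : v t = exp (-1) := by
    rw [← hφ.1, ht, LaurentSeries.valuation_single_zpow]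
  have hle : ∀ a : F, w (algebraMap F E a) ≤ 1 ↔ v a ≤ 1 := fun a =>
    (Valuation.isEquiv_iff_val_le_one.1 hvw.val_isEquiv_comap).symm
  have hlt : ∀ a : F, w (algebraMap F E a) < 1 ↔ v a < 1 := fun a =>
    (Valuation.isEquiv_iff_val_lt_one.1 hvw.val_isEquiv_comap).symm
  have ht0 : t ≠ 0 := fun h => by rw [h, map_zero] at hvt; exact exp_ne_zero hvt.symm
  have hT0 : algebraMap F E t ≠ 0 := (_root_.map_ne_zero _).2 ht0
  obtain ⟨e, he, hte⟩ : ∃ e : ℕ, 1 ≤ e ∧ w (algebraMap F E t) = exp (-(e : ℤ)) := by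
    have h1 : w (algebraMap F E t) < 1 := (hlt t).2 (by rw [hvt, ← exp_zero, exp_lt_exp]; norm_num)
    have h0 : w (algebraMap F E t) ≠ 0 := w.ne_zero_iff.2 hT0
    rw [← exp_log h0, ← exp_zero, exp_lt_exp] at h1
    refine ⟨(-log (w (algebraMap F E t))).toNat, by omega, ?_⟩
    rw [Int.toNat_of_nonneg (by omega), neg_neg, exp_log h0]
  have hsmall : ∀ a : F, v a < 1 → w (algebraMap F E a) ≤ exp (-(e : ℤ)) := fun a ha => by
    have h1 : v (a / t) ≤ 1 := by
      rw [map_div₀, hvt, div_le_one₀ exp_pos]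
      exact (lt_one_iff_le P).1 ha
    rw [← div_mul_cancel₀ a ht0, map_mul, map_mul, hte]
    exact (mul_le_mul' ((hle _).2 h1) le_rfl).trans_eq (one_mul _)
  have hpow : ∀ (a : F) (n : ℕ), v a ≤ exp (-(n : ℤ)) → w (algebraMap F E a) ≤ exp (-((n : ℤ) * e)) :=
    fun a n ha => by
      have h1 : v (a / t ^ n) ≤ 1 := by
        rw [map_div₀, map_pow, hvt, ← exp_nsmul, div_le_one₀ exp_pos]
        simpa using ha
      rw [← div_mul_cancel₀ a (pow_ne_zero n ht0), map_mul, map_pow, map_mul, map_pow, hte, ← exp_nsmul]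
      refine (mul_le_mul' ((hle _).2 h1) le_rfl).trans_eq ?_
      rw [one_mul]; congr 1; simp
  obtain ⟨π, hπ⟩ := hψ.2.2
  have hπ0 : π ≠ 0 := fun h => by rw [h, map_zero] at hπ; exact exp_ne_zero hπ.symm
  have hπp : ∀ n : ℕ, w (π ^ n) = exp (-(n : ℤ)) := fun n => by rw [map_pow, hπ, ← exp_nsmul]; simp
  set ω := Module.finBasis K L
  set f := Module.finrank K L
  let b : Fin e × Fin f → E := fun ij => algebraMap L E (ω ij.2) * π ^ (ij.1 : ℕ)
  have hLle : ∀ l : L, w (algebraMap L E l) ≤ 1 := Q.2.1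
  have hb1 : ∀ ij, w (b ij) ≤ 1 := fun ij => by
    rw [map_mul, hπp]
    exact mul_le_one' (hLle _) (by rw [← exp_zero, exp_le_exp]; omega)
  have hKE : ∀ d : K, algebraMap F E (algebraMap K F d) = algebraMap L E (algebraMap K L d) := fun d => by
    rw [← IsScalarTower.algebraMap_apply, ← IsScalarTower.algebraMap_apply]
  have hc0 : ∀ l : L, (ψ (algebraMap L E l)).coeff 0 = l := fun l => by
    rw [LocRes.map_algebraMap, HahnSeries.C_apply, HahnSeries.coeff_single_same]; rfl
  have hclt : ∀ z : E, w z ≤ 1 → (ψ z).coeff 0 = 0 → w z < 1 := fun z hz h0 => by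
    rw [← hψ.1]
    refine lt_of_le_of_lt (val_mem_iff.mp fun n hn => ?_ : Valued.v (ψ z) ≤ exp (-(1 : ℤ)))
      (by rw [← exp_zero, exp_lt_exp]; norm_num)
    rcases eq_or_ne n 0 with rfl | hne
    · exact h0
    · exact val_mem_iff.mpr ((hψ.1 z).le.trans (hz.trans_eq (by rw [neg_zero, exp_zero]))) n (by omega)
  have hψF : ∀ c : F, v c ≤ 1 → (ψ (algebraMap F E c)).coeff 0 = algebraMap K L ((φ c).coeff 0) := fun c hc => by
    set d := (φ c).coeff 0
    have h1 : v (c - algebraMap K F d) < 1 := by
      rw [← hφ.1]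
      refine lt_of_le_of_lt (val_mem_iff.mp fun n hn => ?_ : Valued.v (φ (c - algebraMap K F d)) ≤ exp (-(1 : ℤ)))
        (by rw [← exp_zero, exp_lt_exp]; norm_num)
      rw [map_sub, LocRes.map_algebraMap, Algebra.algebraMap_self, RingHom.id_apply, HahnSeries.coeff_sub,
        HahnSeries.C_apply]
      rcases eq_or_ne n 0 with rfl | hne
      · rw [HahnSeries.coeff_single_same]; exact sub_self _
      · rw [HahnSeries.coeff_single_of_ne hne, sub_zero]
        exact val_mem_iff.mpr ((hφ.1 c).le.trans (hc.trans_eq (by rw [neg_zero, exp_zero]))) n (by omega)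
    have h2 := coeff_zero_eq (P := Q) hψ ((hlt _).2 h1)
    rw [map_sub, hKE, map_sub, HahnSeries.coeff_sub, hc0, sub_eq_zero] at h2
    exact h2
  have hindep : ∀ c : Fin e × Fin f → F, (∀ ij, v (c ij) ≤ 1) →
      w (∑ ij, algebraMap F E (c ij) * b ij) ≤ exp (-(e : ℤ)) → ∀ ij, v (c ij) < 1 := by
    intro c hc hsum
    suffices h : ∀ i : ℕ, ∀ ij : Fin e × Fin f, (ij.1 : ℕ) = i → v (c ij) < 1 from fun ij => h _ ij rfl
    intro i
    induction i using Nat.strong_induction_on with
    | _ i ih =>
      rintro ⟨i', j⟩ (hi : (i' : ℕ) = i)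
      subst hi
      set S := ∑ j, algebraMap F E (c (i', j)) * algebraMap L E (ω j) with hS
      have hrest : w (∑ a ∈ Finset.univ.erase i', ∑ j, algebraMap F E (c (a, j)) * b (a, j)) ≤
          exp (-((i' : ℕ) + 1 : ℤ)) := by
        refine Valuation.map_sum_le _ fun a ha => Valuation.map_sum_le _ fun j _ => ?_
        rw [map_mul]
        rcases lt_or_gt_of_ne (Fin.val_ne_of_ne (Finset.ne_of_mem_erase ha)) with h | h
        · refine (mul_le_mul' (hsmall _ (ih _ h (a, j) rfl)) (hb1 _)).trans ?_
          rw [mul_one, exp_le_exp]; omega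
        · refine (mul_le_mul' ((hle _).2 (hc _)) le_rfl).trans ?_
          rw [one_mul, map_mul, hπp]
          refine (mul_le_mul' (hLle _) le_rfl).trans ?_
          rw [one_mul, exp_le_exp]; dsimp only; omega
      rw [Fintype.sum_prod_type, ← Finset.add_sum_erase _ _ (Finset.mem_univ i')] at hsum
      have hS1 : w (S * π ^ (i' : ℕ)) ≤ exp (-((i' : ℕ) + 1 : ℤ)) := by
        have e1 : S * π ^ (i' : ℕ) = (∑ j, algebraMap F E (c (i', j)) * b (i', j) +
            ∑ a ∈ Finset.univ.erase i', ∑ j, algebraMap F E (c (a, j)) * b (a, j)) -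
            ∑ a ∈ Finset.univ.erase i', ∑ j, algebraMap F E (c (a, j)) * b (a, j) := by
          rw [add_sub_cancel_right, hS, Finset.sum_mul]
          exact Finset.sum_congr rfl fun j _ => by simp only [b]; ring
        rw [e1]
        refine (w.map_sub _ _).trans (max_le (hsum.trans ?_) hrest)
        rw [exp_le_exp]; omega
      have hS2 : w S < 1 := by
        rw [map_mul, hπp, ← mul_le_mul_iff_left₀ (exp_pos (a := ((i' : ℕ) : ℤ))), mul_assoc, ← exp_add,
          ← exp_add, neg_add_cancel, exp_zero, mul_one] at hS1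
        refine hS1.trans_lt ?_
        rw [← exp_zero, exp_lt_exp]; omega
      have h0 : ∑ j, (φ (c (i', j))).coeff 0 • ω j = 0 := by
        have h1 := coeff_zero_eq (P := Q) hψ hS2
        rw [hS, map_sum, HahnSeries.coeff_sum] at h1
        rw [← h1]
        refine Finset.sum_congr rfl fun j _ => ?_
        rw [map_mul, coeff_zero_mul (val_mem_iff.mpr (by rw [hψ.1, neg_zero, exp_zero]; exact (hle _).2 (hc _)))
          (val_mem_iff.mpr (by rw [hψ.1, neg_zero, exp_zero]; exact hLle _)), hψF _ (hc _), hc0, Algebra.smul_def]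
      have h2 := Fintype.linearIndependent_iff.1 ω.linearIndependent _ h0 j
      rw [← hφ.1]
      refine lt_of_le_of_lt (val_mem_iff.mp fun n hn => ?_ : Valued.v (φ (c (i', j))) ≤ exp (-(1 : ℤ)))
        (by rw [← exp_zero, exp_lt_exp]; norm_num)
      rcases eq_or_ne n 0 with rfl | hne
      · exact h2
      · exact val_mem_iff.mpr ((hφ.1 _).le.trans ((hc _).trans_eq (by rw [neg_zero, exp_zero]))) n (by omega)
  have hint : ∀ c : Fin e × Fin f → F, w (∑ ij, algebraMap F E (c ij) * b ij) ≤ 1 → ∀ ij, v (c ij) ≤ 1 := by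
    intro c hw
    by_contra hcon
    push Not at hcon
    obtain ⟨i₀, hi₀⟩ := hcon
    obtain ⟨m, -, hm⟩ := Finset.exists_max_image Finset.univ (fun ij => v (c ij)) ⟨i₀, Finset.mem_univ _⟩
    have hm1 : 1 < v (c m) := hi₀.trans_le (hm i₀ (Finset.mem_univ _))
    have hm0 : c m ≠ 0 := fun h => by rw [h, map_zero] at hm1; exact not_lt_zero hm1
    have h := hindep (fun ij => (c m)⁻¹ * c ij) (fun ij => by
      rw [map_mul, map_inv₀, inv_mul_le_one₀ (lt_trans zero_lt_one hm1)]; exact hm ij (Finset.mem_univ _)) ?_ m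
    · rw [map_mul, map_inv₀, inv_mul_cancel₀ (v.ne_zero_iff.2 hm0)] at h
      exact lt_irrefl _ h
    · rw [show ∑ ij, algebraMap F E ((c m)⁻¹ * c ij) * b ij =
        algebraMap F E (c m)⁻¹ * ∑ ij, algebraMap F E (c ij) * b ij by
          rw [Finset.mul_sum]; exact Finset.sum_congr rfl fun ij _ => by rw [map_mul]; ring, map_mul]
      refine (mul_le_mul' (hsmall _ ?_) hw).trans_eq (mul_one _)
      rw [map_inv₀]; exact inv_lt_one_of_one_lt₀ hm1
  have hli : LinearIndependent F b := by
    rw [Fintype.linearIndependent_iff]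
    intro c hc
    simp only [Algebra.smul_def] at hc
    by_contra hcon
    push Not at hcon
    obtain ⟨i₀, hi₀⟩ := hcon
    obtain ⟨r, hr⟩ : ∃ r : ℕ, exp (-(r : ℤ)) < v (c i₀) := by
      refine ⟨(1 - log (v (c i₀))).toNat, ?_⟩
      conv_rhs => rw [← exp_log (v.ne_zero_iff.2 hi₀)]
      rw [exp_lt_exp]; omega
    have h := hint (fun ij => (t ^ r)⁻¹ * c ij) (by
      rw [show ∑ ij, algebraMap F E ((t ^ r)⁻¹ * c ij) * b ij =
        algebraMap F E (t ^ r)⁻¹ * ∑ ij, algebraMap F E (c ij) * b ij by
          rw [Finset.mul_sum]; exact Finset.sum_congr rfl fun ij _ => by rw [map_mul]; ring, hc]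
      simp) i₀
    rw [map_mul, map_inv₀, map_pow, hvt, ← exp_nsmul, inv_mul_le_one₀ exp_pos] at h
    exact absurd h (not_le.2 (by simpa using hr))
  -- expansion in the powers of `t`
  have hstep : ∀ (q : ℕ) (z : E), w z ≤ exp (-((q : ℤ) * e)) → ∃ d : Fin e × Fin f → K,
      w (z - algebraMap F E t ^ q * ∑ ij, algebraMap F E (algebraMap K F (d ij)) * b ij) ≤
        exp (-(((q + 1 : ℕ) : ℤ) * e)) := by
    intro q z hz
    suffices h : ∀ i : ℕ, i ≤ e → ∃ d : Fin e × Fin f → K,
        w (z - algebraMap F E t ^ q * ∑ ij, algebraMap F E (algebraMap K F (d ij)) * b ij) ≤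
          exp (-((q : ℤ) * e + i)) by
      obtain ⟨d, hd⟩ := h e le_rfl
      exact ⟨d, hd.trans (exp_le_exp.2 (by push_cast; ring_nf; omega))⟩
    intro i hi
    induction i with
    | zero => exact ⟨0, by simpa using hz⟩
    | succ i ih =>
      obtain ⟨d, hd⟩ := ih (by omega)
      set r := z - algebraMap F E t ^ q * ∑ ij, algebraMap F E (algebraMap K F (d ij)) * b ij with hr
      set u := r / (algebraMap F E t ^ q * π ^ i) with hu
      have hne : algebraMap F E t ^ q * π ^ i ≠ 0 := mul_ne_zero (pow_ne_zero _ hT0) (pow_ne_zero _ hπ0)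
      have hden : w (algebraMap F E t ^ q * π ^ i) = exp (-((q : ℤ) * e + i)) := by
        rw [map_mul, map_pow, hte, hπp, ← exp_nsmul, ← exp_add]; congr 1; simp; ring
      have hu1 : w u ≤ 1 := by rw [map_div₀, hden, div_le_one₀ exp_pos]; exact hd
      set l := (ψ u).coeff 0
      have hu2 : w (u - algebraMap L E l) < 1 := hclt _ ((w.map_sub _ _).trans (max_le hu1 (hLle _))) (by
        rw [map_sub, HahnSeries.coeff_sub, hc0, sub_self])
      let a : Fin e × Fin f → K := fun ij => if (ij.1 : ℕ) = i then ω.repr l ij.2 else 0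
      refine ⟨fun ij => d ij + a ij, ?_⟩
      have hsum : ∑ ij, algebraMap F E (algebraMap K F (a ij)) * b ij = algebraMap L E l * π ^ i := by
        rw [Fintype.sum_prod_type, Finset.sum_eq_single (⟨i, by omega⟩ : Fin e)]
        · conv_rhs => rw [← ω.sum_repr l]
          rw [map_sum, Finset.sum_mul]
          exact Finset.sum_congr rfl fun j _ => by
            simp only [a, if_true, b, hKE, Algebra.smul_def, map_mul]
            ring
        · intro i' _ hne'
          refine Finset.sum_eq_zero fun j _ => ?_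
          have hi' : (i' : ℕ) ≠ i := fun h => hne' (Fin.ext h)
          simp [a, hi']
        · exact fun h => absurd (Finset.mem_univ _) h
      have e1 : z - algebraMap F E t ^ q * ∑ ij, algebraMap F E (algebraMap K F (d ij + a ij)) * b ij =
          (algebraMap F E t ^ q * π ^ i) * (u - algebraMap L E l) := by
        simp only [map_add, add_mul, Finset.sum_add_distrib, hsum]
        rw [mul_sub, hu, mul_div_cancel₀ _ hne, hr]
        ring
      rw [e1, map_mul, hden]
      refine (mul_le_mul' le_rfl ((lt_one_iff_le Q).1 hu2)).trans ?_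
      rw [← exp_add, exp_le_exp]; push_cast; omega
  choose d hd using hstep
  have hspan1 : ∀ z : E, w z ≤ 1 → ∃ c : Fin e × Fin f → F, (∀ ij, v (c ij) ≤ 1) ∧
      z = ∑ ij, algebraMap F E (c ij) * b ij := by
    intro z hz
    let seq : ∀ q : ℕ, {r : E // w r ≤ exp (-((q : ℤ) * e))} := fun q =>
      Nat.rec ⟨z, by simpa using hz⟩ (fun q r => ⟨_, hd q r.1 r.2⟩) q
    let D : Fin e × Fin f → ℕ → K := fun ij q => d q (seq q).1 (seq q).2 ij
    choose c hc using fun ij => hφs ((PowerSeries.mk (D ij) : PowerSeries K) : K⸨X⸩)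
    refine ⟨c, fun ij => ?_, ?_⟩
    · rw [← hφ.1, hc]
      exact (LaurentSeries.val_le_one_iff_eq_coe _ _).2 ⟨_, rfl⟩
    · have hpart : ∀ N : ℕ, z - (seq N).1 =
          ∑ ij, algebraMap F E (∑ q ∈ Finset.range N, algebraMap K F (D ij q) * t ^ q) * b ij := by
        intro N
        induction N with
        | zero => simp [seq]
        | succ N ih =>
          have e2 : (seq (N + 1)).1 = (seq N).1 - algebraMap F E t ^ N *
              ∑ ij, algebraMap F E (algebraMap K F (D ij N)) * b ij := rfl
          rw [e2, ← sub_add, ih, Finset.mul_sum, ← Finset.sum_add_distrib]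
          refine Finset.sum_congr rfl fun ij _ => ?_
          rw [Finset.sum_range_succ, map_add, add_mul, map_mul _ (algebraMap K F _), map_pow]
          ring
      have hbound : ∀ N : ℕ, w (z - ∑ ij, algebraMap F E (c ij) * b ij) ≤ exp (-((N : ℤ) * e)) := by
        intro N
        rw [show z - ∑ ij, algebraMap F E (c ij) * b ij = (seq N).1 -
          ∑ ij, algebraMap F E (c ij - ∑ q ∈ Finset.range N, algebraMap K F (D ij q) * t ^ q) * b ij by
            simp only [map_sub, sub_mul, Finset.sum_sub_distrib, ← hpart N]; ring]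
        refine (w.map_sub _ _).trans (max_le (seq N).2 (Valuation.map_sum_le _ fun ij _ => ?_))
        rw [map_mul]
        refine (mul_le_mul' (hpow _ N ?_) (hb1 _)).trans_eq (mul_one _)
        rw [← hφ.1]
        refine val_mem_iff.mp fun n hn => ?_
        rw [map_sub, hc, map_sum, HahnSeries.coeff_sub, HahnSeries.coeff_sum, sub_eq_zero]
        have hterm : ∀ q : ℕ, φ (algebraMap K F (D ij q) * t ^ q) = HahnSeries.single (q : ℤ) (D ij q) := fun q => by
          rw [map_mul, map_pow, ht, LocRes.map_algebraMap, Algebra.algebraMap_self, RingHom.id_apply,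
            HahnSeries.single_pow, HahnSeries.C_apply, HahnSeries.single_mul_single]
          simp
        simp only [hterm]
        by_cases hn0 : 0 ≤ n
        · obtain ⟨n, rfl⟩ := Int.eq_ofNat_of_zero_le hn0
          rw [Finset.sum_eq_single n (fun q _ hq => HahnSeries.coeff_single_of_ne (by omega))
            (fun h => absurd (Finset.mem_range.2 (by omega)) h), HahnSeries.coeff_single_same]
          rw [LaurentSeries.coeff_coe_powerSeries, PowerSeries.coeff_mk]
        · rw [Finset.sum_eq_zero fun q _ => HahnSeries.coeff_single_of_ne (by omega)]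
          exact val_mem_iff.mpr (((LaurentSeries.val_le_one_iff_eq_coe _ _).2 ⟨_, rfl⟩).trans_eq
            (by rw [neg_zero, exp_zero])) n (by omega)
      by_contra hne
      have h0 : w (z - ∑ ij, algebraMap F E (c ij) * b ij) ≠ 0 := w.ne_zero_iff.2 (sub_ne_zero.2 hne)
      have h := hbound ((-log (w (z - ∑ ij, algebraMap F E (c ij) * b ij))).toNat + 1)
      replace h := exp_le_exp.1 ((exp_log h0).le.trans h)
      push_cast at h
      set T := -log (w (z - ∑ ij, algebraMap F E (c ij) * b ij)) with hT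
      have h2 : ((T.toNat : ℤ) + 1) ≤ ((T.toNat : ℤ) + 1) * (e : ℤ) :=
        le_mul_of_one_le_right (by omega) (by exact_mod_cast he)
      omega
  have hspan : ⊤ ≤ Submodule.span F (Set.range b) := by
    intro z _
    rcases eq_or_ne z 0 with rfl | hz0
    · exact zero_mem _
    set N := (log (w z)).toNat
    obtain ⟨c, -, hc⟩ := hspan1 (algebraMap F E (t ^ N) * z) (by
      rw [map_mul, map_pow, map_pow, hte, ← exp_log (w.ne_zero_iff.2 hz0), ← exp_nsmul, ← exp_add, ← exp_zero,
        exp_le_exp, nsmul_eq_mul, mul_neg]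
      have h1 : log (w z) ≤ (N : ℤ) := Int.self_le_toNat _
      have h2 : (N : ℤ) ≤ (N : ℤ) * e := le_mul_of_one_le_right (by omega) (by exact_mod_cast he)
      omega)
    refine Submodule.mem_span_range_iff_exists_fun F |>.2 ⟨fun ij => (t ^ N)⁻¹ * c ij, ?_⟩
    simp only [Algebra.smul_def]
    rw [show ∑ ij, algebraMap F E ((t ^ N)⁻¹ * c ij) * b ij = algebraMap F E (t ^ N)⁻¹ * ∑ ij, algebraMap F E (c ij) * b ij by
      rw [Finset.mul_sum]; exact Finset.sum_congr rfl fun ij _ => by rw [map_mul]; ring, ← hc, map_inv₀,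
      inv_mul_cancel_left₀ ((_root_.map_ne_zero _).2 (pow_ne_zero _ ht0))]
  let B := (Module.Basis.mk hli hspan).reindex (Fintype.equivFin _)
  let ψ' : E →ₐ[K] L⸨X⸩ :=
    { ψ.toRingHom with
      commutes' := fun d => by
        show ψ (algebraMap K E d) = _
        rw [IsScalarTower.algebraMap_apply K L E, LocRes.map_algebraMap, HahnSeries.algebraMap_apply',
          PowerSeries.algebraMap_apply, HahnSeries.ofPowerSeries_C]
        rfl }
  have key := trace_res_compat (k := K) φ (dense (P := P) hφ) B (fun _ : Unit => ψ') (fun z n => ?_) (fun z => ?_) t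
    (by rw [hφ.1, hvt]) (fun _ => e) (fun _ => he) (fun _ => (hψ.1 _).trans hte) y x
  · simp only [Finset.univ_unique, Finset.sum_singleton, LocRes.locRes, Algebra.trace_self_apply] at key
    exact key.symm
  · obtain ⟨s, hs⟩ := dense (P := Q) hψ (z ()) n
    exact ⟨s, fun _ => hs⟩
  · have hz : z = ∑ ij, algebraMap F E ((Module.Basis.mk hli hspan).repr z ij) * b ij := by
      conv_lhs => rw [← (Module.Basis.mk hli hspan).sum_repr z]
      exact Finset.sum_congr rfl fun ij _ => by rw [Algebra.smul_def, Module.Basis.mk_apply]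
    constructor
    · intro h j
      rw [hφ.1, show B.repr z j = (Module.Basis.mk hli hspan).repr z ((Fintype.equivFin _).symm j) by
        simp [B, Module.Basis.repr_reindex]]
      exact hint _ (hz ▸ (hψ.1 z).ge.trans (h ())) _
    · intro h _
      show Valued.v (ψ z) ≤ 1
      rw [hψ.1, hz]
      refine Valuation.map_sum_le _ fun ij _ => ?_
      rw [map_mul]
      refine mul_le_one' ((hle _).2 ?_) (hb1 _)
      have := h (Fintype.equivFin _ ij)
      rw [hφ.1] at this
      simpa [B, Module.Basis.repr_reindex] using this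

end Groth.Agent.FunFld.Residue
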