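import Groth.Agent.FunFld.Residue.Separable

/-!
The Weil differential of a Kähler differential, and its consequences.
-/

set_option autoImplicit false
universe u v w

open WithZero _root_.FunFld
open scoped LaurentSeries

noncomputable section

namespace Groth.Agent.FunFld.Residue

variable {k : Type u} {K : Type v} [Field k] [Field K] [Algebra k K] {F : Type w} [Field F] [Algebra k F]

theorem locRes_add (φ : K →ₐ[k] F⸨X⸩) (a b x : K) :
    LocRes.locRes φ (a + b) x = LocRes.locRes φ a x + LocRes.locRes φ b x := by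
  simp only [LocRes.locRes, LocRes.resExp, map_add, add_mul]

theorem locRes_smul (φ : K →ₐ[k] F⸨X⸩) (c : k) (a x : K) :
    LocRes.locRes φ (c • a) x = c * LocRes.locRes φ a x := by
  rw [LocRes.locRes, LocRes.locRes, LocRes.resExp, LocRes.resExp, LocRes.res_apply, LocRes.res_apply,
    Algebra.smul_def, map_mul, LocRes.map_algebraMap, mul_assoc, ← smul_eq_C_mul, coeff_smul', map_smul, smul_eq_mul]

theorem locRes_eq_zero_of_val {P : Place k K} {φ : K →ₐ[k] F⸨X⸩} (hφ : LocRes.IsExpansionAt P.1 φ) {b u x : K}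
    {e : ℤ} (hb : P.1 b ≤ exp e) (hg : LocRes.vDiff φ u x ≤ exp (-e)) : LocRes.locRes φ (b * u) x = 0 := by
  rw [LocRes.locRes, LocRes.resExp, LocRes.res_apply, map_mul, mul_assoc,
    coeff_mul_eq_zero (a := -e) (b := e) (fun n hn => ?_) (fun n hn => ?_) (by omega), map_zero]
  · exact val_mem_iff.mpr (by rw [hφ.1, neg_neg]; exact hb) n hn
  · exact val_mem_iff.mpr hg n hn

variable (hK : IsFunctionField k K) (hg : IsGeometric k K) {Fs : Place k K → Type w} [∀ P, Field (Fs P)]
  [∀ P, Algebra k (Fs P)] [∀ P, FiniteDimensional k (Fs P)] (φ : ∀ P, K →ₐ[k] (Fs P)⸨X⸩)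
  (hφ : ∀ P, LocRes.IsExpansionAt P.1 (φ P))

include hK hφ in
theorem finite_locRes_adele (a : adele k K) (u x : K) :
    (Function.support fun P => LocRes.locRes (φ P) ((a : Place k K → K) P * u) x).Finite := by
  have ha := smul_mem_adele hK u a.2
  refine ((Filter.eventually_cofinite.1 ha).union (finite_support hK x)).subset fun P hP => ?_
  simp only [Set.mem_union, Set.mem_ofPred_eq, Function.mem_support]
  by_contra h
  rw [not_or, not_not, not_not] at h
  refine hP ?_
  show Algebra.trace k (Fs P) (LocRes.resExp (φ P) ((a : Place k K → K) P * u) x) = 0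
  rw [resExp_eq_zero (hφ P) ?_ ?_, map_zero]
  · rw [mul_comm]; exact h.1
  · rcases eq_or_ne x 0 with rfl | hx
    · simp
    · exact (ord_nonneg_iff P hx).1 h.2.ge

/-- The functional `a ↦ ∑ Res_P (a_P u dx)`. -/
def resForm (u x : K) : Module.Dual k (adele k K) where
  toFun a := ∑ᶠ P, LocRes.locRes (φ P) ((a : Place k K → K) P * u) x
  map_add' a b := by
    rw [← finsum_add_distrib (finite_locRes_adele hK φ hφ a u x) (finite_locRes_adele hK φ hφ b u x)]
    refine finsum_congr fun P => ?_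
    rw [Submodule.coe_add, Pi.add_apply, add_mul, locRes_add]
  map_smul' c a := by
    rw [RingHom.id_apply, smul_eq_mul, mul_finsum' _ _ (finite_locRes_adele hK φ hφ a u x)]
    refine finsum_congr fun P => ?_
    rw [Submodule.coe_smul, Pi.smul_apply, Algebra.smul_mul_assoc, locRes_smul]

theorem resForm_apply (u x : K) (a : adele k K) :
    resForm hK φ hφ u x a = ∑ᶠ P, LocRes.locRes (φ P) ((a : Place k K → K) P * u) x := rfl

theorem resForm_mem_WD {u x : K} {E : Divisor k K} (h : ∀ P, LocRes.vDiff (φ P) u x ≤ exp (-E P)) :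
    resForm hK φ hφ u x ∈ WD E := by
  rw [mem_WD_iff]
  intro a ha
  obtain ⟨b, hb, _, ⟨c, rfl⟩, hbc⟩ := Submodule.mem_sup.1 ha
  rw [resForm_apply]
  have hs : ∀ P, LocRes.locRes (φ P) ((a : Place k K → K) P * u) x = LocRes.locRes (φ P) (c * u) x := fun P => by
    rw [← hbc]
    show LocRes.locRes (φ P) ((b P + c) * u) x = _
    rw [add_mul, locRes_add, locRes_eq_zero_of_val (hφ P) (hb P) (h P), zero_add]
  rw [finsum_congr hs]
  exact (sum_locRes hK φ hφ (c * u) x).2

include hg in
theorem resForm_local {u x : K} (hu : u ≠ 0) (hx : KaehlerDifferential.D k K x ≠ 0) (P : Place k K) :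
    ∃ a : adele k K, (∀ E : Divisor k K, LocRes.ordDiff (φ P) u x + 1 ≤ E P → (a : Place k K → K) ∈ AD E) ∧
      resForm hK φ hφ u x a ≠ 0 := by
  classical
  obtain ⟨-, z, hz, hne⟩ := exists_locRes_ne_zero hK hg (hφ P) hu hx
  let a : Place k K → K := Pi.single P z
  have haE : ∀ E : Divisor k K, LocRes.ordDiff (φ P) u x + 1 ≤ E P → a ∈ AD E := fun E hE Q => by
    rcases eq_or_ne Q P with rfl | h
    · simp only [a, Pi.single_eq_same]; exact hz.trans (exp_le_exp.2 hE)
    · simp [a, Pi.single_eq_of_ne h]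
  have ha : a ∈ adele k K :=
    AD_le_adele _ (haE (Finsupp.single P (LocRes.ordDiff (φ P) u x + 1)) (by rw [Finsupp.single_eq_same]))
  refine ⟨⟨a, ha⟩, haE, ?_⟩
  rw [resForm_apply, finsum_eq_single _ P fun Q hQ => ?_]
  · simpa [a] using hne
  · simp only [a, Pi.single_eq_of_ne hQ, zero_mul]
    simp [LocRes.locRes, LocRes.resExp]

include hg in
theorem resForm_ne_zero {u x : K} (hu : u ≠ 0) (hx : KaehlerDifferential.D k K x ≠ 0) :
    resForm hK φ hφ u x ≠ 0 := fun h0 => by
  obtain ⟨P⟩ := exists_place_any hK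
  obtain ⟨a, -, ha⟩ := resForm_local hK hg φ hφ hu hx P
  exact ha (by rw [h0, LinearMap.zero_apply])

include hg in
theorem le_of_resForm_mem_WD {u x : K} (hu : u ≠ 0) (hx : KaehlerDifferential.D k K x ≠ 0) {E : Divisor k K}
    (hE : resForm hK φ hφ u x ∈ WD E) (P : Place k K) : E P ≤ LocRes.ordDiff (φ P) u x := by
  by_contra h
  obtain ⟨a, haE, ha⟩ := resForm_local hK hg φ hφ hu hx P
  exact ha ((mem_WD_iff.1 hE) a (Submodule.mem_sup_left (haE E (by omega))))

include hK hg hφ in
theorem vDiff_ne_zero {u x : K} (hu : u ≠ 0) (hx : KaehlerDifferential.D k K x ≠ 0) (P : Place k K) :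
    LocRes.vDiff (φ P) u x ≠ 0 := (exists_locRes_ne_zero hK hg (hφ P) hu hx).1

include hK hg hφ in
theorem vDiff_le_iff {u x : K} (hu : u ≠ 0) (hx : KaehlerDifferential.D k K x ≠ 0) (P : Place k K) (n : ℤ) :
    LocRes.vDiff (φ P) u x ≤ exp (-n) ↔ n ≤ LocRes.ordDiff (φ P) u x := by
  rw [LocRes.ordDiff, ← log_le_iff_le_exp (vDiff_ne_zero hK hg φ hφ hu hx P)]
  omega

theorem isWeil_resForm (u x : K) : IsWeil (resForm hK φ hφ u x) := by
  classical
  have hfin : (Function.support fun P : Place k K => min (0 : ℤ) (-(LocRes.vDiff (φ P) u x).log)).Finite := by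
    refine ((finite_support hK u).union (finite_support hK x)).subset fun P hP => ?_
    simp only [Set.mem_union, Function.mem_support]
    by_contra h
    rw [not_or, not_not, not_not] at h
    refine hP (min_eq_left ?_)
    have hle : ∀ y : K, P.ord y = 0 → Valued.v (φ P y) ≤ exp (-(0 : ℤ)) := fun y hy => by
      rw [(hφ P).1, neg_zero, exp_zero]
      rcases eq_or_ne y 0 with rfl | h0
      · simp
      · exact (ord_nonneg_iff P h0).1 hy.ge
    have h1 : LocRes.vDiff (φ P) u x ≤ exp (-(0 : ℤ)) := by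
      rw [LocRes.vDiff, map_mul, neg_zero, exp_zero]
      refine mul_le_one' (by simpa using hle u h.1) ?_
      have := val_mem_iff.mpr (hle x h.2)
      rw [← exp_zero, show (0 : ℤ) = -0 by ring]
      refine val_mem_iff.mp fun n hn => ?_
      rw [LocRes.D_coeff]
      rcases eq_or_ne (n + 1) 0 with h' | h'
      · rw [h', zero_smul]
      · rw [this _ (by omega), smul_zero]
    rcases eq_or_ne (LocRes.vDiff (φ P) u x) 0 with h0 | h0
    · rw [h0, log_zero, neg_zero]
    · rw [← log_le_iff_le_exp h0] at h1; omega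
  refine ⟨Finsupp.ofSupportFinite _ hfin, resForm_mem_WD hK φ hφ fun P => ?_⟩
  rw [Finsupp.ofSupportFinite_coe]
  rcases eq_or_ne (LocRes.vDiff (φ P) u x) 0 with h0 | h0
  · rw [h0]; exact zero_le
  · rw [← log_le_iff_le_exp h0]; omega

include hg in
theorem exists_div_resForm {u x : K} (hu : u ≠ 0) (hx : KaehlerDifferential.D k K x ≠ 0) :
    ∃ C : Divisor k K, (∀ P, C P = LocRes.ordDiff (φ P) u x) ∧ IsDivOf (resForm hK φ hφ u x) C := by
  classical
  obtain ⟨C, hC⟩ := exists_isDivOf hK (isWeil_resForm hK φ hφ u x) (resForm_ne_zero hK hg φ hφ hu hx)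
  have hle := le_of_resForm_mem_WD hK hg φ hφ hu hx ((hC C).2 le_rfl)
  refine ⟨C, fun P => le_antisymm (hle P) ?_, hC⟩
  set E := C + Finsupp.single P (LocRes.ordDiff (φ P) u x - C P) with hE
  have hEC : E ≤ C := (hC E).1 (resForm_mem_WD hK φ hφ fun Q => by
    rw [vDiff_le_iff hK hg φ hφ hu hx, hE, Finsupp.add_apply, Finsupp.single_apply]
    split_ifs with h
    · subst h; omega
    · have := hle Q; omega)
  have := hEC P
  rw [hE, Finsupp.add_apply, Finsupp.single_eq_same] at this
  omega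

include hg in
theorem existsUnique_resForm {x : K} (hx : KaehlerDifferential.D k K x ≠ 0) (ω : Module.Dual k (adele k K))
    (hω : IsWeil ω) : ∃! u : K, resForm hK φ hφ u x = ω := by
  have h : ∀ (y : K), ∀ a ∈ adele k K, y • a ∈ adele k K := fun y a ha => smul_mem_adele hK y ha
  obtain ⟨z, hz⟩ := exists_mulW_eq hK h (isWeil_resForm hK φ hφ 1 x)
    (resForm_ne_zero hK hg φ hφ one_ne_zero hx) hω
  refine ⟨z, ?_, fun z' hz' => ?_⟩
  · show resForm hK φ hφ z x = ω
    rw [← hz]
    refine LinearMap.ext fun a => ?_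
    rw [resForm_apply]
    show _ = resForm hK φ hφ 1 x ⟨z • (a : Place k K → K), _⟩
    rw [resForm_apply]
    refine finsum_congr fun P => ?_
    show _ = LocRes.locRes (φ P) (z * (a : Place k K → K) P * 1) x
    rw [mul_one, mul_comm]
  · by_contra hne
    refine resForm_ne_zero hK hg φ hφ (sub_ne_zero.2 hne) hx (LinearMap.ext fun a => ?_)
    have h2 : ω = resForm hK φ hφ z x := by
      rw [← hz]
      refine LinearMap.ext fun a => ?_
      show resForm hK φ hφ 1 x ⟨z • (a : Place k K → K), _⟩ = _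
      rw [resForm_apply, resForm_apply]
      refine finsum_congr fun P => ?_
      show LocRes.locRes (φ P) (z * (a : Place k K → K) P * 1) x = _
      rw [mul_one, mul_comm]
    have h3 : resForm hK φ hφ z' x a = resForm hK φ hφ z x a := by rw [hz', h2]
    rw [resForm_apply, resForm_apply] at h3
    rw [resForm_apply, LinearMap.zero_apply]
    have e : ∀ P, LocRes.locRes (φ P) ((a : Place k K → K) P * (z' - z)) x =
        LocRes.locRes (φ P) ((a : Place k K → K) P * z') x - LocRes.locRes (φ P) ((a : Place k K → K) P * z) x := by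
      intro P
      rw [eq_sub_iff_add_eq, ← locRes_add, ← mul_add, sub_add_cancel]
    rw [finsum_congr e, finsum_sub_distrib (finite_locRes_adele hK φ hφ a z' x) (finite_locRes_adele hK φ hφ a z x),
      h3, sub_self]

/-- `u ↦ Res (· u dx)`. -/
def resHom (x : K) : K →ₗ[k] Module.Dual k (adele k K) where
  toFun u := resForm hK φ hφ u x
  map_add' u v := LinearMap.ext fun a => by
    rw [LinearMap.add_apply, resForm_apply, resForm_apply, resForm_apply,
      ← finsum_add_distrib (finite_locRes_adele hK φ hφ a u x) (finite_locRes_adele hK φ hφ a v x)]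
    exact finsum_congr fun P => by rw [mul_add, locRes_add]
  map_smul' c u := LinearMap.ext fun a => by
    rw [RingHom.id_apply, LinearMap.smul_apply, resForm_apply, resForm_apply, smul_eq_mul,
      mul_finsum' _ _ (finite_locRes_adele hK φ hφ a u x)]
    exact finsum_congr fun P => by rw [Algebra.mul_smul_comm, locRes_smul]

include hg in
theorem setOf_vDiff_le_eq {x : K} (hx : KaehlerDifferential.D k K x ≠ 0) (D : Divisor k K) :
    {y : K | ∀ P, LocRes.vDiff (φ P) y x ≤ exp (-(D P))} = ↑((WD D).comap (resHom hK φ hφ x)) := by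
  ext y
  simp only [Set.mem_setOf_eq, SetLike.mem_coe, Submodule.mem_comap]
  rcases eq_or_ne y 0 with rfl | hy
  · exact ⟨fun _ => by rw [map_zero]; exact zero_mem _, fun _ P => by simp [LocRes.vDiff]⟩
  obtain ⟨C, hC, hCdiv⟩ := exists_div_resForm hK hg φ hφ hy hx
  refine ⟨fun h => resForm_mem_WD hK φ hφ h, fun h P => ?_⟩
  rw [vDiff_le_iff hK hg φ hφ hy hx, ← hC P]
  exact (hCdiv D).1 h P

include hK hg hφ in
theorem finrank_span_vDiff_le {x : K} (hx : KaehlerDifferential.D k K x ≠ 0) (D : Divisor k K) :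
    Module.finrank k (Submodule.span k {y : K | ∀ P, LocRes.vDiff (φ P) y x ≤ exp (-(D P))}) =
      Module.finrank k (WD D) := by
  rw [setOf_vDiff_le_eq hK hg φ hφ hx D, Submodule.span_eq]
  have hinj : Function.Injective (resHom hK φ hφ x) := (injective_iff_map_eq_zero _).2 fun y hy => by
    by_contra h
    exact resForm_ne_zero hK hg φ hφ h hx hy
  have hle : WD D ≤ LinearMap.range (resHom hK φ hφ x) := fun ω hω => by
    obtain ⟨u, hu, -⟩ := existsUnique_resForm hK hg φ hφ hx ω ⟨D, hω⟩
    exact ⟨u, hu⟩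
  exact (LinearEquiv.trans (Submodule.equivMapOfInjective _ hinj _)
    (LinearEquiv.ofEq _ _ (Submodule.map_comap_eq_self hle))).finrank_eq

include hK hg hφ in
theorem finrank_regular {x : K} (hx : KaehlerDifferential.D k K x ≠ 0) :
    Module.finrank k (Submodule.span k {y : K | ∀ P, LocRes.vDiff (φ P) y x ≤ 1}) = genus k K := by
  have h := finrank_span_vDiff_le hK hg φ hφ hx 0
  have e : ∀ P : Place k K, exp (-((0 : Divisor k K) P)) = 1 := fun P => by simp
  have es : {y : K | ∀ P, LocRes.vDiff (φ P) y x ≤ 1} =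
      {y : K | ∀ P, LocRes.vDiff (φ P) y x ≤ exp (-((0 : Divisor k K) P))} := by
    ext y; exact forall_congr' fun P => by rw [e]
  rw [es]
  rw [h]
  have h2 := (WD_finrank hK (0 : Divisor k K)).2
  rw [delta, deg_zero, ell_zero hK] at h2
  omega

include hK hg hφ in
theorem regular_genus_one (h1 : genus k K = 1) {v : K} (hv : KaehlerDifferential.D k K v ≠ 0) :
    (∃ u : K, u ≠ 0 ∧ ∀ P, LocRes.vDiff (φ P) u v = 1) ∧
      ∀ u u' : K, u ≠ 0 → (∀ P, LocRes.vDiff (φ P) u v = 1) → (∀ P, LocRes.vDiff (φ P) u' v = 1) →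
        ∃ c : k, u' = c • u := by
  have hfr := finrank_regular hK hg φ hφ hv
  rw [h1] at hfr
  set W := Submodule.span k {y : K | ∀ P, LocRes.vDiff (φ P) y v ≤ 1} with hW
  have hWmem : ∀ y, y ∈ W → ∀ P, LocRes.vDiff (φ P) y v ≤ 1 := by
    intro y hy
    have hset := setOf_vDiff_le_eq hK hg φ hφ hv 0
    have e : ∀ P : Place k K, exp (-((0 : Divisor k K) P)) = 1 := fun P => by simp
    simp only [e] at hset
    rw [hW, hset, Submodule.span_eq, ← SetLike.mem_coe, ← hset] at hy
    exact hy
  haveI : FiniteDimensional k W := FiniteDimensional.of_finrank_pos (by rw [hfr]; exact one_pos)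
  haveI : Nontrivial W := Module.nontrivial_of_finrank_pos (R := k) (by rw [hfr]; exact one_pos)
  obtain ⟨⟨u, hu⟩, hne⟩ := exists_ne (0 : W)
  have hu0 : u ≠ 0 := fun h => hne (Subtype.ext h)
  obtain ⟨C, hC, hCdiv⟩ := exists_div_resForm hK hg φ hφ hu0 hv
  have hC0 : (0 : Divisor k K) = C := by
    refine eq_of_le_of_deg hK (fun P => ?_) ?_
    · rw [hC, Finsupp.coe_zero, Pi.zero_apply, ← vDiff_le_iff hK hg φ hφ hu0 hv, neg_zero, exp_zero]
      exact hWmem u hu P
    · rw [(ell_canonical hK ⟨_, resForm_ne_zero hK hg φ hφ hu0 hv, hCdiv⟩).2, h1, deg_zero]; norm_num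
  refine ⟨⟨u, hu0, fun P => ?_⟩, fun a b ha0 ha hb => ?_⟩
  · have h0 := hC P
    rw [← hC0, Finsupp.coe_zero, Pi.zero_apply, LocRes.ordDiff] at h0
    rw [← exp_log (vDiff_ne_zero hK hg φ hφ hu0 hv P), show (LocRes.vDiff (φ P) u v).log = 0 by omega, exp_zero]
  · obtain ⟨c, hc⟩ := (finrank_eq_one_iff_of_nonzero' (⟨a, Submodule.subset_span fun P => (ha P).le⟩ : W)
      fun h => ha0 (congrArg Subtype.val h)).1 hfr ⟨b, Submodule.subset_span fun P => (hb P).le⟩
    exact ⟨c, (congrArg Subtype.val hc).symm⟩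

end Groth.Agent.FunFld.Residue
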