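import Mathlib.LinearAlgebra.Trace
import Mathlib.LinearAlgebra.Quotient.Basic
import Mathlib.LinearAlgebra.Projection
import Mathlib.RingTheory.Nilpotent.Defs

/-!
Traces of operators with finite-dimensional windows, and Tate's commutator lemma.
-/

set_option autoImplicit false

noncomputable section

namespace Groth.Agent.FunFld.Residue

variable {k V Y : Type*} [Field k] [AddCommGroup V] [Module k V] [AddCommGroup Y] [Module k Y]

abbrev Win (B C : Submodule k V) := ↥B ⧸ C.submoduleOf B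

def Stable (B C : Submodule k V) (θ : V →ₗ[k] V) : Prop := (∀ x ∈ B, θ x ∈ B) ∧ ∀ x ∈ C, θ x ∈ C

def induced (B C B' C' : Submodule k V) (a : V →ₗ[k] V) (hB : ∀ x ∈ B, a x ∈ B') (hC : ∀ x ∈ C, a x ∈ C') :
    Win B C →ₗ[k] Win B' C' :=
  Submodule.mapQ _ _ (a.restrict hB) fun x hx => hC x hx

theorem induced_mk (B C B' C' : Submodule k V) (a : V →ₗ[k] V) (hB : ∀ x ∈ B, a x ∈ B') (hC : ∀ x ∈ C, a x ∈ C')
    (x : V) (hx : x ∈ B) : induced B C B' C' a hB hC (Submodule.Quotient.mk ⟨x, hx⟩) =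
      Submodule.Quotient.mk ⟨a x, hB x hx⟩ := rfl

open scoped Classical in
/-- The trace of `θ` on `B / C`. -/
def wtr (B C : Submodule k V) (θ : V →ₗ[k] V) : k :=
  if h : Stable B C θ then LinearMap.trace k (Win B C) (induced B C B C θ h.1 h.2) else 0

theorem wtr_of_stable {B C : Submodule k V} {θ : V →ₗ[k] V} (h : Stable B C θ) :
    wtr B C θ = LinearMap.trace k (Win B C) (induced B C B C θ h.1 h.2) := dif_pos h

theorem wtr_congr {B C : Submodule k V} {θ θ' : V →ₗ[k] V} (h : Stable B C θ) (h' : Stable B C θ')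
    (he : ∀ x ∈ B, θ x - θ' x ∈ C) : wtr B C θ = wtr B C θ' := by
  rw [wtr_of_stable h, wtr_of_stable h']
  congr 1
  refine LinearMap.ext fun z => ?_
  obtain ⟨⟨x, hx⟩, rfl⟩ := Submodule.Quotient.mk_surjective _ z
  rw [induced_mk, induced_mk, Submodule.Quotient.eq]
  exact he x hx

theorem wtr_sub {B C : Submodule k V} {θ θ' : V →ₗ[k] V} (h : Stable B C θ) (h' : Stable B C θ') :
    wtr B C (θ - θ') = wtr B C θ - wtr B C θ' := by
  have h2 : Stable B C (θ - θ') :=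
    ⟨fun x hx => sub_mem (h.1 x hx) (h'.1 x hx), fun x hx => sub_mem (h.2 x hx) (h'.2 x hx)⟩
  rw [wtr_of_stable h, wtr_of_stable h', wtr_of_stable h2, ← map_sub]
  congr 1
  refine LinearMap.ext fun z => ?_
  obtain ⟨⟨x, hx⟩, rfl⟩ := Submodule.Quotient.mk_surjective _ z
  rfl

theorem cyc {B₁ C₁ B₂ C₂ : Submodule k V} [FiniteDimensional k (Win B₁ C₁)] [FiniteDimensional k (Win B₂ C₂)]
    (a b : V →ₗ[k] V) (haB : ∀ x ∈ B₁, a x ∈ B₂) (haC : ∀ x ∈ C₁, a x ∈ C₂)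
    (hbB : ∀ x ∈ B₂, b x ∈ B₁) (hbC : ∀ x ∈ C₂, b x ∈ C₁) :
    wtr B₁ C₁ (b ∘ₗ a) = wtr B₂ C₂ (a ∘ₗ b) := by
  rw [wtr_of_stable (θ := b ∘ₗ a) ⟨fun x hx => hbB _ (haB x hx), fun x hx => hbC _ (haC x hx)⟩,
    wtr_of_stable (θ := a ∘ₗ b) ⟨fun x hx => haB _ (hbB x hx), fun x hx => haC _ (hbC x hx)⟩]
  refine Eq.trans ?_ ((LinearMap.trace_comp_comm' (induced B₁ C₁ B₂ C₂ a haB haC)
    (induced B₂ C₂ B₁ C₁ b hbB hbC)).trans ?_)
  · congr 1
    refine LinearMap.ext fun z => ?_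
    obtain ⟨⟨x, hx⟩, rfl⟩ := Submodule.Quotient.mk_surjective _ z
    rfl
  · congr 1
    refine LinearMap.ext fun z => ?_
    obtain ⟨⟨x, hx⟩, rfl⟩ := Submodule.Quotient.mk_surjective _ z
    rfl

theorem cyc_coord {B C : Submodule k V} [FiniteDimensional k (Win B C)] [FiniteDimensional k Y]
    (a : V →ₗ[k] Y) (b : Y →ₗ[k] V) (haC : ∀ x ∈ C, a x = 0) (hb : ∀ y, b y ∈ B) :
    wtr B C (b ∘ₗ a) = LinearMap.trace k Y (a ∘ₗ b) := by
  have hs : Stable B C (b ∘ₗ a) :=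
    ⟨fun x _ => hb _, fun x hx => by rw [LinearMap.comp_apply, haC x hx, map_zero]; exact zero_mem _⟩
  rw [wtr_of_stable hs]
  let a' : Win B C →ₗ[k] Y := Submodule.liftQ _ (a ∘ₗ B.subtype) fun x hx => haC x hx
  let b' : Y →ₗ[k] Win B C := (C.submoduleOf B).mkQ ∘ₗ b.codRestrict B hb
  refine Eq.trans ?_ ((LinearMap.trace_comp_comm' a' b').trans ?_)
  · congr 1
    refine LinearMap.ext fun z => ?_
    obtain ⟨⟨x, hx⟩, rfl⟩ := Submodule.Quotient.mk_surjective _ z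
    rfl
  · congr 1

/-- Filtration by lattices. -/
structure IsFilt (B : ℤ → Submodule k V) : Prop where
  anti : Antitone B
  fin : ∀ a b, FiniteDimensional k (Win (B a) (B b))

/-- `θ` is small of level `N`. -/
def Small (B : ℤ → Submodule k V) (N : ℕ) (θ : V →ₗ[k] V) : Prop :=
  (∀ x, θ x ∈ B (-(N : ℤ))) ∧ ∀ x ∈ B N, θ x = 0

variable {B : ℤ → Submodule k V}

theorem Small.stable {N : ℕ} {θ : V →ₗ[k] V} (h : Small B N θ) (hB : IsFilt B) {a b : ℤ}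
    (ha : a ≤ -(N : ℤ)) (hb : (N : ℤ) ≤ b) : Stable (B a) (B b) θ :=
  ⟨fun x _ => hB.anti ha (h.1 x), fun x hx => by rw [h.2 x (hB.anti hb hx)]; exact zero_mem _⟩

theorem wtr_indep (hB : IsFilt B) {N : ℕ} {θ : V →ₗ[k] V} (h : Small B N θ) {a b : ℤ}
    (ha : a ≤ -(N : ℤ)) (hb : (N : ℤ) ≤ b) : wtr (B a) (B b) θ = wtr (B (-(N : ℤ))) (B N) θ := by
  haveI := hB.fin a b
  haveI := hB.fin (-(N : ℤ)) b
  haveI := hB.fin (-(N : ℤ)) N
  have h1 : wtr (B (-(N : ℤ))) (B b) θ = wtr (B (-(N : ℤ))) (B N) θ := by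
    have := cyc (B₁ := B (-(N : ℤ))) (C₁ := B b) (B₂ := B (-(N : ℤ))) (C₂ := B N) LinearMap.id θ
      (fun x hx => hx) (fun x hx => hB.anti hb hx) (fun x _ => h.1 x)
      (fun x hx => by rw [h.2 x hx]; exact zero_mem _)
    rwa [LinearMap.comp_id, LinearMap.id_comp] at this
  have h2 : wtr (B (-(N : ℤ))) (B b) θ = wtr (B a) (B b) θ := by
    have := cyc (B₁ := B (-(N : ℤ))) (C₁ := B b) (B₂ := B a) (C₂ := B b) LinearMap.id θ
      (fun x hx => hB.anti ha hx) (fun x hx => hx) (fun x _ => h.1 x)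
      (fun x hx => by rw [h.2 x (hB.anti hb hx)]; exact zero_mem _)
    rwa [LinearMap.comp_id, LinearMap.id_comp] at this
  exact h2.symm.trans h1

theorem Small.mono (hB : IsFilt B) {N M : ℕ} (hNM : N ≤ M) {θ : V →ₗ[k] V} (h : Small B N θ) : Small B M θ :=
  ⟨fun x => hB.anti (by omega) (h.1 x), fun x hx => h.2 x (hB.anti (by omega) hx)⟩

/-- Tate's lemma: the commutator of `π f` and `g` has trace zero when a discrete cocompact subspace is stable. -/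
theorem wtr_commutator_eq_zero (hB : IsFilt B) (R : Submodule k V) (π : V →ₗ[k] V)
    (hπ0 : ∀ x, π x ∈ B 0) (hπ1 : ∀ x ∈ B 0, π x = x) (f g : V →ₗ[k] V) (s : ℕ)
    (hf : ∀ a, ∀ x ∈ B a, f x ∈ B (a - s)) (hg : ∀ a, ∀ x ∈ B a, g x ∈ B (a - s))
    (hfg : ∀ x, f (g x) = g (f x)) (hfR : ∀ r ∈ R, f r ∈ R) (hgR : ∀ r ∈ R, g r ∈ R)
    (M : ℕ) (hinj : R ⊓ B M = ⊥) (hsup : R ⊔ B (-(M : ℤ)) = ⊤) {N : ℕ} (hN : 2 * s ≤ N) :
    wtr (B (-(N : ℤ))) (B N) (π ∘ₗ f ∘ₗ g - g ∘ₗ π ∘ₗ f) = 0 := by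
  -- a complement of `R` which is commensurable with `B 0`
  obtain ⟨A, hAc, hAle, hAge⟩ : ∃ A, IsCompl A R ∧ A ≤ B (-(M : ℤ)) ∧ B M ≤ A := by
    obtain ⟨C, hC⟩ := Submodule.exists_isCompl (R ⊓ B (-(M : ℤ)) ⊔ B M)
    have hMB : B M ≤ B (-(M : ℤ)) := hB.anti (by omega)
    refine ⟨B M ⊔ C ⊓ B (-(M : ℤ)), ⟨?_, ?_⟩, sup_le hMB inf_le_right, le_sup_left⟩
    · rw [Submodule.disjoint_def]
      intro x hxA hxR
      obtain ⟨a, ha, c, hc, rfl⟩ := Submodule.mem_sup.mp hxA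
      have hc0 : c = 0 := by
        have h1 : c ∈ R ⊓ B (-(M : ℤ)) ⊔ B M := by
          rw [show c = (a + c) - a by abel]
          exact sub_mem (Submodule.mem_sup_left ⟨hxR, add_mem (hMB ha) hc.2⟩) (Submodule.mem_sup_right ha)
        exact Submodule.disjoint_def.mp hC.disjoint c h1 hc.1
      subst hc0
      rw [add_zero] at hxR ⊢
      exact (Submodule.mem_bot k).mp (hinj ▸ (⟨hxR, ha⟩ : a ∈ R ⊓ B M))
    · rw [codisjoint_iff_le_sup, ← hsup]
      refine sup_le le_sup_right fun x hx => ?_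
      obtain ⟨d, hd, c, hc, rfl⟩ := Submodule.mem_sup.mp (hC.sup_eq_top.ge (Submodule.mem_top : x ∈ ⊤))
      obtain ⟨r, hr, a, ha, rfl⟩ := Submodule.mem_sup.mp hd
      have hcB : c ∈ B (-(M : ℤ)) := by
        rw [show c = (r + a + c) - r - a by abel]
        exact sub_mem (sub_mem hx hr.2) (hMB ha)
      rw [show r + a + c = (a + c) + r by abel]
      exact Submodule.add_mem_sup (Submodule.add_mem_sup ha ⟨hc, hcB⟩) hr.1
  let π' : V →ₗ[k] V := A.subtype ∘ₗ A.projectionOnto R hAc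
  have hπ'mem : ∀ x, π' x ∈ A := fun x => (A.projectionOnto R hAc x).2
  have hπ'id : ∀ x ∈ A, π' x = x := fun x hx => by
    simp only [π', LinearMap.comp_apply, Submodule.coe_subtype]
    exact congrArg Subtype.val (Submodule.projectionOnto_apply_left hAc ⟨x, hx⟩)
  have hπ'R : ∀ x ∈ R, π' x = 0 := fun x hx => by
    simp only [π', LinearMap.comp_apply, Submodule.coe_subtype]
    exact congrArg Subtype.val (Submodule.projectionOnto_apply_eq_zero_iff hAc |>.mpr hx)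
  have hπ'sub : ∀ x, x - π' x ∈ R := fun x => by
    obtain ⟨a, ha, r, hr, rfl⟩ := Submodule.mem_sup.mp (hAc.sup_eq_top.ge (Submodule.mem_top : x ∈ ⊤))
    rw [map_add, hπ'id a ha, hπ'R r hr, add_zero, add_sub_cancel_left]
    exact hr
  -- the auxiliary commutator squares to zero
  have habs : ∀ h : V →ₗ[k] V, (∀ r ∈ R, h r ∈ R) → ∀ x, π' (h (π' x)) = π' (h x) := fun h hh x => by
    have := hπ'R _ (hh _ (hπ'sub x))
    rw [map_sub, map_sub, sub_eq_zero] at this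
    exact this.symm
  set θ := π ∘ₗ f ∘ₗ g - g ∘ₗ π ∘ₗ f
  set θ' := π' ∘ₗ f ∘ₗ g - g ∘ₗ π' ∘ₗ f with hθ'
  set δ := π - π' with hδ
  set L := 2 * M + 2 * s + N with hL
  have hθs : Small B N θ := by
    refine ⟨fun x => ?_, fun x hx => ?_⟩
    · refine sub_mem (hB.anti (by omega) (hπ0 _)) (hB.anti ?_ (hg _ _ (hπ0 _)))
      omega
    · have h1 : f x ∈ B s := hB.anti (by omega) (hf _ x hx)
      have h2 : f (g x) ∈ B 0 := hB.anti (by omega) (hf _ _ (hg _ x hx))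
      show π (f (g x)) - g (π (f x)) = 0
      rw [hπ1 _ h2, hπ1 _ (hB.anti (by omega) h1), hfg, sub_self]
  have hδ0 : ∀ x, δ x ∈ B (-(M : ℤ)) := fun x =>
    sub_mem (hB.anti (by omega) (hπ0 x)) (hAle (hπ'mem x))
  have hδ1 : ∀ x ∈ B M, δ x = 0 := fun x hx => by
    show π x - π' x = 0
    rw [hπ1 x (hB.anti (by omega) hx), hπ'id x (hAge hx), sub_self]
  have hs1 : Small B L ((δ ∘ₗ f) ∘ₗ g) := by
    refine ⟨fun x => hB.anti (by omega) (hδ0 _), fun x hx => hδ1 _ (hB.anti ?_ (hf _ _ (hg _ x hx)))⟩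
    omega
  have hs2 : Small B L (g ∘ₗ (δ ∘ₗ f)) := by
    refine ⟨fun x => hB.anti ?_ (hg _ _ (hδ0 _)), fun x hx => ?_⟩
    · omega
    · show g (δ (f x)) = 0
      rw [hδ1 _ (hB.anti (by omega) (hf _ x hx)), map_zero]
  have hst : Stable (B (-(L : ℤ))) (B L) θ := hθs.stable hB (by omega) (by omega)
  have hst1 := hs1.stable hB (a := -(L : ℤ)) (b := L) le_rfl le_rfl
  have hst2 := hs2.stable hB (a := -(L : ℤ)) (b := L) le_rfl le_rfl
  have hst' : Stable (B (-(L : ℤ))) (B L) ((δ ∘ₗ f) ∘ₗ g - g ∘ₗ (δ ∘ₗ f)) :=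
    ⟨fun x hx => sub_mem (hst1.1 x hx) (hst2.1 x hx), fun x hx => sub_mem (hst1.2 x hx) (hst2.2 x hx)⟩
  have heq : θ' = θ - ((δ ∘ₗ f) ∘ₗ g - g ∘ₗ (δ ∘ₗ f)) := by
    ext x
    simp only [θ, hθ', hδ, LinearMap.sub_apply, LinearMap.comp_apply, map_sub]
    abel
  have hst'' : Stable (B (-(L : ℤ))) (B L) θ' := by
    rw [heq]
    exact ⟨fun x hx => sub_mem (hst.1 x hx) (hst'.1 x hx), fun x hx => sub_mem (hst.2 x hx) (hst'.2 x hx)⟩
  have hzero : wtr (B (-(L : ℤ))) (B L) θ' = 0 := by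
    rw [wtr_of_stable hst'']
    refine (LinearMap.isNilpotent_trace_of_isNilpotent ⟨2, ?_⟩).eq_zero
    refine LinearMap.ext fun z => ?_
    obtain ⟨⟨x, hx⟩, rfl⟩ := Submodule.Quotient.mk_surjective _ z
    rw [pow_two, Module.End.mul_apply, LinearMap.zero_apply, induced_mk, induced_mk, ← Submodule.Quotient.mk_zero]
    congr 1
    apply Subtype.ext
    show θ' (θ' x) = 0
    have hR : θ' x ∈ R := by
      have h1 : π' (θ' x) = 0 := by
        show π' (π' (f (g x)) - g (π' (f x))) = 0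
        rw [map_sub, hπ'id _ (hπ'mem _), habs g hgR, hfg, sub_self]
      have := hπ'sub (θ' x)
      rwa [h1, sub_zero] at this
    show π' (f (g (θ' x))) - g (π' (f (θ' x))) = 0
    rw [hπ'R _ (hfR _ (hgR _ hR)), hπ'R _ (hfR _ hR), map_zero, sub_self]
  rw [← wtr_indep hB hθs (a := -(L : ℤ)) (b := L) (by omega) (by omega)]
  rw [heq, wtr_sub hst hst', wtr_sub hst1 hst2] at hzero
  haveI := hB.fin (-(L : ℤ) - s) L
  haveI := hB.fin (-(L : ℤ)) ((L : ℤ) + s)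
  have hc := cyc (B₁ := B (-(L : ℤ) - s)) (C₁ := B L) (B₂ := B (-(L : ℤ))) (C₂ := B ((L : ℤ) + s)) (δ ∘ₗ f) g
    (fun x _ => hB.anti (by omega) (hδ0 _))
    (fun x hx => by
      show δ (f x) ∈ _
      rw [hδ1 _ (hB.anti (by omega) (hf _ x hx))]
      exact zero_mem _)
    (fun x hx => hg _ x hx)
    (fun x hx => hB.anti (by omega) (hg _ x hx))
  rw [wtr_indep hB hs2 (by omega) le_rfl, wtr_indep hB hs1 le_rfl (by omega)] at hc
  rw [hc, sub_self, sub_zero] at hzero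
  exact hzero

end Groth.Agent.FunFld.Residue
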